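import Cfsg.Agent.AschbacherTwelve.Symplectic
import Cfsg.Agent.CharTwo.AlternatingForm

/-!
The maximal subgroups of symplectic groups in dimension twice an odd prime: the reduction.
-/

set_option autoImplicit false
set_option maxHeartbeats 1000000
set_option linter.unusedSectionVars false
set_option linter.style.haveILetI false

namespace CfsgLib.AschbacherSymplectic57

open Matrix CfsgLib.Aschbacher CfsgLib.AschbacherForms CfsgLib.AschbacherSymplectic
open scoped Kronecker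

attribute [-simp] RingEquiv.coe_refl

section general

variable {ι : Type} [Fintype ι] [DecidableEq ι] {F : Type*} [Field F]

/-- A subspace stable under a field of degree `r` has dimension divisible by `r`. -/
theorem finrank_dvd_of_invariant [Nonempty ι] {r : ℕ} {K : Subalgebra F (Matrix ι ι F)}
    (hK : Cfsg.Geo.IsFieldSubalgebra r K) (W : Submodule F (ι → F))
    (hW : ∀ k ∈ K, ∀ w ∈ W, k *ᵥ w ∈ W) : r ∣ Module.finrank F W := by
  let e : Matrix ι ι F →ₐ[F] Module.End F (ι → F) := Matrix.toLinAlgEquiv'.toAlgHom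
  have he : Function.Injective e := Matrix.toLinAlgEquiv'.injective
  let K' : Subalgebra F (Module.End F (ι → F)) := K.map e
  have hKf : IsField K' :=
    { exists_pair_ne := ⟨0, 1, zero_ne_one⟩
      mul_comm := by
        rintro ⟨x', x, hx, rfl⟩ ⟨y', y, hy, rfl⟩
        apply Subtype.ext
        change e x * e y = e y * e x
        rw [← map_mul, ← map_mul, hK.comm x hx y hy]
      mul_inv_cancel := by
        rintro ⟨x', x, hx, rfl⟩ hx0
        have hx0' : x ≠ 0 := by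
          rintro rfl
          exact hx0 (Subtype.ext (map_zero e))
        obtain ⟨y, hy, hxy⟩ := hK.inv x hx hx0'
        refine ⟨⟨e y, y, hy, rfl⟩, Subtype.ext ?_⟩
        change e x * e y = 1
        rw [← map_mul, hxy, map_one] }
  have hr : Module.finrank F K' = r := by
    rw [← hK.finrank_eq]
    exact (LinearEquiv.finrank_eq (Subalgebra.equivMapOfInjective K e he).toLinearEquiv).symm
  letI : Field K' := hKf.toField
  let W' : Submodule K' (ι → F) :=
    { carrier := W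
      add_mem' := fun ha hb => W.add_mem ha hb
      zero_mem' := W.zero_mem
      smul_mem' := by
        rintro ⟨x', x, hx, rfl⟩ w hw
        show e x w ∈ W
        rw [show e x w = x *ᵥ w from Matrix.toLinAlgEquiv'_apply x w]
        exact hW x hx w hw }
  have h := Module.finrank_mul_finrank F K' W'
  have h2 : Module.finrank F W' = Module.finrank F W := by
    have h3 : W'.restrictScalars F = W := Submodule.ext fun _ => Iff.rfl
    conv_rhs => rw [← h3]
    rfl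
  rw [hr, h2] at h
  exact ⟨_, h.symm⟩

/-- A self-adjoint field forces half of the dimension to be a multiple of its degree. -/
theorem dvd_half_of_selfAdjoint [Fintype F] [Nonempty ι] {ε : F} {f : (ι → F) → (ι → F) → F}
    (hf : IsReflexive (RingEquiv.refl F) ε f) {r : ℕ} {K : Subalgebra F (Matrix ι ι F)}
    (hK : Cfsg.Geo.IsFieldSubalgebra r K) (hadj : ∀ k ∈ K, adj (RingEquiv.refl F) f k = k)
    (halt : ∀ k ∈ K, ∀ v : ι → F, f (k *ᵥ v) v = 0) :
    ∃ n : ℕ, 2 * n = Fintype.card ι ∧ r ∣ n := by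
  classical
  let S : Set (Submodule F (ι → F)) :=
    {W | Cfsg.Geo.IsTotallySingularFor f W ∧ ∀ k ∈ K, ∀ w ∈ W, k *ᵥ w ∈ W}
  have hne : S.Nonempty := ⟨⊥, fun u hu v hv => by
    rw [(Submodule.mem_bot F).1 hv, hf.zero_right], fun k _ w hw => by
    rw [(Submodule.mem_bot F).1 hw, Matrix.mulVec_zero]; exact Submodule.zero_mem _⟩
  obtain ⟨W, ⟨hts, hinv⟩, hmax⟩ :=
    (wellFounded_gt (α := Submodule F (ι → F))).has_min S hne
  have hsw : ∀ k ∈ K, ∀ u v : ι → F, f (k *ᵥ u) v = f u (k *ᵥ v) := fun k hk u v => by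
    rw [hf.adj_spec, hadj k hk]
  have hle : W ≤ hf.perp W := fun u hu w hw => hts u hu w hw
  have heq : hf.perp W = W := by
    refine le_antisymm (fun v hv => ?_) hle
    by_contra hvW
    let L : Submodule F (ι → F) :=
      { carrier := {x | ∃ k ∈ K, k *ᵥ v = x}
        add_mem' := by
          rintro a b ⟨k, hk, rfl⟩ ⟨l, hl, rfl⟩
          exact ⟨k + l, K.add_mem hk hl, Matrix.add_mulVec k l v⟩
        zero_mem' := ⟨0, K.zero_mem, Matrix.zero_mulVec v⟩
        smul_mem' := by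
          rintro c a ⟨k, hk, rfl⟩
          exact ⟨c • k, K.smul_mem hk c, Matrix.smul_mulVec c k v⟩ }
    have hvL : v ∈ L := ⟨1, K.one_mem, Matrix.one_mulVec v⟩
    refine hmax (W ⊔ L) ⟨?_, ?_⟩ (lt_of_le_of_ne le_sup_left fun h =>
      hvW (h.symm ▸ Submodule.mem_sup_right hvL))
    · intro u hu w hw
      obtain ⟨a, ha, x, ⟨k, hk, rfl⟩, rfl⟩ := Submodule.mem_sup.1 hu
      obtain ⟨b, hb, y, ⟨l, hl, rfl⟩, rfl⟩ := Submodule.mem_sup.1 hw
      have e1 : f a b = 0 := hts a ha b hb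
      have e2 : f a (l *ᵥ v) = 0 := by rw [← hsw l hl]; exact hf.orth_comm (hv _ (hinv l hl a ha))
      have e3 : f (k *ᵥ v) b = 0 := by rw [hsw k hk]; exact hv _ (hinv k hk b hb)
      have e4 : f (k *ᵥ v) (l *ᵥ v) = 0 := by
        rw [← hsw l hl, Matrix.mulVec_mulVec]; exact halt _ (K.mul_mem hl hk) v
      rw [hf.sesq.add_left, hf.sesq.add_right, hf.sesq.add_right, e1, e2, e3, e4, add_zero, add_zero]
    · intro k hk w hw
      obtain ⟨a, ha, x, ⟨l, hl, rfl⟩, rfl⟩ := Submodule.mem_sup.1 hw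
      rw [Matrix.mulVec_add, Matrix.mulVec_mulVec]
      exact Submodule.add_mem_sup (hinv k hk a ha) ⟨k * l, K.mul_mem hk hl, rfl⟩
  have hdim := hf.finrank_perp W
  rw [heq] at hdim
  exact ⟨Module.finrank F W, by omega, finrank_dvd_of_invariant hK W hinv⟩

/-- The two factors of a bilinear form with sign `-1`, away from characteristic two. -/
theorem factor_signs [Nonempty ι] {f : (ι → F) → (ι → F) → F} (hf : IsReflexive (RingEquiv.refl F) (-1) f)
    {k d : ℕ} {e : ι ≃ Fin k × Fin d} {P : GL ι F}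
    {S : Matrix (Fin k) (Fin k) F} {T : Matrix (Fin d) (Fin d) F} (hS0 : S ≠ 0) (hT0 : T ≠ 0)
    (hform : ∀ x y : Fin k × Fin d → F, f (mat P *ᵥ (x ∘ e)) (mat P *ᵥ (y ∘ e)) =
      Cfsg.Geo.formOfGram (RingEquiv.refl F) (S ⊗ₖ T) x y) :
    (Sᵀ = -S ∧ Tᵀ = T) ∨ (Sᵀ = S ∧ Tᵀ = -T) := by
  obtain ⟨a, b, ha, hSa, hTb, hab⟩ := factors_reflexive hf hS0 hT0 hform
  have hrefl : ∀ {n : ℕ} (M : Matrix (Fin n) (Fin n) F), Mᵀ.map (RingEquiv.refl F) = Mᵀ :=
    fun M => Matrix.ext fun _ _ => rfl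
  rw [hrefl] at hSa hTb
  obtain ⟨i, j, hij⟩ : ∃ i j, S i j ≠ 0 := by
    by_contra hn; push Not at hn; exact hS0 (Matrix.ext hn)
  have e1 : S j i = a * S i j := congrFun (congrFun hSa i) j
  have e2 : S i j = a * S j i := congrFun (congrFun hSa j) i
  have h3 : (a * a - 1) * S i j = 0 := by linear_combination -e2 - a * e1
  have h4 := (mul_eq_zero.1 h3).resolve_right hij
  rcases mul_self_eq_one_iff.1 (sub_eq_zero.1 h4) with h | h <;> subst h
  · refine Or.inr ⟨by rw [hSa, one_smul], ?_⟩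
    rw [hTb, show b = -1 by linear_combination -hab, neg_one_smul]
  · refine Or.inl ⟨by rw [hSa, neg_one_smul], ?_⟩
    rw [hTb, show b = 1 by linear_combination hab, one_smul]

/-- The outcomes of the reduction in dimension twice an odd prime. -/
theorem star_reduction_twice_prime [Fintype F] {p : ℕ} (hp : p.Prime) (hodd : Odd p)
    (hcard : Fintype.card ι = 2 * p) {σ : F ≃+* F} {ε : F}
    {f : (ι → F) → (ι → F) → F} (hf : IsReflexive σ ε f) {H : Subgroup (GL ι F)}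
    (hfix : Cfsg.Geo.FixesForm (Cfsg.Geo.matrixSet H) f)
    (hirr : Cfsg.Geo.ActsIrreducibly (Cfsg.Geo.matrixSet H)) :
    (∃ (t k : ℕ) (D : Fin t → Submodule F (ι → F)), Cfsg.Geo.IsNondegenerateMDecomposition f k D ∧
      ((t = 2 * p ∧ k = 1) ∨ (t = p ∧ k = 2) ∨ (t = 2 ∧ k = p)) ∧
      H ≤ Cfsg.Geo.decompositionStabilizer D) ∨
    (∃ D : Fin 2 → Submodule F (ι → F), Cfsg.Geo.IsMDecomposition p D ∧
      (∀ i, Cfsg.Geo.IsTotallySingularFor f (D i)) ∧ H ≤ Cfsg.Geo.decompositionStabilizer D ∧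
      ∀ Q : (ι → F) → F, Cfsg.Geo.IsNondegenerateQuadraticForm Q → (∀ u v, QuadraticMap.polar Q u v = f u v) →
        Cfsg.Geo.FixesQuadForm (Cfsg.Geo.matrixSet H) Q → ∀ i, Cfsg.Geo.IsTotallySingularQuad Q (D i)) ∨
    (∃ (r : ℕ) (K : Subalgebra F (Matrix ι ι F)), (r = 2 ∨ r = p) ∧ Cfsg.Geo.IsFieldSubalgebra r K ∧
      H ≤ Cfsg.Geo.subalgebraNormalizer K ∧ ∀ k ∈ K, adj σ f k ∈ K) ∨
    HasFormTensorOf σ f H 2 p ∨
    ∃ P, IsSimpleCore H P := by
  have hp2 : 2 ≠ p := fun h => by subst h; exact absurd hodd (by decide)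
  have key : ∀ a b : ℕ, 2 ≤ a → a * b = 2 * p →
      (a = 2 * p ∧ b = 1) ∨ (a = p ∧ b = 2) ∨ (a = 2 ∧ b = p) := by
    intro a b ha hab
    obtain ⟨x, y, hx, hy, rfl⟩ := Nat.dvd_mul.1 ⟨b, hab.symm⟩
    have hp0 := hp.pos
    rcases (Nat.dvd_prime Nat.prime_two).1 hx with rfl | rfl <;>
      rcases (Nat.dvd_prime hp).1 hy with rfl | rfl
    · omega
    · exact Or.inr (Or.inl ⟨one_mul _, Nat.eq_of_mul_eq_mul_left hp0 (by linarith)⟩)
    · exact Or.inr (Or.inr ⟨mul_one _, by omega⟩)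
    · exact Or.inl ⟨rfl, (mul_right_eq_self₀.1 hab).resolve_right (by omega)⟩
  rcases star_reduction (by have := hp.two_le; omega) hf hfix hirr with ⟨t, m, D, hD, htm, hst⟩ |
    ⟨m, D, hD, hm, hts, hle, hQ⟩ | ⟨r, K, hr, hrd, hK, hle, hadj⟩ |
    ⟨k, d, e, P, S, T, hk, hd, hkd, hS, hT, hle, hform⟩ | ⟨N, r, m, hr, hm, -⟩ |
    ⟨d, t, φ, hd, ht, hdt, -⟩ | h
  · exact Or.inl ⟨t, m, D, hD, key t m hD.decomp.two_le (htm.trans hcard), hst⟩
  · obtain rfl : m = p := by omega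
    exact Or.inr (Or.inl ⟨D, hD, hts, hle, hQ⟩)
  · refine Or.inr (Or.inr (Or.inl ⟨r, K, ?_, hK, hle, hadj⟩))
    rw [hcard] at hrd
    rcases hr.dvd_mul.1 hrd with h | h
    · exact Or.inl ((Nat.prime_dvd_prime_iff_eq hr Nat.prime_two).1 h)
    · exact Or.inr ((Nat.prime_dvd_prime_iff_eq hr hp).1 h)
  · refine Or.inr (Or.inr (Or.inr (Or.inl ?_)))
    have hkd' : HasFormTensorOf σ f H k d := ⟨e, P, S, T, hS, hT, hle, hform⟩
    rcases key k d hk (hkd.trans hcard) with ⟨-, rfl⟩ | ⟨rfl, rfl⟩ | ⟨rfl, rfl⟩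
    · omega
    · exact hkd'.swap
    · exact hkd'
  · exfalso
    rw [hcard] at hm
    have h2 : 2 ∣ r := Nat.prime_two.dvd_of_dvd_pow (hm ▸ dvd_mul_right 2 p : 2 ∣ r ^ m)
    have h3 : p ∣ r := hp.dvd_of_dvd_pow (hm ▸ dvd_mul_left p 2 : p ∣ r ^ m)
    exact hp2 ((((Nat.prime_dvd_prime_iff_eq Nat.prime_two hr).1 h2).trans
      ((Nat.prime_dvd_prime_iff_eq hp hr).1 h3).symm))
  · exfalso
    rw [hcard] at hdt
    have h2 : 2 ∣ d := Nat.prime_two.dvd_of_dvd_pow (hdt ▸ dvd_mul_right 2 p : 2 ∣ d ^ t)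
    have h4 : 2 ^ 2 ∣ d ^ t := (pow_dvd_pow_of_dvd h2 2).trans (pow_dvd_pow d ht)
    obtain ⟨c, hc⟩ := h4
    obtain ⟨n, hn⟩ := hodd
    omega
  · exact Or.inr (Or.inr (Or.inr (Or.inr h)))

end general

variable {m : ℕ} {F : Type*} [Field F]

local notation "V" => (Fin m ⊕ Fin m → F)
local notation "ω" => Cfsg.sympForm m F
local notation "Sp" => Cfsg.spGL m F
local notation "GV" => GL (Fin m ⊕ Fin m) F

/-- A subspace of odd dimension is degenerate for the alternating form. -/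
theorem not_nondegenerate_of_odd {W : Submodule F V} (hW : Odd (Module.finrank F W)) :
    ¬ Cfsg.Geo.IsNondegenerateOn (ω) W := by
  intro hnd
  have hf := isRefl (m := m) (F := F)
  let B : W →ₗ[F] W →ₗ[F] F := LinearMap.mk₂ F (fun u v : W => ω u.1 v.1)
    (fun a b c => hf.sesq.add_left a.1 b.1 c.1) (fun c a b => hf.sesq.smul_left c a.1 b.1)
    (fun a b c => hf.sesq.add_right a.1 b.1 c.1)
    (fun c a b => by
      show ω a.1 (c • b.1) = c * ω a.1 b.1
      rw [hf.sesq.smul_right, RingEquiv.refl_apply])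
  refine (Nat.not_even_iff_odd.2 hW) (CfsgLib.CharTwo.even_finrank_of_isAlt _ B rfl
    (fun x => omega_self x.1) fun x hx => ?_)
  by_contra h0
  obtain ⟨-, ⟨y, hy, hxy⟩⟩ := hnd x.1 x.2 (fun h => h0 (Subtype.ext h))
  exact hxy (hx ⟨y, hy⟩)

theorem two_eq_zero_of_not_odd [Fintype F] (h : ¬ Odd (Fintype.card F)) : (2 : F) = 0 := by
  by_contra h2
  exact h (Nat.odd_iff.2 (FiniteField.odd_card_of_char_ne_two fun hc => h2 (by
    haveI := ringChar.of_eq hc
    exact CharTwo.two_eq_zero)))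

theorem le_quadSimilarityGroup {H : Subgroup GV} {Q : V → F}
    (hQ : Cfsg.Geo.FixesQuadForm (Cfsg.Geo.matrixSet H) Q) : H ≤ Cfsg.Geo.quadSimilarityGroup Q :=
  fun g hg => ⟨1, fun v => by rw [Units.val_one, one_mul]; exact hQ _ (mem_matrixSet hg) v⟩

/-- Over two elements the stabiliser of a decomposition into planes fixes a quadratic form. -/
theorem planes_quad [Fintype F] (hq : Fintype.card F = 2) {t : ℕ} {D : Fin t → Submodule F V}
    (hD : Cfsg.Geo.IsNondegenerateMDecomposition (ω) 2 D) {H : Subgroup GV}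
    (hle : H ≤ Cfsg.Geo.decompositionStabilizer D) :
    ∃ Q : V → F, Cfsg.Geo.IsNondegenerateQuadraticForm Q ∧ (∀ u v : V, QuadraticMap.polar Q u v = ω u v) ∧
      H ≤ Cfsg.Geo.quadSimilarityGroup Q := by
  open CfsgLib.MaxSub in
  obtain ⟨b, a, hb, hdual, hzero, hsum⟩ := exists_decompCoords hD.decomp
  have hs := CfsgLib.MaxSub.sesq_sympForm (m := m) (F := F)
  have h20 : (2 : F) = 0 := CfsgLib.MaxSub.two_eq_zero_of_card_two hq
  have hd : ∀ i r, a i r ⬝ᵥ b i r = 1 := fun i r => by rw [hdual, if_pos ⟨rfl, rfl⟩]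
  have hd' : ∀ i j r s, i ≠ j → a i r ⬝ᵥ b j s = 0 := fun i j r s hij => by
    rw [hdual, if_neg fun h => hij h.1]
  have hd10 : ∀ i, a i 1 ⬝ᵥ b i 0 = 0 := fun i => by rw [hdual, if_neg]; simp
  have hd01 : ∀ i, a i 0 ⬝ᵥ b i 1 = 0 := fun i => by rw [hdual, if_neg]; simp
  have horth : ∀ i j r s, i ≠ j → ω (b i r) (b j s) = 0 := fun i j r s hij =>
    hD.orthogonal i j hij _ (hb i r) _ (hb j s)
  have hneg : ∀ c : F, -c = c := fun c => by linear_combination (-c) * h20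
  have hb01 : ∀ i, ω (b i 0) (b i 1) = 1 := by
    intro i
    refine CfsgLib.MaxSub.eq_one_of_card_two hq fun h0 => ?_
    have hb0 : b i 0 ≠ 0 := fun h => by
      have := hd i 0; rw [h, dotProduct_zero] at this; exact zero_ne_one this
    obtain ⟨-, z, hz, hzw⟩ := hD.nondegenerate i _ (hb i 0) hb0
    refine hzw ?_
    rw [hsum z, hs.sum_right]
    refine Finset.sum_eq_zero fun j _ => ?_
    rw [Fin.sum_univ_two, hs.add_right, hs.smul_right, hs.smul_right]
    rcases eq_or_ne i j with rfl | hij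
    · rw [h0, Forms.sympForm_self, mul_zero, mul_zero, add_zero]
    · rw [horth i j 0 0 hij, horth i j 0 1 hij, mul_zero, mul_zero, add_zero]
  have hb10 : ∀ i, ω (b i 1) (b i 0) = 1 := fun i => by
    rw [Forms.sympForm_swap, hb01, hneg]
  have hωb : ∀ x i, ω x (b i 0) = a i 1 ⬝ᵥ x ∧ ω x (b i 1) = a i 0 ⬝ᵥ x := by
    intro x i
    constructor <;>
    · conv_lhs => rw [hsum x]
      rw [hs.sum_left, Finset.sum_eq_single i (fun j _ hji => by
        rw [Fin.sum_univ_two, hs.add_left, hs.smul_left, hs.smul_left, horth _ _ _ _ hji,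
          horth _ _ _ _ hji]; ring)
        (fun h => absurd (Finset.mem_univ i) h), Fin.sum_univ_two, hs.add_left, hs.smul_left,
        hs.smul_left, Forms.sympForm_self]
      simp [hb01, hb10]
  let Q : V → F := CfsgLib.MaxSub.planeForm a
  have hpol : ∀ u v, QuadraticMap.polar Q u v = ω u v := by
    intro u v
    rw [show Q = CfsgLib.MaxSub.planeForm a from rfl, CfsgLib.MaxSub.polar_planeForm a h20]
    conv_rhs => rw [hsum v, hs.sum_right]
    refine Finset.sum_congr rfl fun i _ => ?_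
    rw [Fin.sum_univ_two, hs.add_right, hs.smul_right, hs.smul_right, (hωb u i).1, (hωb u i).2]
    simp only [RingEquiv.refl_apply]
    ring
  refine ⟨Q, isQuadraticForm_of_polar CfsgLib.MaxSub.isSymplecticForm_sympForm.bilinear
    (isRefl (m := m) (F := F)).nondegenerate (fun c x => ?_) hpol, hpol,
    fun g hg => ⟨1, fun x => ?_⟩⟩
  · simp only [Q, CfsgLib.MaxSub.planeForm, dotProduct_smul, smul_eq_mul, Finset.mul_sum]
    exact Finset.sum_congr rfl fun i _ => by ring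
  · rw [Units.val_one, one_mul]
    exact CfsgLib.MaxSub.planeForm_invariant hq hb (fun i => hd i 0) hzero hsum (hle hg) x

/-- A tensor decomposition of the alternating form in characteristic two fixes a quadratic form. -/
theorem tensor_quad [Fintype F] [Nonempty (Fin m ⊕ Fin m)] (h2 : (2 : F) = 0) {H : Subgroup GV}
    (hfix : Cfsg.Geo.FixesForm (Cfsg.Geo.matrixSet H) (ω))
    (hirr : Cfsg.Geo.ActsIrreducibly (Cfsg.Geo.matrixSet H)) {k d : ℕ} (hk : 2 ≤ k) (hd : 2 ≤ d)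
    (ht : HasFormTensorOf (RingEquiv.refl F) (ω) H k d) :
    ∃ Q : V → F, Cfsg.Geo.IsNondegenerateQuadraticForm Q ∧ (∀ u v : V, QuadraticMap.polar Q u v = ω u v) ∧
      H ≤ Cfsg.Geo.quadSimilarityGroup Q := by
  have hf := isRefl (m := m) (F := F)
  obtain ⟨e, P, S, T, hS, hT, hle, hform⟩ := ht
  haveI : Nonempty (Fin k) := ⟨⟨0, by omega⟩⟩
  haveI : Nonempty (Fin d) := ⟨⟨0, by omega⟩⟩
  have hS0 := hS.ne_zero
  have hT0 := hT.ne_zero
  obtain ⟨a, b, ha, hSa, hTb, hab⟩ := factors_reflexive hf hS0 hT0 hform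
  have hrefl : ∀ {n : ℕ} (M : Matrix (Fin n) (Fin n) F), Mᵀ.map (RingEquiv.refl F) = Mᵀ :=
    fun M => Matrix.ext fun _ _ => rfl
  rw [hrefl] at hSa hTb
  have hdS := left_factor_alternating hf hfix hirr h2 hk (by omega) hle hS0 hT0 hform
  have hdT := left_factor_alternating hf hfix hirr h2 hd (by omega)
    (hle.trans (tensorProductSubgroup_swap e P)) hT0 hS0 (formTensor_swap hform)
  have hone : ∀ {n : ℕ} {M : Matrix (Fin n) (Fin n) F} {c : F}, M ≠ 0 → Mᵀ = c • M → Mᵀ = M := by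
    intro n M c hM hMc
    obtain ⟨i, j, hij⟩ : ∃ i j, M i j ≠ 0 := by
      by_contra hn; push Not at hn; exact hM (Matrix.ext hn)
    have e1 : M j i = c * M i j := congrFun (congrFun hMc i) j
    have e2 : M i j = c * M j i := congrFun (congrFun hMc j) i
    have h3 : (c * c - 1) * M i j = 0 := by linear_combination -e2 - c * e1
    have h4 := (mul_eq_zero.1 h3).resolve_right hij
    have h5 : (c - 1) * (c - 1) = 0 := by linear_combination h4 - (c - 1) * h2
    rw [hMc, sub_eq_zero.1 (mul_self_eq_zero.1 h5), one_smul]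
  obtain ⟨Q, hQ, hpol, hQH, -⟩ := exists_tensor_quad h2 CfsgLib.MaxSub.isSymplecticForm_sympForm hfix hle
    (formOf_self_of_diag h2 (hone hS0 hSa) hdS) (formOf_self_of_diag h2 (hone hT0 hTb) hdT) hform
  exact ⟨Q, hQ, hpol, le_quadSimilarityGroup hQH⟩

theorem tensor_structure {k d : ℕ} {e : (Fin m ⊕ Fin m) ≃ Fin k × Fin d} {P : GV}
    {S : Matrix (Fin k) (Fin k) F} {T : Matrix (Fin d) (Fin d) F}
    (hform : ∀ x y : Fin k × Fin d → F, ω (mat P *ᵥ (x ∘ e)) (mat P *ᵥ (y ∘ e)) =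
      Cfsg.Geo.formOfGram (RingEquiv.refl F) (S ⊗ₖ T) x y) :
    Cfsg.Geo.IsTensorFormStructure id (ω) (formOf (RingEquiv.refl F) S)
      (formOf (RingEquiv.refl F) T) e P := by
  refine ⟨1, one_ne_zero, fun x y => ?_⟩
  rw [one_mul, gramMatrix_formOf, gramMatrix_formOf]
  exact hform x y

/-- The almost simple case. -/
theorem core_cases [Fintype F] (hm : 2 ≤ m) {H P : Subgroup GV} (hH : Cfsg.Geo.IsMaximalIn (Sp) H)
    (hP : IsSimpleCore H P) :
    (∃ (F₀ : Subfield F) (r : ℕ) (B : GV) (ζ : F), r.Prime ∧ Fintype.card F = Nat.card F₀ ^ r ∧ ζ ≠ 0 ∧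
      Cfsg.Geo.IsFormRationalStructure (ω) F₀ ζ B ∧ H = Cfsg.Geo.subfieldSubgroup F₀ B ⊓ Sp) ∨
    (¬ Odd (Fintype.card F) ∧ ∃ Q : V → F, Cfsg.Geo.IsNondegenerateQuadraticForm Q ∧
      (∀ u v : V, QuadraticMap.polar Q u v = ω u v) ∧ H = Cfsg.Geo.quadSimilarityGroup Q ⊓ Sp) ∨
    Cfsg.Geo.InSymplecticResidualClass H := by
  classical
  haveI : Nonempty (Fin m ⊕ Fin m) := ⟨Sum.inl ⟨0, by omega⟩⟩
  have hf := isRefl (m := m) (F := F)
  have hfix := fixes_of_le hH.1.le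
  have heq : ∀ {X : Subgroup GV}, H ≤ X → ¬ Sp ≤ X → H = X ⊓ Sp :=
    fun hle hne => eq_inf_of_maximal hH hle hne
  let v₀ : V := Pi.single (Sum.inl ⟨0, by omega⟩) 1
  have hv₀ : v₀ ≠ 0 := fun h => by simpa [v₀] using congrFun h (Sum.inl ⟨0, by omega⟩)
  have hPfix : Cfsg.Geo.FixesForm (Cfsg.Geo.matrixSet P) (ω) :=
    fun s hs => hfix s (Set.image_mono hP.le hs)
  by_cases hreal : ∃ F₀ : Subfield F, F₀ ≠ ⊤ ∧ Cfsg.Geo.RealisableOver F₀ (Cfsg.Geo.matrixSet P)
  · obtain ⟨F₀, h0, hreal⟩ := hreal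
    obtain ⟨F₁, r, B, ζ, hr, hcard, hζ, hrat, hle⟩ :=
      exists_form_subfield hf h0 hP.normal hP.absIrred hPfix hreal
    have hF₁ : F₁ ≠ ⊤ := by
      rintro rfl
      have h1 : Nat.card (⊤ : Subfield F) = Fintype.card F := by
        rw [← Nat.card_eq_fintype_card]
        exact Nat.card_congr Subfield.topEquiv.toEquiv
      rw [h1] at hcard
      nth_rw 1 [← pow_one (Fintype.card F)] at hcard
      exact hr.ne_one (Nat.pow_right_injective Fintype.one_lt_card hcard).symm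
    exact Or.inl ⟨F₁, r, B, ζ, hr, hcard, hζ, hrat, heq hle (not_le_subfield (by omega) hF₁ B)⟩
  by_cases hQ : ∃ Q : V → F, Cfsg.Geo.IsNondegenerateQuadraticForm Q ∧
      Cfsg.Geo.FixesQuadForm (Cfsg.Geo.matrixSet P) Q
  · obtain ⟨Q, hQ, hQP⟩ := hQ
    have hpolfix : Cfsg.Geo.FixesForm (Cfsg.Geo.matrixSet P) (QuadraticMap.polar Q) := fun s hs u v => by
      simp only [QuadraticMap.polar, ← Matrix.mulVec_add, hQP s hs]
    obtain ⟨c, hc⟩ := fixesForm_smul_eq hf (isSesq_of_bilinear hQ.polar_bilinear) hP.absIrred hPfix hpolfix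
    obtain ⟨x, hx⟩ := (hQ.nondegenerate v₀ hv₀).1
    have hc0 : c ≠ 0 := by
      rintro rfl
      exact hx (by rw [hc, zero_mul])
    by_cases hodd : Odd (Fintype.card F)
    · exfalso
      have e1 := hc x v₀
      have e2 := hc v₀ x
      rw [QuadraticMap.polar_comm, hf.refl x, RingEquiv.refl_apply] at e2
      have h0 : (2 : F) * QuadraticMap.polar Q x v₀ = 0 := by linear_combination e1 + e2
      exact hx ((mul_eq_zero.1 h0).resolve_left (CfsgLib.MaxSub.two_ne_zero_of_odd hodd))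
    · let Q' : V → F := fun v => c⁻¹ * Q v
      have hpol : ∀ u v : V, QuadraticMap.polar Q' u v = ω u v := by
        intro u v
        have h1 := hc u v
        simp only [QuadraticMap.polar, Q'] at h1 ⊢
        rw [← mul_sub, ← mul_sub, h1, ← mul_assoc, inv_mul_cancel₀ hc0, one_mul]
      have hQ' : Cfsg.Geo.IsNondegenerateQuadraticForm Q' :=
        isQuadraticForm_of_polar CfsgLib.MaxSub.isSymplecticForm_sympForm.bilinear hf.nondegenerate
          (fun a v => by simp only [Q', hQ.smul]; ring) hpol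
      have hQ'P : Cfsg.Geo.FixesQuadForm (Cfsg.Geo.matrixSet P) Q' := fun s hs v => by
        simp only [Q', hQP s hs]
      exact Or.inr (Or.inl ⟨hodd, Q', hQ', hpol, heq
        (normalizer_le_quadSimilarityGroup (by simp; omega) hQ' hP.absIrred hQ'P hP.normal)
        (not_le_quad hm hpol)⟩)
  refine Or.inr (Or.inr ⟨P, hP.toResidualCore fun F₀ h0 hr => hreal ⟨F₀, h0, hr⟩, hQ, ?_⟩)
  rintro ⟨σ, f, hf', hfix'⟩
  exact hreal (realisable_of_two_forms hf hf' hP.absIrred hPfix hfix')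

/-- The list for dimension twice an odd prime, with the tensor case before the small field exception. -/
theorem maximal_cases [Fintype F] (hp : m.Prime) (hodd : Odd m) {H : Subgroup GV}
    (hH : Cfsg.Geo.IsMaximalIn (Sp) H) :
    (∃ W : Submodule F V, W ≠ ⊥ ∧ Cfsg.Geo.IsTotallySingularFor (ω) W ∧
      H = Cfsg.Geo.subspaceStabilizer W ⊓ Sp) ∨
    (∃ W : Submodule F V, W ≠ ⊥ ∧ Cfsg.Geo.IsNondegenerateOn (ω) W ∧ Module.finrank F W < m ∧
      H = Cfsg.Geo.subspaceStabilizer W ⊓ Sp) ∨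
    (3 ≤ Fintype.card F ∧ ∃ D : Fin m → Submodule F V, Cfsg.Geo.IsNondegenerateMDecomposition (ω) 2 D ∧
      H = Cfsg.Geo.decompositionStabilizer D ⊓ Sp) ∨
    (Odd (Fintype.card F) ∧ ∃ D : Fin 2 → Submodule F V, Cfsg.Geo.IsMDecomposition m D ∧
      (∀ i, Cfsg.Geo.IsTotallySingularFor (ω) (D i)) ∧ H = Cfsg.Geo.decompositionStabilizer D ⊓ Sp) ∨
    (∃ K : Subalgebra F (Matrix (Fin m ⊕ Fin m) (Fin m ⊕ Fin m) F), Cfsg.Geo.IsFieldSubalgebra m K ∧
      Cfsg.Geo.IsSelfAdjointFor (ω) K ∧ (∀ k ∈ K, ∀ v : V, ω (Matrix.mulVec k v) v = 0) ∧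
      H = Cfsg.Geo.subalgebraNormalizer K ⊓ Sp) ∨
    (Odd (Fintype.card F) ∧ ∃ K : Subalgebra F (Matrix (Fin m ⊕ Fin m) (Fin m ⊕ Fin m) F),
      Cfsg.Geo.IsFieldSubalgebra 2 K ∧ Cfsg.Geo.IsAdjointClosedFor (ω) K ∧
      ¬ Cfsg.Geo.IsSelfAdjointFor (ω) K ∧ H = Cfsg.Geo.subalgebraNormalizer K ⊓ Sp) ∨
    (Odd (Fintype.card F) ∧ Cfsg.Geo.ActsIrreducibly (Cfsg.Geo.matrixSet H) ∧
      ∃ (e : (Fin m ⊕ Fin m) ≃ Fin 2 × Fin m) (P : GV) (S : Matrix (Fin 2) (Fin 2) F)
        (T : Matrix (Fin m) (Fin m) F), IsUnit S ∧ IsUnit T ∧ Sᵀ = -S ∧ Tᵀ = T ∧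
        H ≤ Cfsg.Geo.tensorProductSubgroup 2 m e P ∧
        ∀ x y : Fin 2 × Fin m → F, ω (mat P *ᵥ (x ∘ e)) (mat P *ᵥ (y ∘ e)) =
          Cfsg.Geo.formOfGram (RingEquiv.refl F) (S ⊗ₖ T) x y) ∨
    (∃ (F₀ : Subfield F) (r : ℕ) (B : GV) (ζ : F), r.Prime ∧ Fintype.card F = Nat.card F₀ ^ r ∧ ζ ≠ 0 ∧
      Cfsg.Geo.IsFormRationalStructure (ω) F₀ ζ B ∧ H = Cfsg.Geo.subfieldSubgroup F₀ B ⊓ Sp) ∨
    (¬ Odd (Fintype.card F) ∧ ∃ Q : V → F, Cfsg.Geo.IsNondegenerateQuadraticForm Q ∧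
      (∀ u v : V, QuadraticMap.polar Q u v = ω u v) ∧ H = Cfsg.Geo.quadSimilarityGroup Q ⊓ Sp) ∨
    Cfsg.Geo.InSymplecticResidualClass H := by
  classical
  have hm : 3 ≤ m := by
    have := hp.two_le
    obtain ⟨n, hn⟩ := hodd
    omega
  haveI : Nonempty (Fin m ⊕ Fin m) := ⟨Sum.inl ⟨0, by omega⟩⟩
  have hcard : Fintype.card (Fin m ⊕ Fin m) = 2 * m := by simp; omega
  have hf := isRefl (m := m) (F := F)
  have hHS : H ≤ Sp := hH.1.le
  have hfix := fixes_of_le hHS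
  have heq : ∀ {X : Subgroup GV}, H ≤ X → ¬ Sp ≤ X → H = X ⊓ Sp :=
    fun hle hne => eq_inf_of_maximal hH hle hne
  have quadCase : ∀ Q : V → F, ¬ Odd (Fintype.card F) →
      Cfsg.Geo.IsNondegenerateQuadraticForm Q → (∀ u v : V, QuadraticMap.polar Q u v = ω u v) →
      H ≤ Cfsg.Geo.quadSimilarityGroup Q →
      (¬ Odd (Fintype.card F) ∧ ∃ Q : V → F, Cfsg.Geo.IsNondegenerateQuadraticForm Q ∧
        (∀ u v : V, QuadraticMap.polar Q u v = ω u v) ∧ H = Cfsg.Geo.quadSimilarityGroup Q ⊓ Sp) :=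
    fun Q he hQ hpol hle => ⟨he, Q, hQ, hpol, heq hle (not_le_quad (by omega) hpol)⟩
  by_cases hirr : Cfsg.Geo.ActsIrreducibly (Cfsg.Geo.matrixSet H)
  swap
  · rw [actsIrreducibly_iff] at hirr
    push Not at hirr
    obtain ⟨W, hW, hW0, hW1⟩ := hirr
    have hWp : H ≤ Cfsg.Geo.subspaceStabilizer (hf.perp W) := fun g hg =>
      hf.stabilizer_perp (CfsgLib.MaxSub.mem_spGL_iff.1 (hHS hg)) (hW hg)
    by_cases hrad : W ⊓ hf.perp W = ⊥
    swap
    · refine Or.inl ⟨W ⊓ hf.perp W, hrad, fun u hu v hv => hu.2 v hv.1, heq ?_ (not_le_subspace hrad ?_)⟩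
      · intro g hg
        exact mem_subspaceStabilizer_iff.2 fun w hw =>
          ⟨mem_subspaceStabilizer_iff.1 (hW hg) w hw.1, mem_subspaceStabilizer_iff.1 (hWp hg) w hw.2⟩
      · exact fun h => hW1 (eq_top_iff.2 (h ▸ inf_le_left))
    have hnd := hf.isNondegenerateOn_iff.2 hrad
    have hdim := hf.finrank_perp W
    rw [hcard] at hdim
    rcases lt_trichotomy (Module.finrank F W) m with hlt | heqm | hgt
    · exact Or.inr (Or.inl ⟨W, hW0, hnd, hlt, heq hW (not_le_subspace hW0 hW1)⟩)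
    · exact absurd hnd (not_nondegenerate_of_odd (heqm.symm ▸ hodd))
    · have hP0 : hf.perp W ≠ ⊥ := fun h => hW1 (by
        rw [← hf.perp_perp W, h]
        exact eq_top_iff.2 fun x _ w hw => by rw [(Submodule.mem_bot F).1 hw, hf.zero_right])
      refine Or.inr (Or.inl ⟨hf.perp W, hP0, hf.isNondegenerateOn_perp hnd, by omega,
        heq hWp (not_le_subspace hP0 fun h => ?_)⟩)
      rw [h, inf_top_eq] at hrad
      exact hW0 hrad
  rcases star_reduction_twice_prime hp hodd hcard hf hfix hirr with ⟨t, k, D, hD, htk, hle⟩ |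
    ⟨D, hD, hts, hle, -⟩ | ⟨r, K, hr, hK, hle, hadj⟩ | ht | ⟨P, hP⟩
  · -- orthogonal decompositions
    have hpos : 0 < t := lt_of_lt_of_le (by norm_num) hD.decomp.two_le
    rcases htk with ⟨rfl, rfl⟩ | ⟨rfl, rfl⟩ | ⟨rfl, rfl⟩
    · exact absurd (hD.nondegenerate ⟨0, hpos⟩) (not_nondegenerate_of_one (hD.decomp.finrank_eq _))
    · by_cases hq : Fintype.card F = 2
      · obtain ⟨Q, hQ, hpol, hQH⟩ := planes_quad hq hD hle
        have he : ¬ Odd (Fintype.card F) := by rw [hq]; decide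
        exact Or.inr (Or.inr (Or.inr (Or.inr (Or.inr (Or.inr (Or.inr (Or.inr
          (Or.inl (quadCase Q he hQ hpol hQH)))))))))
      · have h3 : 3 ≤ Fintype.card F := by have := Fintype.one_lt_card (α := F); omega
        exact Or.inr (Or.inr (Or.inl ⟨h3, D, hD, heq hle (not_le_decomposition hD.decomp le_rfl)⟩))
    · refine absurd (hD.nondegenerate 0) (not_nondegenerate_of_odd ?_)
      rw [hD.decomp.finrank_eq]
      exact hodd
  · -- pairs of Lagrangians
    by_cases hq : Odd (Fintype.card F)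
    · exact Or.inr (Or.inr (Or.inr (Or.inl ⟨hq, D, hD, hts,
        heq hle (not_le_decomposition hD (by omega))⟩)))
    · obtain ⟨Q, hQ, hpol, hQH⟩ := pair_quad (two_eq_zero_of_not_odd hq) hHS hD hts hle
      exact Or.inr (Or.inr (Or.inr (Or.inr (Or.inr (Or.inr (Or.inr (Or.inr
        (Or.inl (quadCase Q hq hQ hpol (le_quadSimilarityGroup hQH))))))))))
  · -- extension fields
    have hclosed : Cfsg.Geo.IsAdjointClosedFor (ω) K := fun x hx =>
      ⟨_, hadj x hx, fun u v => hf.adj_spec x u v⟩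
    by_cases hsa : ∀ x ∈ K, adj (RingEquiv.refl F) (ω) x = x
    · have hS : Cfsg.Geo.IsSelfAdjointFor (ω) K := fun x hx u v => by
        rw [hf.adj_spec, hsa x hx]
      have hal := selfAdjoint_alternating hK hsa
      rcases hr with rfl | rfl
      · exfalso
        obtain ⟨n, hn, hdvd⟩ := dvd_half_of_selfAdjoint hf hK hsa hal
        obtain rfl : n = m := by omega
        obtain ⟨c, hc⟩ := hdvd
        obtain ⟨j, hj⟩ := hodd
        omega
      · exact Or.inr (Or.inr (Or.inr (Or.inr (Or.inl ⟨K, hK, hS, hal,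
          heq hle (not_le_field (by omega) (by omega) hK)⟩))))
    push Not at hsa
    rcases hr with rfl | rfl
    swap
    · obtain ⟨x, hx, hxne⟩ := hsa
      exact absurd (adj_eq_self_of_odd hf hodd hK hadj hx) hxne
    by_cases hq : Odd (Fintype.card F)
    · refine Or.inr (Or.inr (Or.inr (Or.inr (Or.inr (Or.inl ⟨hq, K, hK, hclosed,
        fun hS => ?_, heq hle (not_le_field (by omega) le_rfl hK)⟩)))))
      obtain ⟨x, hx, hxne⟩ := hsa
      exact hxne (hf.adj_unique fun u v => hS x hx u v).symm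
    · obtain ⟨Q, hQ, hpol, hQH⟩ := field_quad (by omega) (two_eq_zero_of_not_odd hq) hHS hK hle hadj hsa
      exact Or.inr (Or.inr (Or.inr (Or.inr (Or.inr (Or.inr (Or.inr (Or.inr
        (Or.inl (quadCase Q hq hQ hpol (le_quadSimilarityGroup hQH))))))))))
  · -- tensor decompositions
    by_cases hq : Odd (Fintype.card F)
    swap
    · obtain ⟨Q, hQ, hpol, hQH⟩ := tensor_quad (two_eq_zero_of_not_odd hq) hfix hirr le_rfl (by omega) ht
      exact Or.inr (Or.inr (Or.inr (Or.inr (Or.inr (Or.inr (Or.inr (Or.inr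
        (Or.inl (quadCase Q hq hQ hpol hQH)))))))))
    obtain ⟨e, P, S, T, hS, hT, hle, hform⟩ := ht
    haveI : Nonempty (Fin m) := ⟨⟨0, by omega⟩⟩
    rcases factor_signs hf hS.ne_zero hT.ne_zero hform with ⟨hSs, hTs⟩ | ⟨-, hTs⟩
    · exact Or.inr (Or.inr (Or.inr (Or.inr (Or.inr (Or.inr (Or.inl
        ⟨hq, hirr, e, P, S, T, hS, hT, hSs, hTs, hle, hform⟩))))))
    · exfalso
      have hd := congrArg Matrix.det hTs
      rw [Matrix.det_transpose, Matrix.det_neg, Fintype.card_fin, hodd.neg_one_pow] at hd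
      have h0 : (2 : F) * T.det = 0 := by linear_combination hd
      exact ((Matrix.isUnit_iff_isUnit_det _).1 hT).ne_zero
        ((mul_eq_zero.1 h0).resolve_left (CfsgLib.MaxSub.two_ne_zero_of_odd hq))
  · -- almost simple groups
    rcases core_cases (by omega) hH hP with h | h | h
    · exact Or.inr (Or.inr (Or.inr (Or.inr (Or.inr (Or.inr (Or.inr (Or.inl h)))))))
    · exact Or.inr (Or.inr (Or.inr (Or.inr (Or.inr (Or.inr (Or.inr (Or.inr (Or.inl h))))))))
    · exact Or.inr (Or.inr (Or.inr (Or.inr (Or.inr (Or.inr (Or.inr (Or.inr (Or.inr h))))))))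

end CfsgLib.AschbacherSymplectic57
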