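import Cfsg.Agent.Aschbacher57.QuadType
import Cfsg.Agent.Aschbacher57.SympTwicePrime

/-!
Extension fields for orthogonal groups in dimension twice an odd number: the quadratic unitary field, and the
two-dimensional orthogonal groups over a field of odd degree.
-/

set_option autoImplicit false
set_option maxHeartbeats 1000000
set_option linter.unusedSectionVars false
set_option linter.style.haveILetI false

namespace CfsgLib.OrthFields57

open Matrix Cfsg.Geo CfsgLib.Aschbacher CfsgLib.AschbacherForms CfsgLib.AschbacherQuad CfsgLib.QuadType57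

attribute [-simp] RingEquiv.coe_refl

variable {ι : Type} [Fintype ι] [DecidableEq ι] {F : Type*} [Field F] [Fintype F] {Q : (ι → F) → F}

local notation "B" => QuadraticMap.polar Q
local notation "ad" => adj (RingEquiv.refl F) (QuadraticMap.polar Q)

/-- The subfield of degree two of a field of even degree. -/
theorem exists_quadratic_subfield [Nonempty ι] {Z : Subalgebra F (Matrix ι ι F)}
    (hc : ∀ x ∈ Z, ∀ y ∈ Z, x * y = y * x) (hinv : ∀ x ∈ Z, x ≠ 0 → ∃ y ∈ Z, x * y = 1)
    (h2 : 2 ∣ Module.finrank F Z) :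
    ∃ K : Subalgebra F (Matrix ι ι F), IsFieldSubalgebra 2 K ∧
      ∀ x, x ∈ K ↔ x ∈ Z ∧ x ^ Fintype.card F ^ 2 = x := by
  classical
  letI : CommRing Z := { (inferInstance : Ring Z) with mul_comm := fun a b => Subtype.ext (hc _ a.2 _ b.2) }
  have hfield : IsField Z :=
    { exists_pair_ne := ⟨0, 1, fun h => zero_ne_one (congrArg Subtype.val h)⟩
      mul_comm := fun a b => Subtype.ext (hc _ a.2 _ b.2)
      mul_inv_cancel := fun {a} ha => by
        obtain ⟨y, hy, hay⟩ := hinv _ a.2 (fun h => ha (Subtype.ext h))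
        exact ⟨⟨y, hy⟩, Subtype.ext hay⟩ }
  letI : Field Z := hfield.toField
  let Fr := AlgHom.equalizer ((FiniteField.frobeniusAlgHom F Z) ^ 2) (AlgHom.id F Z)
  refine ⟨Fr.map Z.val, ⟨?_, ?_, ?_⟩, fun x => ⟨?_, ?_⟩⟩
  · rintro _ ⟨x, -, rfl⟩ _ ⟨y, -, rfl⟩
    exact hc _ x.2 _ y.2
  · rintro _ ⟨x, hx, rfl⟩ h0
    have hx0 : x ≠ 0 := fun h => h0 (by subst h; exact map_zero Z.val)
    refine ⟨Z.val x⁻¹, ⟨x⁻¹, ?_, rfl⟩, ?_⟩
    · show ((FiniteField.frobeniusAlgHom F Z) ^ 2) x⁻¹ = x⁻¹
      rw [map_inv₀]; exact congrArg Inv.inv hx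
    · show Z.val x * Z.val x⁻¹ = 1
      rw [← map_mul, mul_inv_cancel₀ hx0, map_one]
  · haveI : Finite Z := Finite.of_injective (Subtype.val : Z → Matrix ι ι F) Subtype.val_injective
    rw [← finrank_frobenius_fixed (F := F) (D := Z) h2]
    exact (LinearEquiv.finrank_eq
      (Subalgebra.equivMapOfInjective Fr Z.val Subtype.val_injective).toLinearEquiv).symm
  · rintro ⟨y, hy, rfl⟩
    refine ⟨y.2, ?_⟩
    have h1 : y ^ Fintype.card F ^ 2 = y := by rw [← frobenius_pow_apply 2 y]; exact hy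
    have h3 := congrArg Subtype.val h1
    rwa [Subalgebra.coe_pow] at h3
  · rintro ⟨hx, hxr⟩
    refine ⟨⟨x, hx⟩, ?_, rfl⟩
    show ((FiniteField.frobeniusAlgHom F Z) ^ 2) ⟨x, hx⟩ = ⟨x, hx⟩
    rw [frobenius_pow_apply]
    exact Subtype.ext (by rw [Subalgebra.coe_pow]; exact hxr)

theorem quad_zero (hQ : IsNondegenerateQuadraticForm Q) : Q 0 = 0 := by simpa using hQ.smul 0 0

theorem selfAdjoint_scalar [Nonempty ι] {ε : F} {f : (ι → F) → (ι → F) → F}
    (hf : IsReflexive (RingEquiv.refl F) ε f) {K : Subalgebra F (Matrix ι ι F)} (hK : IsFieldSubalgebra 2 K)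
    (hne : ∃ k ∈ K, adj (RingEquiv.refl F) f k ≠ k) :
    ∀ x ∈ K, adj (RingEquiv.refl F) f x = x → ∃ c : F, x = c • (1 : Matrix ι ι F) := by
  set K₀ := selfAdjointPart hf K hK.comm
  have h1 : Module.finrank F K₀ = 1 := by
    have hlt : Subalgebra.toSubmodule K₀ < Subalgebra.toSubmodule K := by
      refine lt_of_le_of_ne (fun x hx => hx.1) fun h => ?_
      obtain ⟨k, hk, hk'⟩ := hne
      exact hk' ((h ▸ hk : k ∈ Subalgebra.toSubmodule K₀)).2
    have h3 := Submodule.finrank_lt_finrank_of_lt hlt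
    rw [Subalgebra.finrank_toSubmodule, Subalgebra.finrank_toSubmodule, hK.finrank_eq] at h3
    have h4 : 0 < Module.finrank F K₀ := Module.finrank_pos
    omega
  intro x hx hxx
  obtain ⟨c, hc⟩ := (finrank_eq_one_iff_of_nonzero' (1 : K₀)
    (fun h => one_ne_zero (congrArg Subtype.val h))).1 h1 ⟨x, hx, hxx⟩
  exact ⟨c, (congrArg Subtype.val hc).symm⟩

/-- A quadratic field with non-trivial adjoints scales the quadratic form, which is not of plus type in dimension
twice an odd number. -/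
theorem unitary_field (hQ : IsNondegenerateQuadraticForm Q) {m : ℕ} (hodd : Odd m) (hm3 : 3 ≤ m)
    (hm : Fintype.card ι = 2 * m) {H : Subgroup (GL ι F)} (hQH : FixesQuadForm (matrixSet H) Q)
    (hirr : ActsIrreducibly (matrixSet H)) {K : Subalgebra F (Matrix ι ι F)} (hK : IsFieldSubalgebra 2 K)
    (hle : H ≤ subalgebraNormalizer K) (hadj : ∀ k ∈ K, ad k ∈ K) (hne : ∃ k ∈ K, ad k ≠ k) :
    (∀ k ∈ K, ∃ c : F, ∀ v : ι → F, Q (k *ᵥ v) = c * Q v) ∧ ¬ IsPlusTypeOn Q ⊤ := by
  classical
  haveI : Nonempty ι := Fintype.card_pos_iff.1 (by omega)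
  have hf := isReflexive_polar hQ
  have hscal := selfAdjoint_scalar hf hK hne
  have hfix : ∀ g ∈ H, ∀ u v, B (mat g *ᵥ u) (mat g *ᵥ v) = B u v := fun g hg u v =>
    MaxSub.polar_of_isometry (fun x => hQH _ (mem_matrixSet hg) x) u v
  have hscale : ∀ k ∈ K, ∃ c : F, ∀ v : ι → F, Q (k *ᵥ v) = c * Q v := by
    intro k hk
    obtain ⟨c, hc⟩ := hscal (ad k * k) (K.mul_mem (hadj k hk) hk) (by rw [hf.adj_mul, hf.adj_adj])
    refine ⟨c, fun v => ?_⟩
    have hnorm : ∀ u w : ι → F, B (k *ᵥ u) (k *ᵥ w) = c * B u w := fun u w => by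
      rw [hf.adj_spec, Matrix.mulVec_mulVec, hc, Matrix.smul_mulVec, Matrix.one_mulVec, hf.sesq.smul_right,
        RingEquiv.refl_apply]
    by_cases h2 : (2 : F) = 0
    · obtain ⟨⟨z, hz, hz1⟩, -⟩ := exists_trace_one hf h2 hK hadj hne
      have hD : ∀ x : ι → F, B (z *ᵥ x) x - Q x = 0 := by
        refine additive_invariant_zero (D := fun x => B (z *ᵥ x) x - Q x) hirr (by omega) (fun c => c ^ 2)
          (fun c hc => pow_eq_zero_iff two_ne_zero |>.1 hc) (fun u w => ?_) (fun c u => ?_) fun g hg u => ?_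
        · have e1 : B (z *ᵥ u) w + B (z *ᵥ w) u = B u w := by
            rw [hf.adj_spec z u w, QuadraticMap.polar_comm Q (z *ᵥ w) u, ← hf.sesq.add_right,
              ← Matrix.add_mulVec, add_comm, hz1, Matrix.one_mulVec]
          show B (z *ᵥ (u + w)) (u + w) - Q (u + w) = _
          rw [MaxSub.quad_add (Q := Q), Matrix.mulVec_add, hf.sesq.add_left, hf.sesq.add_right, hf.sesq.add_right]
          linear_combination e1
        · show B (z *ᵥ (c • u)) (c • u) - Q (c • u) = c ^ 2 * (B (z *ᵥ u) u - Q u)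
          rw [Matrix.mulVec_smul, hf.sesq.smul_left, hf.sesq.smul_right, RingEquiv.refl_apply, hQ.smul]
          ring
        · show B (z *ᵥ (mat g *ᵥ u)) (mat g *ᵥ u) - Q (mat g *ᵥ u) = B (z *ᵥ u) u - Q u
          set z' := mat g⁻¹ * z * mat g with hz'def
          have hinv : z' ∈ K := (hle hg _).2 (by
            show mat g * (mat g⁻¹ * z * mat g) * mat g⁻¹ ∈ K
            simp [mat, mul_assoc, hz])
          have hz'1 : z' + ad z' = 1 := by
            have h1 : ad z' = mat g⁻¹ * ad z * mat g := by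
              have := hf.adj_conj (g := g⁻¹) (hfix g⁻¹ (inv_mem hg)) z
              rwa [inv_inv] at this
            rw [h1, hz'def, ← add_mul, ← mul_add, hz1, mul_one, mat_inv_mul]
          obtain ⟨d, hd⟩ := hscal (z' - z) (K.sub_mem hinv hz) (by
            rw [sub_eq_add_neg, hf.adj_add, show (-z) = (-1 : F) • z from (neg_one_smul F z).symm, hf.adj_smul,
              RingEquiv.refl_apply]
            rw [eq_sub_of_add_eq' hz'1, eq_sub_of_add_eq' hz1]
            have e3 : (2 : F) • (z' - z) = 0 := by rw [h2, zero_smul]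
            rw [two_smul] at e3
            rw [neg_one_smul, neg_one_smul]
            linear_combination (norm := abel) -e3)
          have e4 : z *ᵥ (mat g *ᵥ u) = mat g *ᵥ (z' *ᵥ u) := by
            rw [hz'def, Matrix.mulVec_mulVec, Matrix.mulVec_mulVec]
            congr 1
            simp [mat, mul_assoc]
          rw [e4, hfix g hg, show Q (mat g *ᵥ u) = Q u from hQH _ (mem_matrixSet hg) u,
            show z' = z + d • 1 by rw [← hd]; abel, Matrix.add_mulVec, hf.sesq.add_left, Matrix.smul_mulVec,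
            Matrix.one_mulVec, hf.sesq.smul_left, MaxSub.polar_self hQ, h2]
          ring
      rw [← sub_eq_zero.1 (hD (k *ᵥ v)), ← sub_eq_zero.1 (hD v), Matrix.mulVec_mulVec, hK.comm z hz k hk,
        ← Matrix.mulVec_mulVec, hnorm]
    · have h1 := hnorm v v
      rw [MaxSub.polar_self hQ, MaxSub.polar_self hQ] at h1
      exact mul_left_cancel₀ h2 (by linear_combination h1)
  refine ⟨hscale, ?_⟩
  let S : Set (Submodule F (ι → F)) := {W | IsTotallySingularQuad Q W ∧ ∀ k ∈ K, ∀ w ∈ W, k *ᵥ w ∈ W}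
  have hne' : S.Nonempty := ⟨⊥, fun u hu => by rw [(Submodule.mem_bot F).1 hu, quad_zero hQ],
    fun k _ w hw => by rw [(Submodule.mem_bot F).1 hw, Matrix.mulVec_zero]; exact Submodule.zero_mem _⟩
  obtain ⟨W, ⟨hts, hinv⟩, hmax⟩ := (wellFounded_gt (α := Submodule F (ι → F))).has_min S hne'
  have han : ∀ v, (∀ w ∈ W, B v w = 0) → Q v = 0 → v ∈ W := by
    intro v hv hqv
    by_contra hvW
    let L : Submodule F (ι → F) :=
      { carrier := {x | ∃ k ∈ K, k *ᵥ v = x}
        add_mem' := by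
          rintro a b ⟨k, hk, rfl⟩ ⟨l, hl, rfl⟩
          exact ⟨k + l, K.add_mem hk hl, Matrix.add_mulVec k l v⟩
        zero_mem' := ⟨0, K.zero_mem, Matrix.zero_mulVec v⟩
        smul_mem' := by
          rintro c a ⟨k, hk, rfl⟩
          exact ⟨c • k, K.smul_mem hk c, Matrix.smul_mulVec c k v⟩ }
    have hvL : v ∈ L := ⟨1, K.one_mem, Matrix.one_mulVec v⟩
    refine hmax (W ⊔ L) ⟨fun u hu => ?_, fun l hl w hw => ?_⟩ (lt_of_le_of_ne le_sup_left fun h =>
      hvW (h.symm ▸ Submodule.mem_sup_right hvL))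
    · obtain ⟨a, ha, x, ⟨k, hk, rfl⟩, rfl⟩ := Submodule.mem_sup.1 hu
      obtain ⟨c, hc⟩ := hscale k hk
      rw [MaxSub.quad_add (Q := Q), hts a ha, hc, hqv, QuadraticMap.polar_comm, hf.adj_spec,
        hv _ (hinv _ (hadj k hk) a ha)]
      ring
    · obtain ⟨a, ha, x, ⟨k, hk, rfl⟩, rfl⟩ := Submodule.mem_sup.1 hw
      rw [Matrix.mulVec_add, Matrix.mulVec_mulVec]
      exact Submodule.add_mem_sup (hinv l hl a ha) ⟨l * k, K.mul_mem hl hk, rfl⟩
  have h1 := hf.two_finrank_le (polar_of_singular hts)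
  have h2 := hf.finrank_perp W
  have h3 : Module.finrank F (hf.perp W) ≤ Module.finrank F W + 2 := by
    by_contra hlt
    obtain ⟨z, hz, hzW, hqz⟩ := exists_singular_not_mem hQ (K := hf.perp W) (M := W) (by omega)
    exact hzW (han z hz hqz)
  obtain ⟨c, hc⟩ := CfsgLib.AschbacherSymplectic57.finrank_dvd_of_invariant hK W hinv
  obtain ⟨d, hd⟩ := hodd
  exact not_plus_of_aniso hQ hm hts (by omega) han

/-- The two-dimensional orthogonal case over a field of odd degree. -/
theorem field_half (hQ : IsNondegenerateQuadraticForm Q) {m : ℕ} (hodd : Odd m) (hm3 : 3 ≤ m)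
    (hm : Fintype.card ι = 2 * m) {H : Subgroup (GL ι F)} (hH : H ≤ omegaGL Q)
    (hirr : ActsIrreducibly (matrixSet H)) {K : Subalgebra F (Matrix ι ι F)} (hK : IsFieldSubalgebra m K)
    (hle : H ≤ subalgebraNormalizer K) (hsa : ∀ k ∈ K, ad k = k) :
    (∃ D : Fin 2 → Submodule F (ι → F), IsNondegenerateMDecomposition (B) m D ∧
      H ≤ decompositionStabilizer D) ∨
    (∃ L : Subalgebra F (Matrix ι ι F), IsFieldSubalgebra 2 L ∧ H ≤ subalgebraNormalizer L ∧
      (∀ k ∈ L, ad k ∈ L) ∧ ∃ k ∈ L, ad k ≠ k) := by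
  classical
  haveI : Nonempty ι := Fintype.card_pos_iff.1 (by omega)
  have hf := isReflexive_polar hQ
  have hisoH : ∀ g ∈ H, ∀ v, Q (mat g *ᵥ v) = Q v := fun g hg => isometry_of_omega (hH hg)
  have hsw : ∀ k ∈ K, ∀ u v : ι → F, B (k *ᵥ u) v = B u (k *ᵥ v) := fun k hk u v => by
    rw [hf.adj_spec, hsa k hk]
  have hcomm : ∀ k ∈ K, ∀ l ∈ K, ∀ u : ι → F, k *ᵥ (l *ᵥ u) = l *ᵥ (k *ᵥ u) := fun k hk l hl u => by
    rw [Matrix.mulVec_mulVec, Matrix.mulVec_mulVec, hK.comm k hk l hl]
  have hinjK : ∀ k ∈ K, ∀ v : ι → F, v ≠ 0 → k *ᵥ v = 0 → k = 0 := by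
    intro k hk v hv h0
    by_contra hk0
    obtain ⟨y, hy, hky⟩ := hK.inv k hk hk0
    apply hv
    rw [hK.comm k hk y hy] at hky
    rw [← Matrix.one_mulVec v, ← hky, ← Matrix.mulVec_mulVec, h0, Matrix.mulVec_zero]
  have hsqrt : (2 : F) = 0 → ∀ k ∈ K, ∃ l ∈ K, l * l = k := by
    intro h2
    haveI : Finite K := Finite.of_injective (Subtype.val : K → _) Subtype.val_injective
    let sq : K → K := fun x => x * x
    have hinj : Function.Injective sq := by
      rintro ⟨x, hx⟩ ⟨y, hy⟩ h
      have h' : x * x = y * y := congrArg Subtype.val h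
      by_contra hne
      obtain ⟨z, hz, hxyz⟩ := hK.inv _ (K.sub_mem hx hy) (sub_ne_zero.2 fun h => hne (Subtype.ext h))
      have h3 : (x - y) * (x - y) = 0 := by
        rw [sub_mul, mul_sub, mul_sub, hK.comm y hy x hx, h']
        have h4 : (2 : F) • (y * y - x * y) = 0 := by rw [h2, zero_smul]
        rw [two_smul] at h4
        linear_combination (norm := abel) h4
      have h5 := congrArg (fun M => M * z) h3
      simp only [mul_assoc, hxyz, mul_one, zero_mul] at h5
      exact hne (Subtype.ext (sub_eq_zero.1 h5))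
    intro k hk
    obtain ⟨⟨l, hl⟩, hlk⟩ := (Finite.injective_iff_surjective.1 hinj) ⟨k, hk⟩
    exact ⟨l, hl, congrArg Subtype.val hlk⟩
  have halt : (2 : F) = 0 → ∀ k ∈ K, ∀ v : ι → F, B (k *ᵥ v) v = 0 := by
    intro h2 k hk v
    obtain ⟨l, hl, rfl⟩ := hsqrt h2 k hk
    rw [← Matrix.mulVec_mulVec, hsw l hl, MaxSub.polar_self hQ, h2, zero_mul]
  -- lines over the field
  let line : (ι → F) → Submodule F (ι → F) := fun v =>
    { carrier := {x | ∃ k ∈ K, k *ᵥ v = x}
      add_mem' := by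
        rintro a b ⟨k, hk, rfl⟩ ⟨l, hl, rfl⟩
        exact ⟨k + l, K.add_mem hk hl, Matrix.add_mulVec k l v⟩
      zero_mem' := ⟨0, K.zero_mem, Matrix.zero_mulVec v⟩
      smul_mem' := by
        rintro c a ⟨k, hk, rfl⟩
        exact ⟨c • k, K.smul_mem hk c, Matrix.smul_mulVec c k v⟩ }
  have hlineSelf : ∀ v, v ∈ line v := fun v => ⟨1, K.one_mem, Matrix.one_mulVec v⟩
  have hlineDim : ∀ v, v ≠ 0 → Module.finrank F (line v) = m := by
    intro v hv
    let L : K →ₗ[F] ι → F :=
      { toFun := fun k => k.1 *ᵥ v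
        map_add' := fun k l => Matrix.add_mulVec k.1 l.1 v
        map_smul' := fun c k => Matrix.smul_mulVec c k.1 v }
    have hinj : Function.Injective L := by
      rw [injective_iff_map_eq_zero]
      exact fun k hk => Subtype.ext (hinjK k.1 k.2 v hv hk)
    have hr : line v = LinearMap.range L := by
      ext x
      exact ⟨fun ⟨k, hk, h⟩ => ⟨⟨k, hk⟩, h⟩, fun ⟨k, h⟩ => ⟨k.1, k.2, h⟩⟩
    rw [hr, LinearMap.finrank_range_of_inj hinj, hK.finrank_eq]
  have hbasis : ∀ v w : ι → F, v ≠ 0 → w ∉ line v → ∀ x, ∃ k ∈ K, ∃ l ∈ K, x = k *ᵥ v + l *ᵥ w := by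
    intro v w hv hw x
    have hdisj : line v ⊓ line w = ⊥ := by
      rw [eq_bot_iff]
      rintro y ⟨⟨k, hk, hky⟩, ⟨l, hl, hly⟩⟩
      by_contra hy
      have hl0 : l ≠ 0 := fun h => hy (by
        rw [Submodule.mem_bot, ← hly, h, Matrix.zero_mulVec])
      obtain ⟨l', hl', hll⟩ := hK.inv l hl hl0
      rw [hK.comm l hl l' hl'] at hll
      exact hw ⟨l' * k, K.mul_mem hl' hk, by
        rw [← Matrix.mulVec_mulVec, hky, ← hly, Matrix.mulVec_mulVec, hll, Matrix.one_mulVec]⟩
    have hw0 : w ≠ 0 := fun h => hw (h ▸ Submodule.zero_mem _)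
    have h1 := Submodule.finrank_sup_add_finrank_inf_eq (line v) (line w)
    rw [hdisj, finrank_bot, hlineDim v hv, hlineDim w hw0] at h1
    have htop : line v ⊔ line w = ⊤ :=
      Submodule.eq_top_of_finrank_eq (by rw [Module.finrank_fintype_fun_eq_card, hm]; omega)
    obtain ⟨a, ⟨k, hk, rfl⟩, b, ⟨l, hl, rfl⟩, hab⟩ := Submodule.mem_sup.1 (htop ▸ Submodule.mem_top : x ∈ line v ⊔ line w)
    exact ⟨k, hk, l, hl, hab.symm⟩
  have hconjK : ∀ g ∈ H, ∀ k ∈ K, mat g * k * mat g⁻¹ ∈ K := fun g hg k hk => (hle hg k).1 hk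
  have hmove : ∀ g ∈ H, ∀ k ∈ K, ∀ v, mat g *ᵥ (k *ᵥ v) = (mat g * k * mat g⁻¹) *ᵥ (mat g *ᵥ v) :=
    fun g hg k hk v => by
      rw [Matrix.mulVec_mulVec, Matrix.mulVec_mulVec, mul_assoc, mat_inv_mul, mul_one]
  -- no singular line
  have hN : ∀ v : ι → F, v ≠ 0 → ∃ k ∈ K, Q (k *ᵥ v) ≠ 0 := by
    intro v hv
    by_contra hn
    push Not at hn
    have hU0 : IsTotallySingularQuad Q (line v) := by
      rintro _ ⟨k, hk, rfl⟩; exact hn k hk
    have hst : H ≤ subspaceStabilizer (line v) := by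
      intro g hg
      rw [mem_subspaceStabilizer_iff]
      obtain ⟨x, hx, hx0⟩ := (Submodule.ne_bot_iff _).1 (inf_map_ne_bot hQ hm hodd (hH hg) (hlineDim v hv) hU0)
      obtain ⟨⟨k, hk, rfl⟩, y, ⟨l, hl, rfl⟩, hy⟩ := hx
      rw [Matrix.toLin'_apply, hmove g hg l hl] at hy
      have hc0 : mat g * l * mat g⁻¹ ≠ 0 := fun h => hx0 (by rw [← hy, h, Matrix.zero_mulVec])
      obtain ⟨c, hc, hcc⟩ := hK.inv _ (hconjK g hg l hl) hc0
      rw [hK.comm _ (hconjK g hg l hl) c hc] at hcc
      have hgv : mat g *ᵥ v = (c * k) *ᵥ v := by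
        rw [← Matrix.mulVec_mulVec, ← hy, Matrix.mulVec_mulVec, hcc, Matrix.one_mulVec]
      rintro _ ⟨j, hj, rfl⟩
      refine ⟨mat g * j * mat g⁻¹ * (c * k), K.mul_mem (hconjK g hg j hj) (K.mul_mem hc hk), ?_⟩
      rw [← Matrix.mulVec_mulVec, ← hgv, ← hmove g hg j hj]
    have hd := hlineDim v hv
    rcases (actsIrreducibly_iff.1 hirr) _ hst with h | h
    · rw [h, finrank_bot] at hd; omega
    · rw [h, finrank_top, Module.finrank_fintype_fun_eq_card, hm] at hd; omega
  have hnB : (2 : F) ≠ 0 → ∀ v : ι → F, v ≠ 0 → ∀ j ∈ K, (∀ l ∈ K, B ((l * j) *ᵥ v) v = 0) → j = 0 := by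
    intro h2 v hv j hj hz
    by_contra hj0
    obtain ⟨k, hk, hkv⟩ := hN v hv
    obtain ⟨j', hj', hjj⟩ := hK.inv j hj hj0
    rw [hK.comm j hj j' hj'] at hjj
    have h1 := hz (k * k * j') (K.mul_mem (K.mul_mem hk hk) hj')
    rw [mul_assoc, hjj, mul_one, ← Matrix.mulVec_mulVec, hsw k hk, MaxSub.polar_self hQ] at h1
    exact hkv ((mul_eq_zero.1 h1).resolve_left h2)
  have hone : ∀ l ∈ K, l * l = 1 → l = 1 ∨ l = -1 := by
    intro l hl h
    by_cases h1 : l - 1 = 0
    · exact Or.inl (sub_eq_zero.1 h1)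
    obtain ⟨y, hy, hly⟩ := hK.inv _ (K.sub_mem hl K.one_mem) h1
    refine Or.inr (eq_neg_of_add_eq_zero_left ?_)
    have h2 : (l + 1) * (l - 1) = 0 := by
      rw [add_mul, one_mul, mul_sub, h, mul_one]; abel
    have h3 := congrArg (fun M => M * y) h2
    simpa [mul_assoc, hly] using h3
  -- isometries commuting with the field
  let IsC : Matrix ι ι F → Prop := fun g => (∀ k ∈ K, g * k = k * g) ∧ ∀ v, Q (g *ᵥ v) = Q v
  have hCmul : ∀ g g', IsC g → IsC g' → IsC (g * g') := fun g g' h h' =>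
    ⟨fun k hk => by rw [mul_assoc, h'.1 k hk, ← mul_assoc, h.1 k hk, mul_assoc],
      fun v => by rw [← Matrix.mulVec_mulVec, h.2, h'.2]⟩
  have hCk : ∀ g, IsC g → ∀ k ∈ K, ∀ v, g *ᵥ (k *ᵥ v) = k *ᵥ (g *ᵥ v) := fun g h k hk v => by
    rw [Matrix.mulVec_mulVec, Matrix.mulVec_mulVec, h.1 k hk]
  have hCB : ∀ g, IsC g → ∀ u v, B (g *ᵥ u) (g *ᵥ v) = B u v := fun g h u v => by
    simp only [QuadraticMap.polar, ← Matrix.mulVec_add, h.2]
  have heigen : ∀ g, IsC g → ∀ w, w ≠ 0 → ∀ l ∈ K, g *ᵥ w = l *ᵥ w → l = 1 ∨ l = -1 := by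
    intro g hg w hw l hl hgw
    have hQl : ∀ k ∈ K, Q (k *ᵥ (l *ᵥ w)) = Q (k *ᵥ w) := fun k hk => by
      rw [← hgw, ← hCk g hg k hk, hg.2]
    by_cases h2 : (2 : F) = 0
    · left
      by_contra hne
      obtain ⟨k, hk, hkw⟩ := hN w hw
      obtain ⟨y, hy, hly⟩ := hK.inv _ (K.sub_mem hl K.one_mem) (sub_ne_zero.2 hne)
      rw [hK.comm _ (K.sub_mem hl K.one_mem) y hy] at hly
      apply hkw
      have h1 : k *ᵥ w = (k * y) *ᵥ (l *ᵥ w) + (-1 : F) • ((k * y) *ᵥ w) := by
        rw [neg_one_smul, ← sub_eq_add_neg, ← Matrix.mulVec_sub, show l *ᵥ w - w = (l - 1) *ᵥ w by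
          rw [Matrix.sub_mulVec, Matrix.one_mulVec], Matrix.mulVec_mulVec, mul_assoc, hly, mul_one]
      rw [h1, MaxSub.quad_add (Q := Q), hQl _ (K.mul_mem hk hy), hQ.smul, hf.sesq.smul_right,
        Matrix.mulVec_mulVec, ← hsw (k * y) (K.mul_mem hk hy), Matrix.mulVec_mulVec,
        halt h2 _ (K.mul_mem (K.mul_mem hk hy) (K.mul_mem (K.mul_mem hk hy) hl)) w]
      linear_combination Q ((k * y) *ᵥ w) * h2
    · refine hone l hl (sub_eq_zero.1 (hnB h2 w hw _ (K.sub_mem (K.mul_mem hl hl) K.one_mem) fun j hj => ?_))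
      have h1 := hCB g hg (j *ᵥ w) w
      rw [hCk g hg j hj, hgw, ← hsw l hl, Matrix.mulVec_mulVec, Matrix.mulVec_mulVec] at h1
      rw [mul_sub, mul_one, Matrix.sub_mulVec, hf.sub_left,
        show j * (l * l) = l * j * l by rw [← mul_assoc, hK.comm l hl j hj]]
      simp only [mul_assoc] at h1 ⊢
      rw [h1, sub_self]
  have hCmat : ∀ g ∈ H, (∀ k ∈ K, mat g * k = k * mat g) → IsC (mat g) := fun g hg h => ⟨h, hisoH g hg⟩
  have hconjC : ∀ a ∈ H, IsC (mat a) → ∀ g ∈ H, IsC (mat (g * a * g⁻¹)) := fun a ha hC g hg =>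
    hCmat _ (mul_mem (mul_mem hg ha) (inv_mem hg)) fun k hk => by
      have hk' : mat g⁻¹ * k * mat g ∈ K := by
        have := hconjK g⁻¹ (inv_mem hg) k hk
        rwa [inv_inv] at this
      have h1 := congrArg (fun M => mat g * M * mat g⁻¹) (hC.1 _ hk')
      simp only [mat, Units.val_mul, mul_assoc, Units.mul_inv_cancel_left, Units.mul_inv, mul_one] at h1 ⊢
      exact h1
  have hagree : ∀ g g' : Matrix ι ι F, (∀ k ∈ K, g * k = k * g) → (∀ k ∈ K, g' * k = k * g') →
      ∀ v w, v ≠ 0 → w ∉ line v → g *ᵥ v = g' *ᵥ v → g *ᵥ w = g' *ᵥ w → g = g' := by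
    intro g g' hg hg' v w hv hw e1 e2
    apply Matrix.toLin'.injective
    refine LinearMap.ext fun x => ?_
    obtain ⟨k, hk, l, hl, rfl⟩ := hbasis v w hv hw x
    simp only [Matrix.toLin'_apply, Matrix.mulVec_add, Matrix.mulVec_mulVec, hg k hk, hg' k hk, hg l hl, hg' l hl]
    simp only [← Matrix.mulVec_mulVec, e1, e2]
  by_cases hA : ∃ a ∈ H, IsC (mat a) ∧ mat a * mat a ≠ 1
  · -- a rotation
    right
    obtain ⟨a₀, ha₀, hC, hsq⟩ := hA
    set a := mat a₀ with hadef
    have hadja : ad a = mat a₀⁻¹ := hf.adj_isometry (hCB a hC)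
    have hinvC : IsC (mat a₀⁻¹) := hCmat _ (inv_mem ha₀) fun k hk => by
      have h1 := congrArg (fun M => mat a₀⁻¹ * M * mat a₀⁻¹) (hC.1 k hk)
      simp only [hadef, mat, mul_assoc, Units.inv_mul_cancel_left, Units.mul_inv, mul_one] at h1 ⊢
      exact h1.symm
    have hnoeig : ∀ w, w ≠ 0 → ∀ l ∈ K, a *ᵥ w ≠ l *ᵥ w := by
      intro w hw l hl haw
      obtain ⟨ε, hε, haw⟩ : ∃ ε : F, ε * ε = 1 ∧ a *ᵥ w = ε • w := by
        rcases heigen a hC w hw l hl haw with rfl | rfl
        · exact ⟨1, one_mul 1, by rw [haw, Matrix.one_mulVec, one_smul]⟩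
        · exact ⟨-1, by ring, by rw [haw, Matrix.neg_mulVec, Matrix.one_mulVec, neg_one_smul]⟩
      have hajw : ∀ j ∈ K, a *ᵥ (j *ᵥ w) = ε • (j *ᵥ w) := fun j hj => by
        rw [hCk a hC j hj, haw, Matrix.mulVec_smul]
      have hBj : ∀ j ∈ K, ∀ w', B (a *ᵥ w') (j *ᵥ w) = ε * B w' (j *ᵥ w) := fun j hj w' => by
        have h1 := hCB a hC w' (j *ᵥ w)
        rw [hajw j hj, hf.sesq.smul_right, RingEquiv.refl_apply] at h1
        linear_combination ε * h1 - B (a *ᵥ w') (j *ᵥ w) * hε
      have hsame : ∀ w', w' ∉ line w → a *ᵥ (a *ᵥ w') = w' → False := fun w' hw' h => by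
        refine hsq (hagree (a * a) 1 (fun k hk => ?_) (fun k hk => by rw [one_mul, mul_one]) w w' hw hw' ?_ ?_)
        · rw [mul_assoc, hC.1 k hk, ← mul_assoc, hC.1 k hk, mul_assoc]
        · rw [← Matrix.mulVec_mulVec, haw, Matrix.mulVec_smul, haw, smul_smul, hε, one_smul, Matrix.one_mulVec]
        · rw [← Matrix.mulVec_mulVec, h, Matrix.one_mulVec]
      by_cases h2 : (2 : F) = 0
      · have hε1 : ε = 1 := by
          have h : (ε - 1) * (ε - 1) = 0 := by linear_combination hε - (ε - 1) * h2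
          exact sub_eq_zero.1 (mul_self_eq_zero.1 h)
        subst hε1
        obtain ⟨w', hw'⟩ : ∃ w', w' ∉ line w := by
          by_contra hall
          push Not at hall
          have h3 := hlineDim w hw
          rw [show line w = ⊤ from eq_top_iff.2 fun x _ => hall x, finrank_top,
            Module.finrank_fintype_fun_eq_card, hm] at h3
          omega
        obtain ⟨x, hx, μ, hμ, haw'⟩ := hbasis w w' hw hw' (a *ᵥ w')
        have hww : ∀ j ∈ K, ∀ k ∈ K, B (k *ᵥ w) (j *ᵥ w) = 0 := fun j hj k hk => by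
          rw [← hsw j hj, Matrix.mulVec_mulVec, halt h2 _ (K.mul_mem hj hk)]
        have hj0 : ∀ j ∈ K, B w' ((μ * j - j) *ᵥ w) = 0 := fun j hj => by
          have h1 := hBj j hj w'
          rw [haw', hf.sesq.add_left, hww j hj x hx, hsw μ hμ, Matrix.mulVec_mulVec, one_mul] at h1
          rw [Matrix.sub_mulVec, hf.sub_right]
          linear_combination h1
        have hμ1 : μ = 1 := by
          by_contra hne
          obtain ⟨y, hy, hμy⟩ := hK.inv _ (K.sub_mem hμ K.one_mem) (sub_ne_zero.2 hne)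
          have hz : ∀ j ∈ K, B w' (j *ᵥ w) = 0 := fun j hj => by
            have h1 := hj0 (y * j) (K.mul_mem hy hj)
            rwa [show μ * (y * j) - y * j = j by
              rw [← mul_assoc, ← sub_mul, show μ * y - y = (μ - 1) * y by rw [sub_mul, one_mul], hμy,
                one_mul]] at h1
          obtain ⟨⟨z, hz'⟩, -⟩ := hQ.nondegenerate w hw
          apply hz'
          obtain ⟨k, hk, j, hj, rfl⟩ := hbasis w w' hw hw' z
          rw [hf.sesq.add_left, halt h2 k hk, hsw j hj, hz j hj, zero_add]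
        subst hμ1
        rw [Matrix.one_mulVec] at haw'
        refine hsame w' hw' ?_
        rw [haw', Matrix.mulVec_add, haw', hajw x hx, one_smul, ← add_assoc, ← two_smul F, h2, zero_smul,
          zero_add]
      · obtain ⟨w', hw'p, hw'0⟩ := (Submodule.ne_bot_iff (hf.perp (line w))).1 fun h => by
          have h1 := hf.finrank_perp (line w)
          rw [h, finrank_bot, hlineDim w hw, hm] at h1
          omega
        have hw'w : w' ∉ line w := by
          rintro ⟨k, hk, rfl⟩
          apply hw'0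
          rw [hnB h2 w hw k hk fun j hj => ?_, Matrix.zero_mulVec]
          rw [← Matrix.mulVec_mulVec, hsw j hj]
          exact hw'p _ ⟨j, hj, rfl⟩
        obtain ⟨x, hx, μ, hμ, haw'⟩ := hbasis w w' hw hw'w (a *ᵥ w')
        have hx0 : x = 0 := hnB h2 w hw x hx fun j hj => by
          have h1 := hBj j hj w'
          rw [haw', hf.sesq.add_left, hsw μ hμ, Matrix.mulVec_mulVec,
            hw'p _ ⟨μ * j, K.mul_mem hμ hj, rfl⟩, hw'p _ ⟨j, hj, rfl⟩, mul_zero, add_zero] at h1
          rw [← Matrix.mulVec_mulVec, hsw j hj]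
          exact h1
        rw [hx0, Matrix.zero_mulVec, zero_add] at haw'
        refine hsame w' hw'w ?_
        rw [haw', hCk a hC μ hμ, haw', Matrix.mulVec_mulVec]
        rcases heigen a hC w' hw'0 μ hμ haw' with rfl | rfl <;>
          simp [Matrix.neg_mulVec]
    obtain ⟨v₀, hv₀⟩ := exists_ne (0 : ι → F)
    have hnl : ∀ v, v ≠ 0 → a *ᵥ v ∉ line v := fun v hv ⟨k, hk, h⟩ => hnoeig v hv k hk h.symm
    obtain ⟨x₀, hx₀, y₀, hy₀, haa₀⟩ := hbasis v₀ (a *ᵥ v₀) hv₀ (hnl v₀ hv₀) (a *ᵥ (a *ᵥ v₀))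
    have hak : ∀ k ∈ K, a * k = k * a := hC.1
    have haa : a * a = x₀ + y₀ * a := by
      refine hagree _ _ (fun k hk => by rw [mul_assoc, hak k hk, ← mul_assoc, hak k hk, mul_assoc])
        (fun k hk => ?_) v₀ (a *ᵥ v₀) hv₀ (hnl v₀ hv₀) ?_ ?_
      · rw [add_mul, mul_add, mul_assoc, hak k hk, ← mul_assoc, ← mul_assoc, hK.comm k hk x₀ hx₀,
          hK.comm k hk y₀ hy₀]
      · rw [← Matrix.mulVec_mulVec, haa₀, Matrix.add_mulVec, ← Matrix.mulVec_mulVec]
      · rw [← Matrix.mulVec_mulVec, haa₀, Matrix.mulVec_add, hCk a hC x₀ hx₀, hCk a hC y₀ hy₀,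
          Matrix.add_mulVec, ← Matrix.mulVec_mulVec]
    have hainv : mat a₀⁻¹ * a = 1 ∧ a * mat a₀⁻¹ = 1 := ⟨mat_inv_mul _, mat_mul_inv _⟩
    have hx00 : x₀ ≠ 0 := by
      intro h
      refine hnoeig v₀ hv₀ y₀ hy₀ ?_
      have h1 : a = y₀ := by
        have h1 := congrArg (fun M => M * mat a₀⁻¹) haa
        simp only [h, zero_add, mul_assoc, hainv.2, mul_one] at h1
        exact h1
      rw [h1]
    let Emem : Matrix ι ι F → Prop := fun e => ∃ x ∈ K, ∃ y ∈ K, e = x + y * a
    have hEmul : ∀ e e', Emem e → Emem e' → Emem (e * e') := by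
      rintro _ _ ⟨x, hx, y, hy, rfl⟩ ⟨x', hx', y', hy', rfl⟩
      refine ⟨x * x' + y * y' * x₀, K.add_mem (K.mul_mem hx hx') (K.mul_mem (K.mul_mem hy hy') hx₀),
        x * y' + y * x' + y * y' * y₀,
        K.add_mem (K.add_mem (K.mul_mem hx hy') (K.mul_mem hy hx')) (K.mul_mem (K.mul_mem hy hy') hy₀), ?_⟩
      calc (x + y * a) * (x' + y' * a) = x * x' + x * (y' * a) + y * (a * x') + y * (a * y') * a := by
            simp only [add_mul, mul_add, mul_assoc]; abel
        _ = x * x' + x * (y' * a) + y * (x' * a) + y * y' * (a * a) := by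
            rw [hak x' hx', hak y' hy']; simp only [mul_assoc]
        _ = _ := by rw [haa]; simp only [add_mul, mul_add, mul_assoc]; abel
    let E : Subalgebra F (Matrix ι ι F) :=
      { carrier := {e | Emem e}
        mul_mem' := fun {e e'} h h' => hEmul e e' h h'
        one_mem' := ⟨1, K.one_mem, 0, K.zero_mem, by rw [zero_mul, add_zero]⟩
        add_mem' := by
          rintro _ _ ⟨x, hx, y, hy, rfl⟩ ⟨x', hx', y', hy', rfl⟩
          exact ⟨x + x', K.add_mem hx hx', y + y', K.add_mem hy hy', by rw [add_mul]; abel⟩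
        zero_mem' := ⟨0, K.zero_mem, 0, K.zero_mem, by rw [zero_mul, add_zero]⟩
        algebraMap_mem' := fun c => ⟨_, K.algebraMap_mem c, 0, K.zero_mem, by rw [zero_mul, add_zero]⟩ }
    have hKE : ∀ k ∈ K, k ∈ E := fun k hk => ⟨k, hk, 0, K.zero_mem, by rw [zero_mul, add_zero]⟩
    have haE : a ∈ E := ⟨0, K.zero_mem, 1, K.one_mem, by rw [one_mul, zero_add]⟩
    have hEcK : ∀ e ∈ E, ∀ k ∈ K, e * k = k * e := by
      rintro _ ⟨x, hx, y, hy, rfl⟩ k hk
      rw [add_mul, mul_add, mul_assoc, hak k hk, ← mul_assoc, ← mul_assoc, hK.comm k hk x hx,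
        hK.comm k hk y hy]
    have hEc : ∀ e ∈ E, ∀ e' ∈ E, e * e' = e' * e := by
      intro e he e' he'
      obtain ⟨x', hx', y', hy', rfl⟩ := he'
      have hea : e * a = a * e := by
        obtain ⟨x, hx, y, hy, rfl⟩ := he
        rw [add_mul, mul_add, hak x hx, ← mul_assoc a y a, hak y hy, mul_assoc]
      rw [mul_add, add_mul, hEcK e he x' hx', ← mul_assoc, hEcK e he y' hy', mul_assoc, hea, ← mul_assoc]
    have hEinj : ∀ e ∈ E, ∀ u, u ≠ 0 → e *ᵥ u = 0 → e = 0 := by
      rintro _ ⟨x, hx, y, hy, rfl⟩ u hu h0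
      by_cases hy0 : y = 0
      · subst hy0
        rw [zero_mul, add_zero] at h0 ⊢
        exact hinjK x hx u hu h0
      · exfalso
        obtain ⟨y', hy', hyy⟩ := hK.inv y hy hy0
        rw [hK.comm y hy y' hy'] at hyy
        refine hnoeig u hu (-(y' * x)) (K.neg_mem (K.mul_mem hy' hx)) ?_
        rw [Matrix.add_mulVec, add_comm, ← eq_neg_iff_add_eq_zero] at h0
        have h1 := congrArg (fun z => y' *ᵥ z) h0
        simp only [Matrix.mulVec_neg, Matrix.mulVec_mulVec, ← mul_assoc, hyy, one_mul] at h1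
        rw [h1, Matrix.neg_mulVec]
    have hEinv : ∀ e ∈ E, e ≠ 0 → ∃ e' ∈ E, e * e' = 1 := by
      intro e he he0
      haveI : Finite E := Finite.of_injective (Subtype.val : E → _) Subtype.val_injective
      let L : E → E := fun z => ⟨e, he⟩ * z
      have hinj : Function.Injective L := by
        rintro ⟨p, hp⟩ ⟨q, hq⟩ h
        have h' : e * p = e * q := congrArg Subtype.val h
        refine Subtype.ext (Matrix.toLin'.injective (LinearMap.ext fun u => ?_))
        rw [Matrix.toLin'_apply, Matrix.toLin'_apply]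
        by_contra hne
        refine he0 (hEinj e he (p *ᵥ u - q *ᵥ u) (sub_ne_zero.2 hne) ?_)
        rw [Matrix.mulVec_sub, Matrix.mulVec_mulVec, Matrix.mulVec_mulVec, h', sub_self]
      obtain ⟨⟨e', he'⟩, h⟩ := (Finite.injective_iff_surjective.1 hinj) 1
      exact ⟨e', he', congrArg Subtype.val h⟩
    have hEdim : Module.finrank F E = 2 * m := by
      let L : K × K →ₗ[F] Matrix ι ι F :=
        { toFun := fun z => z.1.1 + z.2.1 * a
          map_add' := fun z z' => by simp only [Prod.fst_add, Prod.snd_add, Subalgebra.coe_add, add_mul]; abel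
          map_smul' := fun c z => by
            simp only [Prod.smul_fst, Prod.smul_snd, Subalgebra.coe_smul, RingHom.id_apply, smul_add,
              Matrix.smul_mul] }
      have hinj : Function.Injective L := by
        rw [injective_iff_map_eq_zero]
        rintro ⟨⟨x, hx⟩, ⟨y, hy⟩⟩ h
        have h' : x + y * a = 0 := h
        have hy0 : y = 0 := by
          by_contra hy0
          obtain ⟨y', hy', hyy⟩ := hK.inv y hy hy0
          rw [hK.comm y hy y' hy'] at hyy
          refine hnoeig v₀ hv₀ (-(y' * x)) (K.neg_mem (K.mul_mem hy' hx)) ?_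
          rw [add_comm, ← eq_neg_iff_add_eq_zero] at h'
          have h1 := congrArg (fun z => y' * z) h'
          simp only [← mul_assoc, hyy, one_mul, mul_neg] at h1
          rw [← h1]
        subst hy0
        rw [zero_mul, add_zero] at h'
        subst h'
        rfl
      have hr : Subalgebra.toSubmodule E = LinearMap.range L := by
        ext e
        exact ⟨fun ⟨x, hx, y, hy, h⟩ => ⟨(⟨x, hx⟩, ⟨y, hy⟩), h.symm⟩,
          fun ⟨z, h⟩ => ⟨z.1.1, z.1.2, z.2.1, z.2.2, h.symm⟩⟩
      rw [← Subalgebra.finrank_toSubmodule, hr, LinearMap.finrank_range_of_inj hinj, Module.finrank_prod,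
        hK.finrank_eq]
      omega
    have hadaE : ad a ∈ E := by
      obtain ⟨xi, hxi, hxx⟩ := hK.inv x₀ hx₀ hx00
      have h1 : a * (a - y₀) = x₀ := by rw [mul_sub, haa, hak y₀ hy₀]; abel
      have h2 : mat a₀⁻¹ = (a - y₀) * xi := by
        calc mat a₀⁻¹ = mat a₀⁻¹ * (x₀ * xi) := by rw [hxx, mul_one]
          _ = mat a₀⁻¹ * a * ((a - y₀) * xi) := by rw [← h1]; simp only [mul_assoc]
          _ = _ := by rw [hainv.1, one_mul]
      rw [hadja, h2]
      exact hEmul _ _ (E.sub_mem haE (hKE _ hy₀)) (hKE _ hxi)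
    have hadE : ∀ e ∈ E, ad e ∈ E := by
      rintro _ ⟨x, hx, y, hy, rfl⟩
      rw [hf.adj_add, hf.adj_mul, hsa x hx, hsa y hy]
      exact E.add_mem (hKE _ hx) (hEmul _ _ hadaE (hKE _ hy))
    have hane : ad a ≠ a := fun h => hsq (by
      nth_rw 1 [← h]
      rw [hadja, hainv.1])
    have hfixed : ∀ e ∈ E, ad e = e → e ∈ K := by
      rintro _ ⟨x, hx, y, hy, rfl⟩ h
      rw [hf.adj_add, hf.adj_mul, hsa x hx, hsa y hy] at h
      by_cases hy0 : y = 0
      · rw [hy0, zero_mul, add_zero]; exact hx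
      exfalso
      obtain ⟨y', hy', hyy⟩ := hK.inv y hy hy0
      rw [hK.comm y hy y' hy'] at hyy
      apply hane
      have h1 := add_left_cancel h
      rw [hEcK _ hadaE y hy] at h1
      have h2 := congrArg (fun z => y' * z) h1
      simpa [← mul_assoc, hyy] using h2
    set s := a + ad a with hsdef
    have hsK : s ∈ K := hfixed _ (E.add_mem haE hadaE) (by rw [hf.adj_add, hf.adj_adj, add_comm])
    have hNK : ∀ e ∈ E, ad e * e ∈ K := fun e he =>
      hfixed _ (hEmul _ _ (hadE e he) he) (by rw [hf.adj_mul, hf.adj_adj])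
    have hBN : ∀ e ∈ E, ∀ j ∈ K, ∀ v, B (j *ᵥ (e *ᵥ v)) (e *ᵥ v) = B ((j * (ad e * e)) *ᵥ v) v := by
      intro e he j hj v
      rw [QuadraticMap.polar_comm, hf.adj_spec, QuadraticMap.polar_comm, Matrix.mulVec_mulVec,
        Matrix.mulVec_mulVec, hEcK _ (hadE e he) j hj, mul_assoc]
    -- characteristic two
    have hsq_inj : (2 : F) = 0 → ∀ k ∈ K, ∀ l ∈ K, k * k = l * l → k = l := by
      intro h2 k hk l hl h
      by_contra hne
      obtain ⟨z, hz, hz1⟩ := hK.inv _ (K.sub_mem hk hl) (sub_ne_zero.2 hne)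
      have h3 : (k - l) * (k - l) = 0 := by
        rw [sub_mul, mul_sub, mul_sub, hK.comm l hl k hk, h]
        have h4 : (2 : F) • (l * l - k * l) = 0 := by rw [h2, zero_smul]
        rw [two_smul] at h4
        linear_combination (norm := abel) h4
      have h5 := congrArg (fun M => M * z) h3
      simp only [mul_assoc, hz1, mul_one, zero_mul] at h5
      exact hne (sub_eq_zero.1 h5)
    have hQadd : (2 : F) = 0 → ∀ v, ∀ k ∈ K, ∀ l ∈ K, Q ((k + l) *ᵥ v) = Q (k *ᵥ v) + Q (l *ᵥ v) := by
      intro h2 v k hk l hl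
      rw [Matrix.add_mulVec, MaxSub.quad_add (Q := Q), QuadraticMap.polar_comm, ← hsw k hk,
        Matrix.mulVec_mulVec, halt h2 _ (K.mul_mem hk hl), add_zero]
    have hs0 : (2 : F) = 0 → s ≠ 0 := fun h2 h => hane (by
      have h1 : (2 : F) • a = 0 := by rw [h2, zero_smul]
      rw [two_smul] at h1
      rw [hsdef] at h
      linear_combination (norm := abel) h - h1)
    have hβ : (2 : F) = 0 → ∀ v, ∀ l ∈ K, B ((s * (l * l)) *ᵥ v) (a *ᵥ v) = Q ((s * l) *ᵥ v) := by
      intro h2 v l hl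
      have hsl : (s * l) *ᵥ v = a *ᵥ (l *ᵥ v) + ad a *ᵥ (l *ᵥ v) := by
        rw [← Matrix.mulVec_mulVec, hsdef, Matrix.add_mulVec]
      rw [hsl, MaxSub.quad_add (Q := Q), hC.2, hadja, hinvC.2, ← hadja]
      set u := l *ᵥ v
      have e1 : B (a *ᵥ u) (ad a *ᵥ u) = B (a *ᵥ (a *ᵥ u)) u := (hf.adj_spec a _ _).symm
      have hsa2 : a * a = s * a - 1 := by
        rw [hsdef, add_mul, hadja, hainv.1, add_sub_cancel_right]
      have e2 : B ((s * a) *ᵥ u) u = B ((s * (l * l)) *ᵥ v) (a *ᵥ v) := by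
        rw [← Matrix.mulVec_mulVec u s a, hsw s hsK, QuadraticMap.polar_comm Q (a *ᵥ u), hCk a hC l hl,
          ← hsw l hl, Matrix.mulVec_mulVec, Matrix.mulVec_mulVec, ← mul_assoc s l l, hK.comm l hl s hsK]
      rw [e1, Matrix.mulVec_mulVec, hsa2, Matrix.sub_mulVec, Matrix.one_mulVec, hf.sub_left,
        MaxSub.polar_self hQ, h2, zero_mul, sub_zero, ← two_mul, h2, zero_mul, zero_add, e2]
    have hnormQ : (2 : F) = 0 → ∀ e ∈ E, ∀ v, ∀ l ∈ K, ∀ r ∈ K, r * r = l * l * (ad e * e) →
        Q (l *ᵥ (e *ᵥ v)) = Q (r *ᵥ v) := by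
      rintro h2 _ ⟨x, hx, y, hy, rfl⟩ v l hl r hr hrr
      obtain ⟨si, hsi, hssi⟩ := hK.inv s hsK (hs0 h2)
      have hlx := K.mul_mem hl hx
      have hly := K.mul_mem hl hy
      obtain ⟨t, ht, htt⟩ := hsqrt h2 (si * ((l * y) * (l * x))) (K.mul_mem hsi (K.mul_mem hly hlx))
      have hst := K.mul_mem hsK ht
      have hjs : s * (t * t) = (l * y) * (l * x) := by rw [htt, ← mul_assoc, hssi, one_mul]
      have hexp : l *ᵥ ((x + y * a) *ᵥ v) = (l * x) *ᵥ v + a *ᵥ ((l * y) *ᵥ v) := by
        rw [hCk a hC _ hly]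
        simp only [Matrix.mulVec_mulVec, mul_add, Matrix.add_mulVec, Matrix.mulVec_add, mul_assoc]
      have hr' : r = (l * x + l * y) + s * t := by
        refine hsq_inj h2 _ hr _ (K.add_mem (K.add_mem hlx hly) hst) ?_
        letI : CommRing K :=
          { (inferInstance : Ring K) with mul_comm := fun p q => Subtype.ext (hK.comm _ p.2 _ q.2) }
        have hN : ad (x + y * a) * (x + y * a) = x * x + x * y * s + y * y := by
          rw [hf.adj_add, hf.adj_mul, hsa x hx, hsa y hy, hEcK _ hadaE y hy, add_mul, mul_add, mul_add,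
            hsdef, mul_add]
          have c1 : y * ad a * x = x * y * ad a := by
            rw [mul_assoc, hEcK _ hadaE x hx, ← mul_assoc, hK.comm y hy x hx]
          have c2 : y * ad a * (y * a) = y * y := by
            rw [mul_assoc, ← mul_assoc (ad a), hEcK _ hadaE y hy, mul_assoc y, hadja, hainv.1, mul_one]
          rw [c1, c2, ← mul_assoc x y a]
          abel
        rw [hrr, hN]
        let X : K := ⟨x, hx⟩
        let Y : K := ⟨y, hy⟩
        let S : K := ⟨s, hsK⟩
        let T : K := ⟨t, ht⟩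
        let L : K := ⟨l, hl⟩
        have h2K : (2 : K) = 0 := Subtype.ext (by
          show (2 : Matrix ι ι F) = 0
          rw [show (2 : Matrix ι ι F) = (2 : F) • 1 by rw [two_smul]; norm_num, h2, zero_smul])
        have hjsK : S * (T * T) = (L * Y) * (L * X) := Subtype.ext hjs
        have key : L * L * (X * X + X * Y * S + Y * Y) = (L * X + L * Y + S * T) * (L * X + L * Y + S * T) := by
          linear_combination (-S) * hjsK - (L * L * X * Y + S * T * (L * X + L * Y)) * h2K
        exact congrArg Subtype.val key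
      rw [hexp, MaxSub.quad_add (Q := Q), hC.2, hCk a hC _ hly, ← hsw _ hly, Matrix.mulVec_mulVec, ← hjs,
        hβ h2 v t ht, hr', hQadd h2 v _ (K.add_mem hlx hly) _ hst, hQadd h2 v _ hlx _ hly]
    have hunit : ∀ e ∈ E, ad e * e = 1 → ∀ u, Q (e *ᵥ u) = Q u := by
      intro e he hN1 u
      by_cases h2 : (2 : F) = 0
      · have h1 := hnormQ h2 e he u 1 K.one_mem 1 K.one_mem (by rw [hN1, one_mul, one_mul])
        rwa [Matrix.one_mulVec, Matrix.one_mulVec] at h1
      · have h1 := hBN e he 1 K.one_mem u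
        rw [one_mul, hN1, Matrix.one_mulVec, Matrix.one_mulVec, MaxSub.polar_self hQ, MaxSub.polar_self hQ] at h1
        exact mul_left_cancel₀ h2 h1
    have hnormOne : ∀ e ∈ E, ∀ v, v ≠ 0 → (∀ l ∈ K, Q (l *ᵥ (e *ᵥ v)) = Q (l *ᵥ v)) → ad e * e = 1 := by
      intro e he v hv h
      have hN' := hNK e he
      set N := ad e * e with hNdef
      by_cases h2 : (2 : F) = 0
      · obtain ⟨n, hn, hnn⟩ := hsqrt h2 N hN'
        suffices hn1 : n = 1 by rw [← hnn, hn1, one_mul]
        by_contra hne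
        have hne' : n + 1 ≠ 0 := fun h' => hne (by
          have h1 : (2 : F) • (1 : Matrix ι ι F) = 0 := by rw [h2, zero_smul]
          rw [two_smul] at h1
          linear_combination (norm := abel) h' - h1)
        obtain ⟨z, hz, hz1⟩ := hK.inv _ (K.add_mem hn K.one_mem) hne'
        obtain ⟨k, hk, hkv⟩ := hN v hv
        apply hkv
        have hl := K.mul_mem hk hz
        have hln := K.mul_mem hl hn
        have h1 := h _ hl
        rw [hnormQ h2 e he v _ hl _ hln (by
          rw [← hNdef, ← hnn, mul_assoc (k * z) n, ← mul_assoc n (k * z), hK.comm n hn _ hl]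
          simp only [mul_assoc])] at h1
        have h3 : k * z * n + k * z = k := by
          rw [← mul_add_one, mul_assoc, hK.comm z hz _ (K.add_mem hn K.one_mem), hz1, mul_one]
        rw [← h3, hQadd h2 v _ hln _ hl, h1]
        linear_combination Q ((k * z) *ᵥ v) * h2
      · refine sub_eq_zero.1 (hnB h2 v hv _ (K.sub_mem hN' K.one_mem) fun j hj => ?_)
        have hsqz : ∀ l ∈ K, B ((l * l * (N - 1)) *ᵥ v) v = 0 := by
          intro l hl
          have h1 := h l hl
          have h3 : B ((l * l) *ᵥ (e *ᵥ v)) (e *ᵥ v) = B ((l * l) *ᵥ v) v := by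
            rw [← Matrix.mulVec_mulVec, hsw l hl, MaxSub.polar_self hQ, h1, ← Matrix.mulVec_mulVec, hsw l hl,
              MaxSub.polar_self hQ]
          rw [hBN e he _ (K.mul_mem hl hl), ← hNdef] at h3
          rw [mul_sub, mul_one, Matrix.sub_mulVec, hf.sub_left, h3, sub_self]
        have h1 := hsqz (j + 1) (K.add_mem hj K.one_mem)
        have h3 := hsqz j hj
        have h4 := hsqz 1 K.one_mem
        rw [one_mul, one_mul] at h4
        have hexp : (j + 1) * (j + 1) * (N - 1) =
            j * j * (N - 1) + (2 : F) • (j * (N - 1)) + (N - 1) := by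
          rw [two_smul]; simp only [add_mul, mul_add, one_mul, mul_one, mul_assoc]; abel
        rw [hexp, Matrix.add_mulVec, Matrix.add_mulVec, hf.sesq.add_left, hf.sesq.add_left, h3, h4,
          Matrix.smul_mulVec, hf.sesq.smul_left, zero_add, add_zero] at h1
        exact (mul_eq_zero.1 h1).resolve_left h2
    have htr : ∀ d ∈ E, ∀ v, v ≠ 0 → (∀ l ∈ K, B (l *ᵥ v) (d *ᵥ v) = 0) → d + ad d = 0 := by
      intro d hd v hv h
      by_cases h2 : (2 : F) = 0
      · obtain ⟨x, hx, y, hy, rfl⟩ := hd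
        have hy0 : y = 0 := by
          by_contra hy0
          obtain ⟨y', hy', hyy⟩ := hK.inv y hy hy0
          obtain ⟨si, hsi, hssi⟩ := hK.inv s hsK (hs0 h2)
          obtain ⟨k, hk, hkv⟩ := hN v hv
          apply hkv
          have hsk := K.mul_mem hsi hk
          have h1 := h (y' * (s * ((si * k) * (si * k)))) (K.mul_mem hy' (K.mul_mem hsK (K.mul_mem hsk hsk)))
          rw [Matrix.add_mulVec, hf.sesq.add_right, ← hsw x hx, Matrix.mulVec_mulVec,
            halt h2 _ (K.mul_mem hx (K.mul_mem hy' (K.mul_mem hsK (K.mul_mem hsk hsk)))), zero_add,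
            ← Matrix.mulVec_mulVec v y a, ← hsw y hy, Matrix.mulVec_mulVec, ← mul_assoc y, show y * y' = 1 by rw [hK.comm y hy y' hy', ← hK.comm y hy y' hy']; exact hyy,
            one_mul, hβ h2 v _ hsk, ← mul_assoc, hssi, one_mul] at h1
          exact h1
        subst hy0
        rw [zero_mul, add_zero, hsa x hx, ← two_smul F, h2, zero_smul]
      · have hdK : d + ad d ∈ K := hfixed _ (E.add_mem hd (hadE d hd)) (by rw [hf.adj_add, hf.adj_adj, add_comm])
        refine hnB h2 v hv _ hdK fun j hj => ?_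
        rw [mul_add, Matrix.add_mulVec, hf.sesq.add_left, ← Matrix.mulVec_mulVec, hsw j hj,
          ← hEcK _ (hadE d hd) j hj, ← Matrix.mulVec_mulVec, hf.adj_spec (ad d), hf.adj_adj, h j hj,
          QuadraticMap.polar_comm, h j hj, add_zero]
    have hclaim : ∀ g, IsC g → g * g ≠ 1 → g ∈ E := by
      intro g hg hgg
      obtain ⟨x, hx, y, hy, hgv⟩ := hbasis v₀ (a *ᵥ v₀) hv₀ (hnl v₀ hv₀) (g *ᵥ v₀)
      set e := x + y * a with hedef
      have he : e ∈ E := ⟨x, hx, y, hy, rfl⟩
      have hgv' : g *ᵥ v₀ = e *ᵥ v₀ := by rw [hgv, hedef, Matrix.add_mulVec, Matrix.mulVec_mulVec]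
      have hN1 := hnormOne e he v₀ hv₀ fun l hl => by rw [← hgv', ← hCk g hg l hl, hg.2]
      have hN2 : e * ad e = 1 := by rw [hEc e he _ (hadE e he), hN1]
      have hg' : IsC (ad e * g) := hCmul _ _ ⟨fun k hk => hEcK _ (hadE e he) k hk,
        hunit _ (hadE e he) (by rw [hf.adj_adj, hN2])⟩ hg
      have hgg' : g = e * (ad e * g) := by rw [← mul_assoc, hN2, one_mul]
      have hv1 : (ad e * g) *ᵥ v₀ = v₀ := by
        rw [← Matrix.mulVec_mulVec, hgv', Matrix.mulVec_mulVec, hN1, Matrix.one_mulVec]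
      obtain ⟨x', hx', y', hy', hga⟩ := hbasis v₀ (a *ᵥ v₀) hv₀ (hnl v₀ hv₀) ((ad e * g) *ᵥ (a *ᵥ v₀))
      set e' := x' + y' * a with he'def
      have he' : e' ∈ E := ⟨x', hx', y', hy', rfl⟩
      have hga' : (ad e * g) *ᵥ (a *ᵥ v₀) = e' *ᵥ v₀ := by
        rw [hga, he'def, Matrix.add_mulVec, Matrix.mulVec_mulVec]
      have hN1' := hnormOne e' he' v₀ hv₀ fun l hl => by
        rw [← hga', ← hCk _ hg' l hl, hg'.2, ← hCk a hC l hl, hC.2]
      have hd := htr (e' - a) (E.sub_mem he' haE) v₀ hv₀ fun l hl => by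
        have h1 := hCB _ hg' (l *ᵥ v₀) (a *ᵥ v₀)
        rw [hga', hCk _ hg' l hl, hv1] at h1
        rw [Matrix.sub_mulVec, hf.sub_right, h1, sub_self]
      have hroot : (e' - a) * (e' - ad a) = 0 := by
        have hsum : ad e' = s - e' := by
          rw [sub_eq_add_neg e' a, hf.adj_add, show (-a) = (-1 : F) • a from (neg_one_smul F a).symm,
            hf.adj_smul, RingEquiv.refl_apply, neg_one_smul, neg_one_smul] at hd
          rw [hsdef]
          linear_combination (norm := abel) hd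
        rw [hsum] at hN1'
        rw [sub_mul, mul_sub, mul_sub, hEc e' he' _ hadaE]
        have h3 : a * ad a = 1 := by rw [hadja, hainv.2]
        rw [h3]
        rw [hsdef, sub_mul, add_mul] at hN1'
        linear_combination (norm := abel) -hN1'
      by_cases hcase : e' = a
      · have h1 : ad e * g = 1 := hagree _ _ hg'.1 (fun k _ => by rw [one_mul, mul_one]) v₀ (a *ᵥ v₀) hv₀
          (hnl v₀ hv₀) (by rw [hv1, Matrix.one_mulVec]) (by rw [hga', hcase, Matrix.one_mulVec])
        rw [hgg', h1, mul_one]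
        exact he
      · exfalso
        obtain ⟨z, hz, hz1⟩ := hEinv _ (E.sub_mem he' haE) (sub_ne_zero.2 hcase)
        have he'a : e' = ad a := by
          have h1 := congrArg (fun M => z * M) hroot
          simp only [← mul_assoc, mul_zero] at h1
          rw [hEc z hz _ (E.sub_mem he' haE), hz1, one_mul] at h1
          exact sub_eq_zero.1 h1
        have key : ∀ d ∈ E, g *ᵥ (d *ᵥ v₀) = e *ᵥ (ad d *ᵥ v₀) := by
          rintro _ ⟨p, hp, q, hq, rfl⟩
          rw [hgg', ← Matrix.mulVec_mulVec ((p + q * a) *ᵥ v₀) e (ad e * g)]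
          congr 1
          have h1 : ad (p + q * a) = p + q * ad a := by
            rw [hf.adj_add, hf.adj_mul, hsa p hp, hsa q hq, hEcK _ hadaE q hq]
          rw [h1]
          generalize ad e * g = g' at hv1 hga' hg' ⊢
          rw [Matrix.add_mulVec p (q * a) v₀, Matrix.add_mulVec p (q * ad a) v₀, Matrix.mulVec_add,
            ← Matrix.mulVec_mulVec v₀ q a, ← Matrix.mulVec_mulVec v₀ q (ad a), hCk _ hg' p hp, hCk _ hg' q hq,
            hv1, hga', he'a]
        refine hgg (hagree _ 1 (fun k hk => ?_) (fun k _ => by rw [one_mul, mul_one]) v₀ (a *ᵥ v₀) hv₀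
          (hnl v₀ hv₀) ?_ ?_)
        · rw [mul_assoc, hg.1 k hk, ← mul_assoc, hg.1 k hk, mul_assoc]
        · rw [← Matrix.mulVec_mulVec, hgv', key e he, Matrix.mulVec_mulVec, hN2]
        · rw [← Matrix.mulVec_mulVec, key a haE, Matrix.mulVec_mulVec v₀ e (ad a),
            key _ (hEmul _ _ he hadaE), hf.adj_mul, hf.adj_adj, Matrix.mulVec_mulVec, hEc a haE _ (hadE e he),
            ← mul_assoc, hN2, one_mul, Matrix.one_mulVec]
    have hEn : ∀ g ∈ H, ∀ e ∈ E, mat g * e * mat g⁻¹ ∈ E := by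
      rintro g hg _ ⟨x, hx, y, hy, rfl⟩
      have hga : mat (g * a₀ * g⁻¹) ∈ E := by
        refine hclaim _ (hconjC a₀ ha₀ hC g hg) fun h => hsq ?_
        have h1 := congrArg (fun M => mat g⁻¹ * M * mat g) h
        simp only [mat, Units.val_mul, mul_assoc, Units.inv_mul_cancel_left, Units.inv_mul, mul_one] at h1
        simpa [hadef, mat] using h1
      rw [mul_add, add_mul]
      refine E.add_mem (hKE _ (hconjK g hg x hx)) ?_
      rw [show mat g * (y * a) * mat g⁻¹ = (mat g * y * mat g⁻¹) * mat (g * a₀ * g⁻¹) by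
        simp [hadef, mat, mul_assoc]]
      exact hEmul _ _ (hKE _ (hconjK g hg y hy)) hga
    obtain ⟨L, hL, hmem⟩ := exists_quadratic_subfield hEc hEinv (hEdim ▸ dvd_mul_right 2 m)
    refine ⟨L, hL, fun g hg => mem_subalgebraNormalizer_of fun x hx => ?_, fun k hk => ?_, ?_⟩
    · obtain ⟨hxE, hxp⟩ := (hmem x).1 hx
      refine (hmem _).2 ⟨hEn g hg x hxE, ?_⟩
      have hpow : ∀ j : ℕ, (mat g * x * mat g⁻¹) ^ j = mat g * x ^ j * mat g⁻¹ := by
        intro j
        induction j with
        | zero => simp [mat]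
        | succ j ih =>
          rw [pow_succ, ih, pow_succ]
          simp [mat, mul_assoc]
      rw [hpow, hxp]
    · obtain ⟨hkE, hkp⟩ := (hmem k).1 hk
      exact (hmem _).2 ⟨hadE k hkE, by rw [← hf.adj_pow, hkp]⟩
    · by_contra hall
      push Not at hall
      have h1 := CfsgLib.AschbacherSymplectic57.finrank_dvd_of_invariant hL (line v₀) (by
        rintro k hk _ ⟨j, hj, rfl⟩
        exact ⟨k * j, K.mul_mem (hfixed k ((hmem k).1 hk).1 (hall k hk)) hj, (Matrix.mulVec_mulVec _ _ _).symm⟩)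
      rw [hlineDim v₀ hv₀] at h1
      obtain ⟨c, hc⟩ := h1
      obtain ⟨d, hd⟩ := hodd
      omega
  · -- only involutions
    push Not at hA
    by_cases hex : ∃ a ∈ H, IsC (mat a) ∧ mat a ≠ 1 ∧ mat a ≠ -1
    · obtain ⟨a₀, ha₀, hC, ha1, ham1⟩ := hex
      set a := mat a₀ with hadef
      have haa : a * a = 1 := hA a₀ ha₀ hC
      have hbcomm : ∀ b ∈ H, IsC (mat b) → a * mat b = mat b * a := fun b hb hbC => by
        have h1 : a * mat b * (a * mat b) = 1 := hA _ (mul_mem ha₀ hb) (hCmul _ _ hC hbC)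
        have h3 : a * mat b * a = mat b := by
          calc a * mat b * a = a * mat b * a * (mat b * mat b) := by rw [hA b hb hbC, mul_one]
            _ = (a * mat b * (a * mat b)) * mat b := by simp only [mul_assoc]
            _ = mat b := by rw [h1, one_mul]
        calc a * mat b = a * mat b * (a * a) := by rw [haa, mul_one]
          _ = (a * mat b * a) * a := by simp only [mul_assoc]
          _ = mat b * a := by rw [h3]
      have hEig : ∀ ε : F, ε * ε = 1 → ∀ w, w ≠ 0 → a *ᵥ w = ε • w → ∀ x, a *ᵥ x = ε • x → x ∈ line w := by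
        intro ε hε w hw haw x hax
        by_contra hx
        have hεa : a = ε • (1 : Matrix ι ι F) := hagree a _ hC.1
          (fun k _ => by rw [Matrix.smul_mul, Matrix.mul_smul, one_mul, mul_one]) w x hw hx
          (by rw [haw, Matrix.smul_mulVec, Matrix.one_mulVec]) (by rw [hax, Matrix.smul_mulVec, Matrix.one_mulVec])
        rcases mul_self_eq_one_iff.1 hε with rfl | rfl
        · exact ha1 (by rw [hεa, one_smul])
        · exact ham1 (by rw [hεa, neg_one_smul])
      have hscalar : ∀ b ∈ H, IsC (mat b) → ∀ ε : F, ε * ε = 1 → ∀ w, w ≠ 0 → a *ᵥ w = ε • w →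
          mat b *ᵥ w = w ∨ mat b *ᵥ w = -w := by
        intro b hb hbC ε hε w hw haw
        obtain ⟨l, hl, hlw⟩ := hEig ε hε w hw haw (mat b *ᵥ w) (by
          rw [Matrix.mulVec_mulVec, hbcomm b hb hbC, ← Matrix.mulVec_mulVec, haw, Matrix.mulVec_smul])
        rcases heigen _ hbC w hw l hl hlw.symm with rfl | rfl
        · exact Or.inl (by rw [← hlw, Matrix.one_mulVec])
        · exact Or.inr (by rw [← hlw, Matrix.neg_mulVec, Matrix.one_mulVec])
      obtain ⟨u, hu⟩ : ∃ u, (1 + a) *ᵥ u ≠ 0 := by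
        by_contra hall
        push Not at hall
        refine ham1 (eq_neg_of_add_eq_zero_right (Matrix.toLin'.injective (LinearMap.ext fun u => ?_)))
        rw [Matrix.toLin'_apply, Matrix.toLin'_apply, hall, Matrix.zero_mulVec]
      set w := (1 + a) *ᵥ u with hwdef
      have haw : a *ᵥ w = (1 : F) • w := by
        rw [one_smul, hwdef, Matrix.mulVec_mulVec, mul_add, mul_one, haa, add_comm]
      by_cases h2 : (2 : F) = 0
      · exfalso
        have hfixw : ∀ b ∈ H, IsC (mat b) → mat b *ᵥ w = w := fun b hb hbC => by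
          rcases hscalar b hb hbC 1 (one_mul 1) w hu haw with h | h
          · exact h
          · rw [h, ← neg_one_smul F, show (-1 : F) = 1 by linear_combination -h2, one_smul]
        have hst : H ≤ subspaceStabilizer (line w) := by
          intro g hg
          rw [mem_subspaceStabilizer_iff]
          rintro _ ⟨j, hj, rfl⟩
          have hb := hconjC a₀ ha₀ hC g⁻¹ (inv_mem hg)
          have hgw : mat g *ᵥ w ∈ line w := by
            refine hEig 1 (one_mul 1) w hu haw _ ?_
            have h1 := congrArg (fun z => mat g *ᵥ z) (hfixw _ (by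
              exact mul_mem (mul_mem (inv_mem hg) ha₀) (inv_mem (inv_mem hg))) hb)
            simp only [Matrix.mulVec_mulVec, mat, Units.val_mul, inv_inv, ← mul_assoc, Units.mul_inv,
              one_mul] at h1
            rw [one_smul, Matrix.mulVec_mulVec, hadef]
            exact h1
          obtain ⟨l, hl, hlw⟩ := hgw
          exact ⟨mat g * j * mat g⁻¹ * l, K.mul_mem (hconjK g hg j hj) hl, by
            rw [hmove g hg j hj, ← hlw, Matrix.mulVec_mulVec w _ l]⟩
        have hd := hlineDim w hu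
        rcases (actsIrreducibly_iff.1 hirr) _ hst with h | h
        · rw [h, finrank_bot] at hd; omega
        · rw [h, finrank_top, Module.finrank_fintype_fun_eq_card, hm] at hd; omega
      left
      obtain ⟨u', hu'⟩ : ∃ u, (1 - a) *ᵥ u ≠ 0 := by
        by_contra hall
        push Not at hall
        refine ha1 (sub_eq_zero.1 (Matrix.toLin'.injective (LinearMap.ext fun u => ?_))).symm
        rw [Matrix.toLin'_apply, Matrix.toLin'_apply, hall, Matrix.zero_mulVec]
      set w' := (1 - a) *ᵥ u' with hw'def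
      have haw' : a *ᵥ w' = (-1 : F) • w' := by
        rw [neg_one_smul, hw'def, Matrix.mulVec_mulVec, mul_sub, mul_one, haa, ← Matrix.neg_mulVec, neg_sub]
      have hw'w : w' ∉ line w := by
        rintro ⟨k, hk, hkw⟩
        have h1 : a *ᵥ w' = w' := by
          rw [← hkw, hCk a hC k hk, haw, one_smul]
        rw [haw', neg_one_smul] at h1
        apply hu'
        have h3 : (2 : F) • w' = 0 := by rw [two_smul]; nth_rw 1 [← h1]; exact neg_add_cancel w'
        exact (smul_eq_zero.1 h3).resolve_left h2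
      have hperm : ∀ g ∈ H, mat g * a * mat g⁻¹ = a ∨ mat g * a * mat g⁻¹ = -a := by
        intro g hg
        have hb := hconjC a₀ ha₀ hC g hg
        have hbm : mat (g * a₀ * g⁻¹) = mat g * a * mat g⁻¹ := rfl
        have hbH : g * a₀ * g⁻¹ ∈ H := mul_mem (mul_mem hg ha₀) (inv_mem hg)
        rw [← hbm]
        set b := mat (g * a₀ * g⁻¹) with hbdef
        have hn1 : ∀ c : F, b ≠ c • (1 : Matrix ι ι F) := by
          intro c hc
          have h1 : a = c • (1 : Matrix ι ι F) := by
            calc a = mat g⁻¹ * b * mat g := by rw [hbm]; simp [hadef, mat, mul_assoc]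
              _ = _ := by rw [hc, Matrix.mul_smul, mul_one, Matrix.smul_mul, mat_inv_mul]
          have h3 := haw
          have h4 := haw'
          rw [h1, Matrix.smul_mulVec, Matrix.one_mulVec] at h3 h4
          have h5 : c = 1 := smul_left_injective F hu h3
          have h6 : c = -1 := smul_left_injective F hu' h4
          exact h2 (by linear_combination h6 - h5)
        have hneg : (-1 : F) * -1 = 1 := by ring
        rcases hscalar _ hbH hb 1 (one_mul 1) w hu haw with e1 | e1 <;>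
          rcases hscalar _ hbH hb (-1) hneg w' hu' haw' with e2 | e2
        · exact absurd (hagree b 1 hb.1 (fun k _ => by rw [one_mul, mul_one]) w w' hu hw'w
            (by rw [e1, Matrix.one_mulVec]) (by rw [e2, Matrix.one_mulVec]))
            (fun h => hn1 1 (by rw [h, one_smul]))
        · exact Or.inl (hagree b a hb.1 hC.1 w w' hu hw'w (by rw [e1, haw, one_smul])
            (by rw [e2, haw', neg_one_smul]))
        · exact Or.inr (hagree b (-a) hb.1 (fun k hk => by rw [neg_mul, mul_neg, hC.1 k hk]) w w' hu hw'w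
            (by rw [e1, Matrix.neg_mulVec, haw, one_smul]) (by rw [e2, Matrix.neg_mulVec, haw', neg_one_smul, neg_neg]))
        · exact absurd (hagree b (-1) hb.1 (fun k _ => by rw [neg_mul, mul_neg, one_mul, mul_one]) w w' hu hw'w
            (by rw [e1, Matrix.neg_mulVec, Matrix.one_mulVec]) (by rw [e2, Matrix.neg_mulVec, Matrix.one_mulVec]))
            (fun h => hn1 (-1) (by rw [h, neg_one_smul]))
      let c : F := 2⁻¹
      have hc : c + c = 1 := by rw [← two_mul, mul_inv_cancel₀ h2]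
      have hc0 : c ≠ 0 := inv_ne_zero h2
      let e₁ := c • (1 + a)
      let e₂ := c • (1 - a)
      have hne : e₁ ≠ e₂ := fun h => by
        have h1 : (1 + a) = (1 - a) := smul_right_injective _ hc0 h
        have h3 := congrArg (fun M => M *ᵥ w) h1
        simp only [Matrix.add_mulVec, Matrix.sub_mulVec, Matrix.one_mulVec, haw, one_smul, sub_self] at h3
        rw [← two_smul F] at h3
        exact hu ((smul_eq_zero.1 h3).resolve_left h2)
      have hee : e₁ * e₁ = e₁ ∧ e₂ * e₂ = e₂ ∧ e₁ * e₂ = 0 ∧ e₂ * e₁ = 0 := by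
        refine ⟨?_, ?_, ?_, ?_⟩ <;>
          simp only [e₁, e₂, Matrix.smul_mul, Matrix.mul_smul, smul_smul, add_mul, sub_mul, mul_add, mul_sub,
            one_mul, mul_one, haa]
        · match_scalars <;> first | linear_combination c * hc | linear_combination (-c) * hc
        · match_scalars <;> first | linear_combination c * hc | linear_combination (-c) * hc
        · match_scalars <;> ring
        · match_scalars <;> ring
      have he0 : e₁ ≠ 0 ∧ e₂ ≠ 0 := by
        constructor <;> intro h <;> rcases smul_eq_zero.1 h with h1 | h1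
        · exact hc0 h1
        · exact hu (by rw [hwdef, h1, Matrix.zero_mulVec])
        · exact hc0 h1
        · exact hu' (by rw [hw'def, h1, Matrix.zero_mulVec])
      have hE : IsFamily H ({e₁, e₂} : Finset (Matrix ι ι F)) := by
        refine ⟨?_, ?_, ?_, ?_, ?_⟩
        · simp [hee.1, hee.2.1]
        · simp [he0.1, he0.2]
        · simp [hee.2.2.1, hee.2.2.2]
        · rw [Finset.sum_pair hne]
          simp only [e₁, e₂, ← smul_add]
          rw [show (1 + a) + (1 - a) = (2 : F) • (1 : Matrix ι ι F) by rw [two_smul]; abel, smul_smul,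
            inv_mul_cancel₀ h2, one_smul]
        · intro g hg x hx
          rw [Finset.mem_insert, Finset.mem_singleton] at hx ⊢
          rcases hperm g hg with h | h <;> rcases hx with rfl | rfl <;>
            simp only [e₁, e₂, Matrix.mul_smul, Matrix.smul_mul, mul_add, mul_sub, add_mul, sub_mul, mul_one,
              mat_mul_inv, h, sub_neg_eq_add, ← sub_eq_add_neg] <;>
            simp
      have hada : ad a = a := by
        rw [hf.adj_isometry (hCB a hC), hadef]
        calc mat a₀⁻¹ = mat a₀⁻¹ * (a * a) := by rw [haa, mul_one]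
          _ = _ := by rw [hadef, ← mul_assoc, mat_inv_mul, one_mul]
      have hadjE : ∀ x ∈ ({e₁, e₂} : Finset (Matrix ι ι F)), ad x = x := by
        intro x hx
        rw [Finset.mem_insert, Finset.mem_singleton] at hx
        rcases hx with rfl | rfl
        · rw [hf.adj_smul, hf.adj_add, hf.adj_one, hada, RingEquiv.refl_apply]
        · rw [hf.adj_smul, sub_eq_add_neg, hf.adj_add, hf.adj_one, ← neg_one_smul F a, hf.adj_smul, hada,
            RingEquiv.refl_apply, RingEquiv.refl_apply, neg_one_smul, ← sub_eq_add_neg]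
      have hcard : ({e₁, e₂} : Finset (Matrix ι ι F)).card = 2 := Finset.card_pair hne
      obtain ⟨k, D, hD, hk, hDle⟩ := exists_orthDecomposition_card hf hE hirr hcard.ge hadjE
      revert D
      rw [hcard] at hk ⊢
      intro D hD hDle
      obtain rfl : k = m := by omega
      exact ⟨D, hD, hDle⟩
    · push Not at hex
      exfalso
      letI : CommRing K := { (inferInstance : Ring K) with mul_comm := fun a b => Subtype.ext (hK.comm _ a.2 _ b.2) }
      have hfield : IsField K :=
        { exists_pair_ne := ⟨0, 1, fun h => zero_ne_one (congrArg Subtype.val h)⟩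
          mul_comm := fun a b => Subtype.ext (hK.comm _ a.2 _ b.2)
          mul_inv_cancel := fun {a} ha => by
            obtain ⟨y, hy, hay⟩ := hK.inv _ a.2 (fun h => ha (Subtype.ext h))
            exact ⟨⟨y, hy⟩, Subtype.ext hay⟩ }
      letI : Field K := hfield.toField
      haveI : FiniteDimensional F K := Module.finite_of_finrank_pos (by rw [hK.finrank_eq]; omega)
      have hback : ∀ g ∈ H, ∀ k ∈ K, mat g⁻¹ * k * mat g ∈ K := fun g hg k hk => by
        have := hconjK g⁻¹ (inv_mem hg) k hk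
        rwa [inv_inv] at this
      let φ : H → (K ≃ₐ[F] K) := fun g =>
        { toFun := fun k => ⟨_, hconjK g.1 g.2 k.1 k.2⟩
          invFun := fun k => ⟨_, hback g.1 g.2 k.1 k.2⟩
          left_inv := fun k => Subtype.ext (by simp [mat, mul_assoc])
          right_inv := fun k => Subtype.ext (by simp [mat, mul_assoc])
          map_mul' := fun k l => Subtype.ext (by simp [mat, mul_assoc])
          map_add' := fun k l => Subtype.ext (by simp [mul_add, add_mul])
          commutes' := fun c => Subtype.ext (by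
            simp [Algebra.algebraMap_eq_smul_one, Matrix.mul_smul, Matrix.smul_mul, mat_mul_inv]) }
      have hφ : ∀ g g' : H, φ g = φ g' → mat (g'.1⁻¹ * g.1) = 1 ∨ mat (g'.1⁻¹ * g.1) = -1 := by
        intro g g' h
        have hC' : IsC (mat (g'.1⁻¹ * g.1)) := hCmat _ (mul_mem (inv_mem g'.2) g.2) fun k hk => by
          have h1 := congrArg Subtype.val (AlgEquiv.congr_fun h ⟨k, hk⟩)
          have h3 : mat g.1 * k * mat g.1⁻¹ = mat g'.1 * k * mat g'.1⁻¹ := h1
          calc mat (g'.1⁻¹ * g.1) * k = mat g'.1⁻¹ * (mat g.1 * k * mat g.1⁻¹) * mat g.1 := by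
                simp [mat, mul_assoc]
            _ = _ := by rw [h3]; simp [mat, mul_assoc]
        by_cases h1 : mat (g'.1⁻¹ * g.1) = 1
        · exact Or.inl h1
        · exact Or.inr (hex _ (mul_mem (inv_mem g'.2) g.2) hC' h1)
      obtain ⟨v₀, hv₀⟩ := exists_ne (0 : ι → F)
      let w : (K ≃ₐ[F] K) → ι → F := fun τ => if h : ∃ g : H, φ g = τ then mat h.choose.1 *ᵥ v₀ else 0
      haveI : Fintype (K ≃ₐ[F] K) := Fintype.ofFinite _
      let S := Submodule.span F (Set.range w)
      have hw : ∀ g : H, mat g.1 *ᵥ v₀ ∈ S := by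
        intro g
        have h : ∃ g' : H, φ g' = φ g := ⟨g, rfl⟩
        have hwS : mat h.choose.1 *ᵥ v₀ ∈ S := Submodule.subset_span ⟨φ g, dif_pos h⟩
        have hg : mat g.1 = mat h.choose.1 * mat (h.choose.1⁻¹ * g.1) := by simp [mat]
        rcases hφ g h.choose h.choose_spec.symm with h1 | h1
        · rwa [hg, h1, mul_one]
        · rw [hg, h1, mul_neg, mul_one, Matrix.neg_mulVec]
          exact S.neg_mem hwS
      have hst : H ≤ subspaceStabilizer S := by
        intro g hg
        rw [mem_subspaceStabilizer_iff]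
        intro x hx
        induction hx using Submodule.span_induction with
        | mem x hx =>
          obtain ⟨τ, rfl⟩ := hx
          simp only [w]
          split_ifs with h
          · rw [Matrix.mulVec_mulVec]
            exact hw ⟨g * h.choose.1, mul_mem hg h.choose.2⟩
          · rw [Matrix.mulVec_zero]; exact S.zero_mem
        | zero => rw [Matrix.mulVec_zero]; exact S.zero_mem
        | add x y _ _ hx hy => rw [Matrix.mulVec_add]; exact S.add_mem hx hy
        | smul c x _ hx => rw [Matrix.mulVec_smul]; exact S.smul_mem c hx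
      rcases (actsIrreducibly_iff.1 hirr) S hst with h | h
      · have h1 := hw ⟨1, H.one_mem⟩
        rw [h, Submodule.mem_bot, show mat ((1 : GL ι F)) = 1 from rfl, Matrix.one_mulVec] at h1
        exact hv₀ h1
      · have h1 : Module.finrank F S ≤ Fintype.card (K ≃ₐ[F] K) := finrank_range_le_card w
        have h3 : Fintype.card (K ≃ₐ[F] K) ≤ Module.finrank F K := by convert AlgEquiv.card_le (F := F) (K := K)
        rw [h, finrank_top, Module.finrank_fintype_fun_eq_card, hm] at h1
        rw [hK.finrank_eq] at h3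
        omega

end CfsgLib.OrthFields57
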