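import Cfsg.Agent.Aschbacher57.QuadType
import Cfsg.Agent.Aschbacher.Subfield
import Cfsg.Agent.AschbacherOrth.Descent
import Cfsg.Agent.AschbacherForms.Frame

/-!
Decompositions of a quadratic space of dimension ten into lines and planes.
-/

set_option autoImplicit false
set_option maxHeartbeats 1000000
set_option linter.unusedSectionVars false
set_option linter.style.haveILetI false

namespace CfsgLib.OrthTen57

open Matrix Cfsg.Geo CfsgLib.Aschbacher CfsgLib.AschbacherForms CfsgLib.AschbacherQuad CfsgLib.QuadType57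

attribute [-simp] RingEquiv.coe_refl

variable {ι : Type} [Fintype ι] [DecidableEq ι] {F : Type*} [Field F] [Fintype F] {Q : (ι → F) → F}

local notation "B" => QuadraticMap.polar Q

theorem quad_sum_orth (hQ : IsNondegenerateQuadraticForm Q) {κ : Type*} [DecidableEq κ] (s : Finset κ)
    (z : κ → ι → F) (h : ∀ i j, i ≠ j → B (z i) (z j) = 0) : Q (∑ i ∈ s, z i) = ∑ i ∈ s, Q (z i) := by
  induction s using Finset.induction_on with
  | empty =>
    rw [Finset.sum_empty, Finset.sum_empty]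
    have := hQ.smul 0 0
    simpa using this
  | insert a s ha ih =>
    rw [Finset.sum_insert ha, Finset.sum_insert ha, MaxSub.quad_add (Q := Q), ih,
      (isReflexive_polar hQ).sesq.sum_right,
      Finset.sum_eq_zero (fun j hj => h a j fun e => ha (e ▸ hj)), add_zero]

/-- A group permuting up to sign an orthogonal basis of equal values stabilises an orthogonal decomposition. -/
theorem lineDecomp (hQ : IsNondegenerateQuadraticForm Q) (h2 : (2 : F) ≠ 0) {n : ℕ} (hn2 : 2 ≤ n)
    (hn : Fintype.card ι = n) (w : Fin n → ι → F) {c : F} (hc : c ≠ 0) (hw : ∀ i, Q (w i) = c)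
    (horth : ∀ i j, i ≠ j → B (w i) (w j) = 0) {H : Subgroup (GL ι F)}
    (hperm : ∀ g ∈ H, ∀ i, ∃ j, ∃ a : F, mat g *ᵥ w i = a • w j) :
    IsOrthogonalMDecomposition Q 1 (fun i => Submodule.span F {w i}) ∧
      H ≤ decompositionStabilizer (fun i => Submodule.span F {w i}) := by
  classical
  have hf := isReflexive_polar hQ
  have hww : ∀ i, B (w i) (w i) ≠ 0 := fun i => by
    rw [MaxSub.polar_self hQ, hw]; exact mul_ne_zero h2 hc
  have hw0 : ∀ i, w i ≠ 0 := fun i h => hww i (by rw [h, hf.zero_left])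
  have hli : LinearIndependent F w := Fintype.linearIndependent_iff.2 fun g hg i => by
    have h1 : B (∑ j, g j • w j) (w i) = g i * B (w i) (w i) := by
      rw [hf.sesq.sum_left, Finset.sum_eq_single i (fun j _ hji => by
        rw [hf.sesq.smul_left, horth j i hji, mul_zero]) (fun h => absurd (Finset.mem_univ i) h),
        hf.sesq.smul_left]
    rw [hg, hf.zero_left] at h1
    exact (mul_eq_zero.1 h1.symm).resolve_right (hww i)
  have hD : IsMDecomposition 1 (fun i => Submodule.span F {w i}) := by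
    refine ⟨hn2, one_pos, fun i => finrank_span_singleton (hw0 i), hli.iSupIndep_span_singleton, ?_⟩
    rw [← Submodule.span_range_eq_iSup]
    haveI : Nonempty (Fin n) := ⟨⟨0, by omega⟩⟩
    exact hli.span_eq_top_of_card_eq_finrank (by
      rw [Fintype.card_fin, Module.finrank_fintype_fun_eq_card, hn])
  refine ⟨⟨⟨hD, fun i x hx hx0 => ?_, fun i j hij x hx y hy => ?_⟩, fun i j => ?_⟩, fun g hg =>
    mem_decompositionStabilizer_of hD fun i => ?_⟩
  · obtain ⟨a, rfl⟩ := Submodule.mem_span_singleton.1 hx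
    have ha : a ≠ 0 := fun h => hx0 (by rw [h, zero_smul])
    exact ⟨⟨w i, Submodule.mem_span_singleton_self _, by
        rw [hf.sesq.smul_right, RingEquiv.refl_apply]; exact mul_ne_zero ha (hww i)⟩,
      ⟨w i, Submodule.mem_span_singleton_self _, by rw [hf.sesq.smul_left]; exact mul_ne_zero ha (hww i)⟩⟩
  · obtain ⟨a, rfl⟩ := Submodule.mem_span_singleton.1 hx
    obtain ⟨b, rfl⟩ := Submodule.mem_span_singleton.1 hy
    rw [hf.sesq.smul_left, hf.sesq.smul_right, horth i j hij, mul_zero, mul_zero]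
  · refine ⟨(LinearEquiv.toSpanNonzeroSingleton F _ (w i) (hw0 i)).symm.trans
      (LinearEquiv.toSpanNonzeroSingleton F _ (w j) (hw0 j)), fun x => ?_⟩
    obtain ⟨a, rfl⟩ := (LinearEquiv.toSpanNonzeroSingleton F _ (w i) (hw0 i)).surjective x
    rw [LinearEquiv.trans_apply, LinearEquiv.symm_apply_apply]
    simp [hQ.smul, hw]
  · obtain ⟨j, a, hj⟩ := hperm g hg i
    refine ⟨j, fun x hx => ?_⟩
    obtain ⟨b, rfl⟩ := Submodule.mem_span_singleton.1 hx
    rw [Matrix.mulVec_smul, hj, smul_smul]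
    exact Submodule.mem_span_singleton.2 ⟨_, rfl⟩

/-- A group preserving the rational span of the columns of `P` lies in the subfield group. -/
theorem mem_subfield_of_columns {F₁ : Subfield F} {P g : GL ι F}
    (h : ∀ j, ∃ u : ι → F, (∀ i, u i ∈ F₁) ∧ mat g *ᵥ (mat P *ᵥ Pi.single j 1) = mat P *ᵥ u) :
    g ∈ subfieldSubgroup F₁ P := by
  refine mem_subfieldSubgroup_of one_ne_zero fun i j => ?_
  obtain ⟨u, hu, hgu⟩ := h j
  have h1 : (mat P⁻¹ * mat g * mat P) *ᵥ Pi.single j 1 = u := by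
    rw [← Matrix.mulVec_mulVec, ← Matrix.mulVec_mulVec, hgu, inv_mulVec_mulVec]
  rw [one_mul, show (mat P⁻¹ * mat g * mat P) i j = u i by rw [← h1, Matrix.mulVec_single_one]; rfl]
  exact hu i

/-- A decomposition into isometric lines: the type, and descent when the field is not prime. -/
theorem monomial_cases (hQ : IsNondegenerateQuadraticForm Q) (h2 : (2 : F) ≠ 0) {m : ℕ} (hodd : Odd m)
    (hm : Fintype.card ι = 2 * m) {H : Subgroup (GL ι F)} (hQH : FixesQuadForm (matrixSet H) Q)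
    {D : Fin (2 * m) → Submodule F (ι → F)} (hD : IsOrthogonalMDecomposition Q 1 D)
    (hle : H ≤ decompositionStabilizer D) :
    (IsPlusTypeOn Q ⊤ ↔ IsSquare (-1 : F)) ∧
      (¬ (Fintype.card F).Prime → ∃ (F₁ : Subfield F) (r : ℕ) (P : GL ι F) (ζ : F),
        r.Prime ∧ (¬ IsSquare (-1 : F) → Odd r) ∧ Fintype.card F = Nat.card F₁ ^ r ∧ ζ ≠ 0 ∧
        IsQuadFormRationalStructure (fun v => ζ * Q v) F₁ P ∧ H ≤ subfieldSubgroup F₁ P) := by
  classical
  have hf := isReflexive_polar hQ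
  have hd := hD.decomp.decomp
  have hpos : 0 < 2 * m := lt_of_lt_of_le (by norm_num) hd.two_le
  let i₀ : Fin (2 * m) := ⟨0, hpos⟩
  obtain ⟨v₀, hv₀, hv₀0⟩ := (Submodule.ne_bot_iff (D i₀)).1 fun h => by
    have := hd.finrank_eq i₀
    rw [h, finrank_bot] at this
    exact zero_ne_one this
  choose φ hφ using fun i => hD.isometric i₀ i
  let v : Fin (2 * m) → ι → F := fun i => (φ i ⟨v₀, hv₀⟩ : D i)
  have hv : ∀ i, v i ∈ D i := fun i => (φ i ⟨v₀, hv₀⟩).2
  set c := Q v₀ with hcdef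
  have hQv : ∀ i, Q (v i) = c := fun i => hφ i ⟨v₀, hv₀⟩
  have hline : ∀ i, ∀ x ∈ D i, ∃ a : F, a • v i = x := fun i x hx =>
    CfsgLib.AschbacherOrth.line_eq_smul (hd.finrank_eq i) (hv i)
      (fun h => hv₀0 (congrArg Subtype.val ((φ i).map_eq_zero_iff.1 (Subtype.ext h)))) hx
  have hc : c ≠ 0 := by
    intro h0
    obtain ⟨⟨x, hx, hxv⟩, -⟩ := hD.decomp.nondegenerate i₀ v₀ hv₀ hv₀0
    obtain ⟨a, rfl⟩ := (finrank_eq_one_iff_of_nonzero' (⟨v₀, hv₀⟩ : D i₀)
      (fun e => hv₀0 (congrArg Subtype.val e))).1 (hd.finrank_eq i₀) ⟨x, hx⟩ |>.imp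
      fun a ha => congrArg Subtype.val ha
    rw [Submodule.coe_smul, hf.sesq.smul_left, MaxSub.polar_self hQ, ← hcdef, h0, mul_zero, mul_zero] at hxv
    exact hxv rfl
  have horth : ∀ i j, i ≠ j → B (v i) (v j) = 0 := fun i j hij =>
    hD.decomp.orthogonal i j hij _ (hv i) _ (hv j)
  have hli : LinearIndependent F v := hd.indep.linearIndependent D hv fun i h => by
    rw [← hQv i, h] at hc
    exact hc (by have := hQ.smul 0 0; simpa using this)
  haveI : Nonempty (Fin (2 * m)) := ⟨i₀⟩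
  let b : Module.Basis (Fin (2 * m)) F (ι → F) := basisOfLinearIndependentOfCardEqFinrank hli
    (by rw [Fintype.card_fin, Module.finrank_fintype_fun_eq_card, hm])
  have hb : ∀ i, b i = v i := fun i => by simp [b]
  refine ⟨?_, fun hq => ?_⟩
  · obtain ⟨hiff, -⟩ := plus_iff_det hQ h2 hm b
    have hmat : LinearMap.BilinForm.toMatrix b (polB hQ) = Matrix.diagonal fun _ => 2 * c := by
      ext i j
      rw [LinearMap.BilinForm.toMatrix_apply, hb, hb, polB_apply]
      rcases eq_or_ne i j with rfl | hij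
      · rw [Matrix.diagonal_apply_eq, MaxSub.polar_self hQ, hQv]
      · rw [Matrix.diagonal_apply_ne _ hij, horth i j hij]
    rw [hmat, Matrix.det_diagonal, Finset.prod_const, Finset.card_univ, Fintype.card_fin,
      hodd.neg_one_pow] at hiff
    rw [hiff]
    have h0 : (2 * c) ^ m ≠ 0 := pow_ne_zero _ (mul_ne_zero h2 hc)
    constructor
    · rintro ⟨r, hr⟩
      refine ⟨r / (2 * c) ^ m, ?_⟩
      field_simp
      ring_nf at hr ⊢
      linear_combination hr
    · rintro ⟨r, hr⟩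
      exact ⟨r * (2 * c) ^ m, by rw [hr]; ring⟩
  obtain ⟨F₁, r, hr, -, hcard⟩ := exists_prime_index_subfield (CfsgLib.AschbacherOrth.bot_subfield_ne_top hq)
  let e : Fin (2 * m) ≃ ι := Fintype.equivOfCardEq (by rw [Fintype.card_fin, hm])
  let M : Matrix ι ι F := Matrix.of fun k i => v (e.symm i) k
  have hM : IsUnit M := Matrix.linearIndependent_cols_iff_isUnit.1 (hli.comp _ e.symm.injective)
  let P : GL ι F := hM.unit
  have hP : ∀ i, mat P *ᵥ Pi.single i 1 = v (e.symm i) := fun i => by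
    funext k
    show (M *ᵥ Pi.single i 1) k = _
    rw [Matrix.mulVec_single_one]
    rfl
  have hPu : ∀ u : ι → F, mat P *ᵥ u = ∑ i, u (e i) • v i := fun u => by
    conv_lhs => rw [pi_eq_sum_univ' u]
    rw [Matrix.mulVec_sum, ← e.sum_comp]
    refine Finset.sum_congr rfl fun i _ => ?_
    rw [Matrix.mulVec_smul, hP, e.symm_apply_apply]
  refine ⟨F₁, r, P, c⁻¹, hr, fun hns => ?_, hcard, inv_ne_zero hc, fun u hu => ?_, fun g hg =>
    mem_subfield_of_columns fun j => ?_⟩
  · by_contra hodd'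
    have hev := Nat.not_odd_iff_even.1 hodd'
    rw [FiniteField.isSquare_neg_one_iff] at hns
    push Not at hns
    have h21 : Fintype.card F % 2 = 1 := by omega
    rw [hcard, Nat.pow_mod] at hns h21
    obtain ⟨l, rfl⟩ := hev
    rw [← two_mul, pow_mul] at hns h21
    have hlt := Nat.mod_lt (Nat.card F₁) (show 4 > 0 by norm_num)
    have h22 : Nat.card F₁ % 2 = 1 := by
      rcases Nat.mod_two_eq_zero_or_one (Nat.card F₁) with h | h
      · exfalso
        rw [h, zero_pow (by norm_num), zero_pow (by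
          rintro rfl
          exact hr.ne_zero rfl)] at h21
        simp at h21
      · exact h
    rcases (by omega : Nat.card F₁ % 4 = 1 ∨ Nat.card F₁ % 4 = 3) with h | h <;>
      · rw [h] at hns
        norm_num [Nat.pow_mod] at hns
  · show c⁻¹ * Q (mat P *ᵥ u) ∈ F₁
    rw [hPu, quad_sum_orth hQ _ _ (fun i j hij => by
      rw [hf.sesq.smul_left, hf.sesq.smul_right, horth i j hij, mul_zero, mul_zero]), Finset.mul_sum]
    refine F₁.sum_mem fun i _ => ?_
    rw [hQ.smul, hQv, mul_left_comm, inv_mul_cancel₀ hc, mul_one, sq]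
    exact F₁.mul_mem (hu _) (hu _)
  · rw [hP]
    obtain ⟨π, hπ⟩ := hle hg
    obtain ⟨a, ha⟩ := hline _ _ (map_le_iff.1 (hπ (e.symm j)).le _ (hv _))
    have haa : a * a = 1 := by
      have h1 := hQH _ (mem_matrixSet hg) (v (e.symm j))
      rw [show Q (mat g *ᵥ v (e.symm j)) = _ from congrArg Q ha.symm, hQ.smul, hQv, hQv] at h1
      exact mul_right_cancel₀ hc (by rw [one_mul]; linear_combination h1)
    refine ⟨Pi.single (e (π (e.symm j))) a, fun i => ?_, ?_⟩
    · rcases eq_or_ne i (e (π (e.symm j))) with rfl | hne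
      · rw [Pi.single_eq_same]
        rcases mul_self_eq_one_iff.1 haa with rfl | rfl
        · exact F₁.one_mem
        · exact F₁.neg_mem F₁.one_mem
      · rw [Pi.single_eq_of_ne hne]; exact F₁.zero_mem
    · rw [show (Pi.single (e (π (e.symm j))) a : ι → F) = a • Pi.single (e (π (e.symm j))) 1 by
        rw [← Pi.single_smul, smul_eq_mul, mul_one], Matrix.mulVec_smul, hP, e.symm_apply_apply, ha]

/-- A non-degenerate plane which is not of plus type has no singular vector. -/
theorem plane_aniso {W : Submodule F (ι → F)} (hQ : IsNondegenerateQuadraticForm Q)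
    (hW : Module.finrank F W = 2) (hp : ¬ IsPlusTypeOn Q W) {x : ι → F} (hx : x ∈ W) (hqx : Q x = 0) :
    x = 0 := by
  by_contra hx0
  refine hp ⟨Submodule.span F {x}, (Submodule.span_singleton_le_iff_mem _ _).2 hx, fun y hy => ?_, ?_⟩
  · obtain ⟨a, rfl⟩ := Submodule.mem_span_singleton.1 hy
    rw [hQ.smul, hqx, mul_zero]
  · rw [finrank_span_singleton hx0, hW]

/-- Five isometric anisotropic planes do not give plus type. -/
theorem five_elliptic (hQ : IsNondegenerateQuadraticForm Q) (h10 : Fintype.card ι = 10)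
    {D : Fin 5 → Submodule F (ι → F)} (hD : IsOrthogonalMDecomposition Q 2 D)
    (h0 : ¬ IsPlusTypeOn Q (D 0)) : ¬ IsPlusTypeOn Q ⊤ := by
  classical
  have hf := isReflexive_polar hQ
  have hd := hD.decomp.decomp
  have han : ∀ x ∈ D 0, Q x = 0 → x = 0 := fun x hx => plane_aniso hQ (hd.finrank_eq 0) h0 hx
  let bs := Module.finBasisOfFinrankEq F (D 0) (hd.finrank_eq 0)
  set e : ι → F := ((bs 0 : D 0) : ι → F) with hedef
  set f : ι → F := ((bs 1 : D 0) : ι → F) with hfdef
  set a := Q e with hadef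
  set b := B e f with hbdef
  set c := Q f with hcdef
  have hQxy : ∀ x y : F, Q (x • e + y • f) = a * x ^ 2 + b * x * y + c * y ^ 2 := fun x y => by
    rw [MaxSub.quad_add (Q := Q), hQ.smul, hQ.smul, hf.sesq.smul_left, hf.sesq.smul_right,
      RingEquiv.refl_apply]
    simp only [a, b, c]
    ring
  have ha : a ≠ 0 := fun h => bs.ne_zero 0 (Subtype.ext (han e (bs 0).2 h))
  have hnd : D 0 ⊓ LinearMap.BilinForm.orthogonal (QuadraticMap.polarBilin (quadForm hQ)) (D 0) = ⊥ := by
    rw [eq_bot_iff]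
    rintro x ⟨hx, hxp⟩
    by_contra hx0
    obtain ⟨⟨y, hy, hyx⟩, -⟩ := hD.decomp.nondegenerate 0 x hx (by simpa using hx0)
    exact hyx (hxp y hy)
  obtain ⟨u, hu, hQu⟩ := CfsgLib.OmegaOrbits.exists_value_mem (Q := quadForm hQ) hnd
    (by rw [hd.finrank_eq]) (-a⁻¹) (neg_ne_zero.2 (inv_ne_zero ha))
  have hcomb : ∀ z ∈ D 0, ∃ x y : F, z = x • e + y • f := fun z hz => by
    refine ⟨bs.repr ⟨z, hz⟩ 0, bs.repr ⟨z, hz⟩ 1, ?_⟩
    have h1 := congrArg Subtype.val (bs.sum_repr ⟨z, hz⟩)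
    rw [Fin.sum_univ_two] at h1
    exact h1.symm
  obtain ⟨x₀, y₀, rfl⟩ := hcomb u hu
  rw [show quadForm hQ (x₀ • e + y₀ • f) = Q (x₀ • e + y₀ • f) from rfl, hQxy] at hQu
  set p := a * x₀
  set r := y₀
  have hpr : p ^ 2 + b * p * r + a * c * r ^ 2 = -1 := by
    simp only [p, r]
    have h1 := congrArg (fun t => a * t) hQu
    simp only [mul_neg, mul_inv_cancel₀ ha] at h1
    linear_combination h1
  let φ : D 0 →ₗ[F] D 0 := bs.constr F ![p • bs 0 + (a * r) • bs 1, (-(c * r)) • bs 0 + (p + b * r) • bs 1]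
  have hφ : ∀ z : D 0, Q (φ z : D 0) = -Q (z : ι → F) := by
    intro z
    have h1 := congrArg Subtype.val (bs.sum_repr z)
    rw [Fin.sum_univ_two] at h1
    set x := bs.repr z 0
    set y := bs.repr z 1
    have h3 : ((φ z : D 0) : ι → F) = (x * p - y * (c * r)) • e + (x * (a * r) + y * (p + b * r)) • f := by
      conv_lhs => rw [← bs.sum_repr z, Fin.sum_univ_two]
      simp only [map_add, map_smul, φ, Module.Basis.constr_basis, Matrix.cons_val_zero, Matrix.cons_val_one,
        Submodule.coe_add, Submodule.coe_smul]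
      module
    rw [h3, ← h1, Submodule.coe_add, Submodule.coe_smul, Submodule.coe_smul, hQxy, hQxy]
    linear_combination (a * x ^ 2 + b * x * y + c * y ^ 2) * hpr
  choose ε hε using fun i => hD.isometric 0 i
  let L : Fin 5 → Fin 5 → (D 0 →ₗ[F] ι → F) := fun i j =>
    (D i).subtype.comp (ε i).toLinearMap + (D j).subtype.comp ((ε j).toLinearMap.comp φ)
  have hLmem : ∀ i j z, L i j z = ((ε i z : D i) : ι → F) + ((ε j (φ z) : D j) : ι → F) := fun i j z => rfl
  have hLQ : ∀ i j, i ≠ j → ∀ z, Q (L i j z) = 0 := fun i j hij z => by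
    rw [hLmem, MaxSub.quad_add (Q := Q), hε, hε, hφ, hD.decomp.orthogonal i j hij _ (ε i z).2 _ (ε j _).2]
    ring
  have hpair : ∀ i j, ∀ x ∈ D i, ∀ y ∈ D j, i ≠ j → B x y = 0 := fun i j x hx y hy hij =>
    hD.decomp.orthogonal i j hij x hx y hy
  have hLorth : ∀ i j k l, i ≠ k → i ≠ l → j ≠ k → j ≠ l → ∀ z w, B (L i j z) (L k l w) = 0 :=
    fun i j k l h1 h2 h3 h4 z w => by
    rw [hLmem, hLmem, hf.sesq.add_left, hf.sesq.add_right, hf.sesq.add_right,
      hpair i k _ (ε i z).2 _ (ε k w).2 h1, hpair i l _ (ε i z).2 _ (ε l (φ w)).2 h2,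
      hpair j k _ (ε j (φ z)).2 _ (ε k w).2 h3, hpair j l _ (ε j (φ z)).2 _ (ε l (φ w)).2 h4]
    ring
  let W : Submodule F (ι → F) := LinearMap.range ((L 0 1).coprod (L 2 3))
  have hWmem : ∀ x ∈ W, ∃ z w, L 0 1 z + L 2 3 w = x := by
    rintro _ ⟨⟨z, w⟩, rfl⟩
    exact ⟨z, w, rfl⟩
  have hWts : IsTotallySingularQuad Q W := by
    intro x hx
    obtain ⟨z, w, rfl⟩ := hWmem x hx
    rw [MaxSub.quad_add (Q := Q), hLQ 0 1 (by decide), hLQ 2 3 (by decide),
      hLorth 0 1 2 3 (by decide) (by decide) (by decide) (by decide), add_zero, add_zero]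
  have h4 : ∀ x ∈ W, ∀ y ∈ D 4, B x y = 0 := by
    intro x hx y hy
    obtain ⟨z, w, rfl⟩ := hWmem x hx
    rw [hLmem, hLmem, hf.sesq.add_left, hf.sesq.add_left, hf.sesq.add_left,
      hpair 0 4 _ (ε 0 z).2 _ hy (by decide), hpair 1 4 _ (ε 1 (φ z)).2 _ hy (by decide),
      hpair 2 4 _ (ε 2 w).2 _ hy (by decide), hpair 3 4 _ (ε 3 (φ w)).2 _ hy (by decide)]
    ring
  have hinj : Function.Injective ((L 0 1).coprod (L 2 3)) := by
    rw [injective_iff_map_eq_zero]
    rintro ⟨z, w⟩ h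
    rw [LinearMap.coprod_apply, hLmem, hLmem] at h
    have key : ∀ i : Fin 5, ∀ s : D i,
        (∀ y ∈ D i, B (s : ι → F) y = 0) → s = 0 := fun i s hs => by
      by_contra hne
      obtain ⟨-, y, hy, hy'⟩ := hD.decomp.nondegenerate i s s.2 (fun h => hne (Subtype.ext h))
      exact hy' (hs y hy)
    have hz : ε 0 z = 0 := key 0 _ fun y hy => by
      have h1 := congrArg (fun v => B v y) h
      simp only [hf.sesq.add_left, hf.zero_left, hpair 1 0 _ (ε 1 (φ z)).2 _ hy (by decide),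
        hpair 2 0 _ (ε 2 w).2 _ hy (by decide), hpair 3 0 _ (ε 3 (φ w)).2 _ hy (by decide),
        add_zero] at h1
      exact h1
    have hw : ε 2 w = 0 := key 2 _ fun y hy => by
      have h1 := congrArg (fun v => B v y) h
      simp only [hf.sesq.add_left, hf.zero_left, hpair 0 2 _ (ε 0 z).2 _ hy (by decide),
        hpair 1 2 _ (ε 1 (φ z)).2 _ hy (by decide), hpair 3 2 _ (ε 3 (φ w)).2 _ hy (by decide),
        add_zero, zero_add] at h1
      exact h1
    rw [(ε 0).map_eq_zero_iff.1 hz, (ε 2).map_eq_zero_iff.1 hw]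
    rfl
  have hWd : Module.finrank F W = 4 := by
    rw [LinearMap.finrank_range_of_inj hinj, Module.finrank_prod, hd.finrank_eq]
  have hle : W ⊔ D 4 ≤ hf.perp W := sup_le
    (fun x hx w hw => polar_of_singular hWts x hx w hw) (fun y hy w hw => hf.orth_comm (h4 w hw y hy))
  have hdisj : W ⊓ D 4 = ⊥ := by
    rw [eq_bot_iff]
    rintro x ⟨hx, hx4⟩
    by_contra hx0
    obtain ⟨-, y, hy, hy'⟩ := hD.decomp.nondegenerate 4 x hx4 (by simpa using hx0)
    exact hy' (h4 x hx y hy)
  have heq : W ⊔ D 4 = hf.perp W := by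
    refine Submodule.eq_of_le_of_finrank_le hle ?_
    have h1 := Submodule.finrank_sup_add_finrank_inf_eq W (D 4)
    rw [hdisj, finrank_bot, hd.finrank_eq, hWd] at h1
    have h2 := hf.finrank_perp W
    omega
  refine not_plus_of_aniso hQ (m := 5) (by rw [h10]) hWts (by omega) fun v hv hqv => ?_
  have hv' : v ∈ hf.perp W := hv
  rw [← heq] at hv'
  obtain ⟨x, hx, y, hy, rfl⟩ := Submodule.mem_sup.1 hv'
  rw [MaxSub.quad_add (Q := Q), hWts x hx, h4 x hx y hy, add_zero, zero_add] at hqv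
  have hy0 : y = 0 := by
    obtain ⟨z, hz⟩ := (ε 4).surjective ⟨y, hy⟩
    have h5 := hε 4 z
    rw [hz] at h5
    have hz0 : (z : ι → F) = 0 := han _ z.2 (h5.symm.trans hqv)
    rw [show z = 0 from Subtype.ext hz0, map_zero] at hz
    exact (congrArg Subtype.val hz).symm
  rwa [hy0, add_zero]

/-- A plus type plane has a hyperbolic basis. -/
theorem plane_hyperbolic (hQ : IsNondegenerateQuadraticForm Q) {W : Submodule F (ι → F)}
    (hW : Module.finrank F W = 2) (hnd : IsNondegenerateOn (B) W) (hp : IsPlusTypeOn Q W) :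
    ∃ e ∈ W, ∃ f ∈ W, Q e = 0 ∧ Q f = 0 ∧ B e f = 1 ∧ ∀ x ∈ W, ∃ a b : F, x = a • e + b • f := by
  have hf := isReflexive_polar hQ
  obtain ⟨U, hUW, hU, hUd⟩ := hp
  rw [hW] at hUd
  obtain ⟨e, he, he0⟩ := (Submodule.ne_bot_iff U).1 fun h => by rw [h, finrank_bot] at hUd; omega
  obtain ⟨-, t, ht, htne⟩ := hnd e (hUW he) he0
  obtain ⟨t', ht'W, ht'⟩ : ∃ t' ∈ W, B e t' = 1 := ⟨(B e t)⁻¹ • t, W.smul_mem _ ht, by
    rw [hf.sesq.smul_right, RingEquiv.refl_apply, inv_mul_cancel₀ htne]⟩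
  let f := t' - Q t' • e
  have hee : B e e = 0 := polar_of_singular hU e he e he
  have hfW : f ∈ W := W.sub_mem ht'W (W.smul_mem _ (hUW he))
  have hef : B e f = 1 := by
    rw [hf.sub_right, hf.sesq.smul_right, hee, ht', mul_zero, sub_zero]
  have hqf : Q f = 0 := by
    show Q (t' - Q t' • e) = 0
    rw [sub_eq_add_neg, ← neg_smul, MaxSub.quad_add (Q := Q), hQ.smul, hU e he, hf.sesq.smul_right,
      RingEquiv.refl_apply, hf.refl e t', RingEquiv.refl_apply, ht']
    ring
  refine ⟨e, hUW he, f, hfW, hU e he, hqf, hef, fun x hx => ?_⟩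
  have hff : B f f = 0 := by rw [MaxSub.polar_self hQ, hqf, mul_zero]
  have hfe : B f e = 1 := by rw [QuadraticMap.polar_comm]; exact hef
  have hli : LinearIndependent F ![(⟨e, hUW he⟩ : W), ⟨f, hfW⟩] := by
    rw [LinearIndependent.pair_iff]
    intro s t h
    have h' : s • e + t • f = 0 := congrArg Subtype.val h
    have h1 := congrArg (fun v => B v e) h'
    have h2 := congrArg (fun v => B v f) h'
    simp only [hf.sesq.add_left, hf.sesq.smul_left, hee, hfe, hef, hff, hf.zero_left, mul_zero, mul_one,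
      zero_add, add_zero] at h1 h2
    exact ⟨h2, h1⟩
  let bb := basisOfLinearIndependentOfCardEqFinrank hli (by rw [Fintype.card_fin, hW])
  refine ⟨bb.repr ⟨x, hx⟩ 0, bb.repr ⟨x, hx⟩ 1, ?_⟩
  have h1 := congrArg Subtype.val (bb.sum_repr ⟨x, hx⟩)
  rw [Fin.sum_univ_two] at h1
  simpa [bb] using h1.symm

theorem quad_hyperbolic (hQ : IsNondegenerateQuadraticForm Q) {e f : ι → F} (he : Q e = 0) (hf' : Q f = 0)
    (hef : B e f = 1) (a b : F) : Q (a • e + b • f) = a * b := by
  rw [MaxSub.quad_add (Q := Q), hQ.smul, hQ.smul, he, hf', (isReflexive_polar hQ).sesq.smul_left,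
    (isReflexive_polar hQ).sesq.smul_right, RingEquiv.refl_apply, hef]
  ring

end CfsgLib.OrthTen57
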