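import Cfsg.Agent.Aschbacher57.OrthLines
import Cfsg.Agent.MaxSub.SymplecticExceptional

/-!
Five planes: the small fields where the stabiliser lies in another geometric subgroup.
-/

set_option autoImplicit false
set_option maxHeartbeats 1000000
set_option linter.unusedSectionVars false
set_option linter.style.haveILetI false

namespace CfsgLib.OrthTen57

open Matrix Cfsg.Geo CfsgLib.Aschbacher CfsgLib.AschbacherForms CfsgLib.AschbacherQuad CfsgLib.QuadType57

attribute [-simp] RingEquiv.coe_refl

variable {ι : Type} [Fintype ι] [DecidableEq ι] {F : Type*} [Field F] [Fintype F] {Q : (ι → F) → F}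

local notation "B" => QuadraticMap.polar Q

theorem areIsometric_plus {W W' : Submodule F (ι → F)} (h : AreIsometricFor Q W W')
    (hp : IsPlusTypeOn Q W) : IsPlusTypeOn Q W' := by
  obtain ⟨φ, hφ⟩ := h
  obtain ⟨U, hU, hU0, hUd⟩ := hp
  have hinj : Function.Injective (W'.subtype.comp (φ.toLinearMap.comp (Submodule.inclusion hU))) :=
    W'.injective_subtype.comp (φ.injective.comp (Submodule.inclusion_injective hU))
  refine ⟨LinearMap.range (W'.subtype.comp (φ.toLinearMap.comp (Submodule.inclusion hU))), ?_, ?_, ?_⟩
  · rintro _ ⟨x, rfl⟩; exact (φ _).2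
  · rintro _ ⟨x, rfl⟩
    show Q ((φ _ : W') : ι → F) = 0
    rw [hφ]
    exact hU0 _ x.2
  · rw [LinearMap.finrank_range_of_inj hinj, hUd, φ.finrank_eq]

/-- Five hyperbolic planes give plus type. -/
theorem five_hyperbolic (hQ : IsNondegenerateQuadraticForm Q) (h10 : Fintype.card ι = 10)
    {D : Fin 5 → Submodule F (ι → F)} (hD : IsOrthogonalMDecomposition Q 2 D)
    (h0 : IsPlusTypeOn Q (D 0)) : IsPlusTypeOn Q ⊤ := by
  classical
  have hf := isReflexive_polar hQ
  choose e he f hfm hqe hqf hef hcomb using fun i => plane_hyperbolic hQ (hD.decomp.decomp.finrank_eq i)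
    (hD.decomp.nondegenerate i) (areIsometric_plus (hD.isometric 0 i) h0)
  have horth : ∀ i j, i ≠ j → B (e i) (e j) = 0 := fun i j hij =>
    hD.decomp.orthogonal i j hij _ (he i) _ (he j)
  have hli : LinearIndependent F e := hD.decomp.decomp.indep.linearIndependent D he fun i h => by
    have := hef i
    rw [h, hf.zero_left] at this
    exact zero_ne_one this
  refine (plus_iff_singular hQ (m := 5) (by rw [h10])).2 ⟨Submodule.span F (Set.range e), ?_, ?_⟩
  · rw [finrank_span_eq_card hli, Fintype.card_fin]
  · intro x hx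
    obtain ⟨c, rfl⟩ := (Submodule.mem_span_range_iff_exists_fun F).1 hx
    rw [quad_sum_orth hQ _ _ fun i j hij => by
      rw [hf.sesq.smul_left, hf.sesq.smul_right, horth i j hij, mul_zero, mul_zero]]
    exact Finset.sum_eq_zero fun i _ => by rw [hQ.smul, hqe, mul_zero]

/-- The possibilities for five planes, according to the type and the order of the field. -/
theorem planes_cases (hQ : IsNondegenerateQuadraticForm Q) (h10 : Fintype.card ι = 10)
    {H : Subgroup (GL ι F)} (hQH : FixesQuadForm (matrixSet H) Q) (hirr : ActsIrreducibly (matrixSet H))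
    {D : Fin 5 → Submodule F (ι → F)} (hD : IsOrthogonalMDecomposition Q 2 D)
    (hle : H ≤ decompositionStabilizer D) :
    (IsPlusTypeOn Q ⊤ → 7 ≤ Fintype.card F ∨
      (Fintype.card F = 5 ∧ ∃ D' : Fin 10 → Submodule F (ι → F),
        IsOrthogonalMDecomposition Q 1 D' ∧ H ≤ decompositionStabilizer D') ∨
      ∃ (F₁ : Subfield F) (P : GL ι F), Fintype.card F = Nat.card F₁ ^ 2 ∧
        IsQuadFormRationalStructure Q F₁ P ∧ H ≤ subfieldSubgroup F₁ P) ∧
    (¬ IsPlusTypeOn Q ⊤ → Fintype.card F ≠ 3 ∨
      (Fintype.card F = 3 ∧ ∃ D' : Fin 10 → Submodule F (ι → F),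
        IsOrthogonalMDecomposition Q 1 D' ∧ H ≤ decompositionStabilizer D')) := by
  classical
  have hf := isReflexive_polar hQ
  have hd := hD.decomp.decomp
  have hdim : Module.finrank F (ι → F) = 10 := by rw [Module.finrank_fintype_fun_eq_card, h10]
  have horth : ∀ i j, i ≠ j → ∀ x ∈ D i, ∀ y ∈ D j, B x y = 0 := fun i j hij => hD.decomp.orthogonal i j hij
  constructor
  · intro hplus
    have h0 : IsPlusTypeOn Q (D 0) := by
      by_contra h0
      exact five_elliptic hQ h10 hD h0 hplus
    choose e he f hfm hqe hqf hef hcomb using fun i => plane_hyperbolic hQ (hd.finrank_eq i)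
      (hD.decomp.nondegenerate i) (areIsometric_plus (hD.isometric 0 i) h0)
    have hmove : ∀ g ∈ H, ∀ i, ∀ a b : F, a * b = 1 → ∃ j, ∃ a' b' : F, a' * b' = 1 ∧
        mat g *ᵥ (a • e i + b • f i) = a' • e j + b' • f j := by
      intro g hg i a b hab
      obtain ⟨π, hπ⟩ := hle hg
      obtain ⟨a', b', h⟩ := hcomb (π i) _ (map_le_iff.1 (hπ i).le _
        ((D i).add_mem ((D i).smul_mem a (he i)) ((D i).smul_mem b (hfm i))))
      refine ⟨π i, a', b', ?_, h⟩
      have h1 := hQH _ (mem_matrixSet hg) (a • e i + b • f i)
      rw [h, quad_hyperbolic hQ (hqe _) (hqf _) (hef _), quad_hyperbolic hQ (hqe _) (hqf _) (hef _), hab] at h1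
      exact h1
    by_cases h7 : 7 ≤ Fintype.card F
    · exact Or.inl h7
    have hq1 := Fintype.one_lt_card (α := F)
    have hq6 : Fintype.card F ≠ 6 := by
      intro h6
      obtain ⟨p, hchar⟩ := CharP.exists F
      obtain ⟨n, hp, hn⟩ := FiniteField.card F p
      rw [h6] at hn
      have h2 : 2 ∣ p := Nat.prime_two.dvd_of_dvd_pow (hn ▸ by norm_num : 2 ∣ p ^ (n : ℕ))
      have h3 : 3 ∣ p := Nat.prime_three.dvd_of_dvd_pow (hn ▸ by norm_num : 3 ∣ p ^ (n : ℕ))
      have := (Nat.prime_dvd_prime_iff_eq Nat.prime_two hp).1 h2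
      have := (Nat.prime_dvd_prime_iff_eq Nat.prime_three hp).1 h3
      omega
    rcases (by omega : Fintype.card F = 2 ∨ Fintype.card F = 3 ∨ Fintype.card F = 4 ∨ Fintype.card F = 5) with
      hq | hq | hq | hq
    · exfalso
      have hval : ∀ x : F, x ≠ 0 → x = 1 := fun x hx => CfsgLib.MaxSub.eq_one_of_card_two hq hx
      have h20 : (2 : F) = 0 := CfsgLib.MaxSub.two_eq_zero_of_card_two hq
      let w : Fin 5 → ι → F := fun i => e i + f i
      have hw : ∀ i, w i ∈ D i := fun i => (D i).add_mem (he i) (hfm i)
      have hwQ : ∀ i, Q (w i) = 1 := fun i => by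
        have := quad_hyperbolic hQ (hqe i) (hqf i) (hef i) 1 1
        simpa [w] using this
      let v := ∑ i, w i
      have hvQ : Q v = 1 := by
        rw [quad_sum_orth hQ _ _ fun i j hij => horth i j hij _ (hw i) _ (hw j)]
        simp only [hwQ, Finset.sum_const, Finset.card_univ, Fintype.card_fin, nsmul_eq_mul, mul_one]
        norm_num
        linear_combination (2 : F) * h20
      have hfix : H ≤ subspaceStabilizer (Submodule.span F {v}) := by
        intro g hg
        obtain ⟨π, hπ⟩ := hle hg
        have hgw : ∀ i, mat g *ᵥ w i = w (π i) := by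
          intro i
          obtain ⟨a', b', h⟩ := hcomb (π i) _ (map_le_iff.1 (hπ i).le _ (hw i))
          have h1 := hQH _ (mem_matrixSet hg) (w i)
          rw [h, quad_hyperbolic hQ (hqe _) (hqf _) (hef _), hwQ] at h1
          rw [h, hval a' (left_ne_zero_of_mul_eq_one h1), hval b' (right_ne_zero_of_mul_eq_one h1),
            one_smul, one_smul]
        have hgv : mat g *ᵥ v = v := by
          simp only [v, Matrix.mulVec_sum, hgw]
          exact Equiv.sum_comp π w
        rw [mem_subspaceStabilizer_iff]
        intro x hx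
        obtain ⟨c, rfl⟩ := Submodule.mem_span_singleton.1 hx
        rw [Matrix.mulVec_smul, hgv]
        exact Submodule.smul_mem _ _ (Submodule.mem_span_singleton_self v)
      have hv0 : v ≠ 0 := fun h => by
        have h1 : Q (0 : ι → F) = 0 := by simpa using hQ.smul 0 0
        rw [h, h1] at hvQ
        exact zero_ne_one hvQ
      rcases (actsIrreducibly_iff.1 hirr) _ hfix with h | h
      · exact hv0 (Submodule.span_singleton_eq_bot.1 h)
      · have h1 := congrArg (fun W : Submodule F (ι → F) => Module.finrank F W) h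
        simp only [finrank_top, finrank_span_singleton hv0, hdim] at h1
        omega
    · exfalso
      let w : Fin 5 → ι → F := fun i => e i + f i
      let S := Submodule.span F (Set.range w)
      have hfix : H ≤ subspaceStabilizer S := by
        intro g hg
        rw [mem_subspaceStabilizer_iff]
        intro x hx
        obtain ⟨c, rfl⟩ := (Submodule.mem_span_range_iff_exists_fun F).1 hx
        rw [Matrix.mulVec_sum]
        refine S.sum_mem fun i _ => ?_
        rw [Matrix.mulVec_smul]
        refine S.smul_mem _ ?_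
        obtain ⟨j, a', b', hab, h⟩ := hmove g hg i 1 1 (one_mul 1)
        rw [one_smul, one_smul] at h
        rw [show mat g *ᵥ w i = a' • e j + b' • f j from h]
        have hb : b' = a' := by
          rcases cases_card_three hq a' with rfl | rfl | rfl
          · simp at hab
          · simpa using hab
          · linear_combination -hab
        rw [hb, ← smul_add]
        exact S.smul_mem _ (Submodule.subset_span ⟨j, rfl⟩)
      rcases (actsIrreducibly_iff.1 hirr) S hfix with h | h
      · have h1 : w 0 ∈ S := Submodule.subset_span ⟨0, rfl⟩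
        rw [h, Submodule.mem_bot] at h1
        have h2 := quad_hyperbolic hQ (hqe 0) (hqf 0) (hef 0) 1 1
        rw [one_smul, one_smul, show e 0 + f 0 = 0 from h1,
          show Q (0 : ι → F) = 0 by simpa using hQ.smul 0 0, one_mul] at h2
        exact zero_ne_one h2
      · have h1 : Module.finrank F S ≤ 5 := (finrank_range_le_card w).trans (by simp)
        rw [h, finrank_top, hdim] at h1
        omega
    · -- four elements
      refine Or.inr (Or.inr ?_)
      have h20 : (2 : F) = 0 := by
        by_contra h2
        have h := FiniteField.odd_card_of_char_ne_two (F := F) fun hc => h2 (by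
          haveI := ringChar.of_eq hc
          exact CharTwo.two_eq_zero)
        omega
      obtain ⟨ω, -, hω⟩ := Finset.exists_mem_notMem_of_card_lt_card
        (lt_of_le_of_lt Finset.card_le_two (by rw [Finset.card_univ]; omega) :
          ({0, 1} : Finset F).card < (Finset.univ : Finset F).card)
      simp only [Finset.mem_insert, Finset.mem_singleton, not_or] at hω
      have hω2 : ω * ω + ω + 1 = 0 := by
        have h1 := FiniteField.pow_card ω
        rw [hq] at h1
        have h3 : ω * (ω - 1) * (ω * ω + ω + 1) = 0 := by linear_combination h1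
        exact (mul_eq_zero.1 h3).resolve_left (mul_ne_zero hω.1 (sub_ne_zero.2 hω.2))
      have hall : ∀ x : F, x = 0 ∨ x = 1 ∨ x = ω ∨ x = ω + 1 := by
        have hne : (0 : F) ≠ ω + 1 ∧ (1 : F) ≠ ω + 1 ∧ ω ≠ ω + 1 :=
          ⟨fun h => hω.2 (by linear_combination -h - h20), fun h => hω.1 (by linear_combination -h),
            fun h => one_ne_zero (by linear_combination -h : (1 : F) = 0)⟩
        have hS : ({0, 1, ω, ω + 1} : Finset F) = Finset.univ := by
          apply Finset.eq_univ_of_card
          rw [hq, Finset.card_insert_of_notMem (by simp [Ne.symm hω.1, hne.1]),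
            Finset.card_insert_of_notMem (by simp [Ne.symm hω.2, hne.2.1]), Finset.card_pair hne.2.2]
        intro x
        have := hS ▸ Finset.mem_univ x
        simpa using this
      let F₁ : Subfield F :=
        { carrier := {x | x = 0 ∨ x = 1}
          one_mem' := Or.inr rfl
          zero_mem' := Or.inl rfl
          mul_mem' := by
            rintro a b (rfl | rfl) hb
            · exact Or.inl (zero_mul b)
            · rwa [one_mul]
          add_mem' := by
            rintro a b (rfl | rfl) (rfl | rfl)
            · exact Or.inl (add_zero 0)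
            · exact Or.inr (zero_add 1)
            · exact Or.inr (add_zero 1)
            · exact Or.inl (by linear_combination h20)
          neg_mem' := by
            rintro a (rfl | rfl)
            · exact Or.inl neg_zero
            · exact Or.inr (by linear_combination -h20)
          inv_mem' := by
            rintro a (rfl | rfl)
            · exact Or.inl inv_zero
            · exact Or.inr inv_one }
      have hcardF₁ : Nat.card F₁ = 2 := by
        refine Nat.card_eq_two_iff.2 ⟨0, 1, zero_ne_one, ?_⟩
        ext ⟨x, hx⟩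
        rcases hx with rfl | rfl <;> simp <;> first | exact Or.inl rfl | exact Or.inr rfl
      let a : Fin 2 → F := ![1, ω]
      let b : Fin 2 → F := ![1, ω + 1]
      let w : Fin 5 × Fin 2 → ι → F := fun k => a k.2 • e k.1 + b k.2 • f k.1
      let σ : ι ≃ Fin 5 × Fin 2 := Fintype.equivOfCardEq (by simp [h10])
      have hspan : ⊤ ≤ Submodule.span F (Set.range w) := by
        rw [← hd.iSup_eq_top]
        refine iSup_le fun i x hx => ?_
        obtain ⟨x₀, y₀, rfl⟩ := hcomb i x hx
        have hf1 : f i = w (i, 1) - ω • w (i, 0) := by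
          simp only [w, a, b, Matrix.cons_val_zero, Matrix.cons_val_one]
          module
        have he1 : e i = w (i, 0) - f i := by
          simp only [w, a, b, Matrix.cons_val_zero]
          module
        have hfS : f i ∈ Submodule.span F (Set.range w) := hf1 ▸ Submodule.sub_mem _
          (Submodule.subset_span ⟨_, rfl⟩) (Submodule.smul_mem _ _ (Submodule.subset_span ⟨_, rfl⟩))
        exact Submodule.add_mem _ (Submodule.smul_mem _ _ (he1 ▸ Submodule.sub_mem _
          (Submodule.subset_span ⟨_, rfl⟩) hfS)) (Submodule.smul_mem _ _ hfS)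
      have hli : LinearIndependent F w :=
        linearIndependent_of_top_le_span_of_card_eq_finrank hspan (by simp [h10])
      let M : Matrix ι ι F := Matrix.of fun k i => w (σ i) k
      have hM : IsUnit M := Matrix.linearIndependent_cols_iff_isUnit.1 (hli.comp _ σ.injective)
      let P : GL ι F := hM.unit
      have hP : ∀ i, mat P *ᵥ Pi.single i 1 = w (σ i) := fun i => by
        funext k
        show (M *ᵥ Pi.single i 1) k = _
        rw [Matrix.mulVec_single_one]
        rfl
      have hPu : ∀ u : ι → F, mat P *ᵥ u =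
          ∑ i : Fin 5, ((u (σ.symm (i, 0)) * a 0 + u (σ.symm (i, 1)) * a 1) • e i +
            (u (σ.symm (i, 0)) * b 0 + u (σ.symm (i, 1)) * b 1) • f i) := fun u => by
        conv_lhs => rw [pi_eq_sum_univ' u]
        rw [Matrix.mulVec_sum, ← σ.symm.sum_comp, Fintype.sum_prod_type]
        refine Finset.sum_congr rfl fun i _ => ?_
        rw [Fin.sum_univ_two, Matrix.mulVec_smul, Matrix.mulVec_smul, hP, hP, σ.apply_symm_apply,
          σ.apply_symm_apply]
        simp only [w]
        module
      refine ⟨F₁, P, by rw [hcardF₁, hq]; norm_num, fun u hu => ?_, fun g hg =>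
        mem_subfield_of_columns fun j => ?_⟩
      · rw [hPu, quad_sum_orth hQ _ _ fun i j hij => horth i j hij _
          ((D i).add_mem ((D i).smul_mem _ (he i)) ((D i).smul_mem _ (hfm i))) _
          ((D j).add_mem ((D j).smul_mem _ (he j)) ((D j).smul_mem _ (hfm j)))]
        refine F₁.sum_mem fun i _ => ?_
        rw [quad_hyperbolic hQ (hqe i) (hqf i) (hef i)]
        set s := u (σ.symm (i, 0))
        set t := u (σ.symm (i, 1))
        have he2 : (s * a 0 + t * a 1) * (s * b 0 + t * b 1) = s * s + s * t + t * t := by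
          simp only [a, b, Matrix.cons_val_zero, Matrix.cons_val_one]
          linear_combination (t * t) * hω2 + (s * t * ω - t * t) * h20
        rw [he2]
        exact F₁.add_mem (F₁.add_mem (F₁.mul_mem (hu _) (hu _)) (F₁.mul_mem (hu _) (hu _)))
          (F₁.mul_mem (hu _) (hu _))
      · rw [hP]
        obtain ⟨i', a', b', hab, h⟩ := hmove g hg (σ j).1 (a (σ j).2) (b (σ j).2) (by
          generalize (σ j).2 = r
          fin_cases r
          · simp [a, b]
          · simp [a, b]; linear_combination hω2 - h20)
        have hcases : (a' = 1 ∧ b' = 1) ∨ (a' = ω ∧ b' = ω + 1) ∨ (a' = ω + 1 ∧ b' = ω) := by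
          rcases hall a' with rfl | rfl | rfl | rfl
          · simp at hab
          · exact Or.inl ⟨rfl, by simpa using hab⟩
          · exact Or.inr (Or.inl ⟨rfl, mul_left_cancel₀ hω.1 (by linear_combination hab - hω2 + h20)⟩)
          · refine Or.inr (Or.inr ⟨rfl, mul_left_cancel₀ (left_ne_zero_of_mul_eq_one hab) ?_⟩)
            linear_combination hab - hω2 + h20
        rw [show mat g *ᵥ w (σ j) = _ from h]
        rcases hcases with ⟨rfl, rfl⟩ | ⟨rfl, rfl⟩ | ⟨rfl, rfl⟩
        · refine ⟨Pi.single (σ.symm (i', 0)) 1, fun i => ?_, ?_⟩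
          · by_cases hi : i = σ.symm (i', 0) <;> simp [hi] <;> first | exact Or.inl rfl | exact Or.inr rfl
          · rw [hP, σ.apply_symm_apply]; simp [w, a, b]
        · refine ⟨Pi.single (σ.symm (i', 1)) 1, fun i => ?_, ?_⟩
          · by_cases hi : i = σ.symm (i', 1) <;> simp [hi] <;> first | exact Or.inl rfl | exact Or.inr rfl
          · rw [hP, σ.apply_symm_apply]; simp [w, a, b]
        · refine ⟨Pi.single (σ.symm (i', 0)) 1 + Pi.single (σ.symm (i', 1)) 1, fun i => ?_, ?_⟩
          · refine F₁.add_mem ?_ ?_
            · by_cases hi : i = σ.symm (i', 0) <;> simp [hi] <;> first | exact Or.inl rfl | exact Or.inr rfl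
            · by_cases hi : i = σ.symm (i', 1) <;> simp [hi] <;> first | exact Or.inl rfl | exact Or.inr rfl
          · rw [Matrix.mulVec_add, hP, hP, σ.apply_symm_apply, σ.apply_symm_apply]
            simp only [w, a, b, Matrix.cons_val_zero, Matrix.cons_val_one]
            match_scalars
            · ring
            · linear_combination -h20
    · -- five elements
      refine Or.inr (Or.inl ⟨hq, ?_⟩)
      have h5 : (5 : F) = 0 := by
        have h := FiniteField.cast_card_eq_zero F
        rw [hq] at h
        exact_mod_cast h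
      have h2 : (2 : F) ≠ 0 := CfsgLib.MaxSub.two_ne_zero_of_odd (by rw [hq]; decide)
      let a : Fin 2 → F := ![1, 2]
      let b : Fin 2 → F := ![1, 3]
      let w : Fin 10 → ι → F := fun k =>
        a (finProdFinEquiv.symm k : Fin 5 × Fin 2).2 • e (finProdFinEquiv.symm k : Fin 5 × Fin 2).1 +
          b (finProdFinEquiv.symm k : Fin 5 × Fin 2).2 • f (finProdFinEquiv.symm k : Fin 5 × Fin 2).1
      have hab : ∀ r : Fin 2, a r * b r = 1 := by
        intro r
        fin_cases r
        · simp [a, b]
        · simp [a, b]; linear_combination h5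
      have hw : ∀ k, Q (w k) = 1 := fun k => by
        simp only [w]
        rw [quad_hyperbolic hQ (hqe _) (hqf _) (hef _), hab]
      have hwo : ∀ k l, k ≠ l → B (w k) (w l) = 0 := by
        intro k l hkl
        obtain ⟨⟨i, r⟩, rfl⟩ := (finProdFinEquiv : Fin 5 × Fin 2 ≃ Fin 10).surjective k
        obtain ⟨⟨j, s⟩, rfl⟩ := (finProdFinEquiv : Fin 5 × Fin 2 ≃ Fin 10).surjective l
        simp only [w, Equiv.symm_apply_apply]
        rcases eq_or_ne i j with rfl | hij
        · have hee : B (e i) (e i) = 0 := by rw [MaxSub.polar_self hQ, hqe, mul_zero]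
          have hff : B (f i) (f i) = 0 := by rw [MaxSub.polar_self hQ, hqf, mul_zero]
          have hfe : B (f i) (e i) = 1 := by rw [QuadraticMap.polar_comm]; exact hef i
          simp only [hf.sesq.add_left, hf.sesq.add_right, hf.sesq.smul_left, hf.sesq.smul_right,
            RingEquiv.refl_apply, hee, hff, hfe, hef]
          fin_cases r <;> fin_cases s
          · exact absurd rfl hkl
          · simp [a, b]; linear_combination h5
          · simp [a, b]; linear_combination h5
          · exact absurd rfl hkl
        · exact horth i j hij _ ((D i).add_mem ((D i).smul_mem _ (he i)) ((D i).smul_mem _ (hfm i))) _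
            ((D j).add_mem ((D j).smul_mem _ (he j)) ((D j).smul_mem _ (hfm j)))
      refine ⟨_, lineDecomp hQ h2 (by norm_num) h10 w one_ne_zero hw hwo fun g hg k => ?_⟩
      obtain ⟨⟨i, r⟩, rfl⟩ := (finProdFinEquiv : Fin 5 × Fin 2 ≃ Fin 10).surjective k
      obtain ⟨i', a', b', hab', h⟩ := hmove g hg i (a r) (b r) (hab r)
      simp only [w, Equiv.symm_apply_apply]
      rw [h]
      have ha0 : a' ≠ 0 := left_ne_zero_of_mul_eq_one hab'
      have h4 : (a' * a' - 1) * (a' * a' + 1) = 0 := by
        have h1 := FiniteField.pow_card_sub_one_eq_one a' ha0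
        rw [hq] at h1
        linear_combination h1
      rcases mul_eq_zero.1 h4 with h4 | h4
      · refine ⟨finProdFinEquiv (i', (0 : Fin 2)), a', ?_⟩
        have hb : b' = a' := mul_left_cancel₀ ha0 (by linear_combination hab' - h4)
        simp [hb, a, b]
      · refine ⟨finProdFinEquiv (i', (1 : Fin 2)), 3 * a', ?_⟩
        have hb : b' = -a' := mul_left_cancel₀ ha0 (by linear_combination hab' + h4)
        simp [hb, a, b]
        match_scalars
        · linear_combination (-a') * h5
        · linear_combination (-2 * a') * h5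
  · intro hminus
    by_cases hq : Fintype.card F = 3
    swap
    · exact Or.inl hq
    refine Or.inr ⟨hq, ?_⟩
    have h2 : (2 : F) ≠ 0 := CfsgLib.MaxSub.two_ne_zero_of_odd (by rw [hq]; decide)
    have h30 := three_eq_zero_of_card_three hq
    have h0 : ¬ IsPlusTypeOn Q (D 0) := fun h => hminus (five_hyperbolic hQ h10 hD h)
    have han : ∀ x ∈ D 0, Q x = 0 → x = 0 := fun x hx => plane_aniso hQ (hd.finrank_eq 0) h0 hx
    have hnd : D 0 ⊓ LinearMap.BilinForm.orthogonal (QuadraticMap.polarBilin (quadForm hQ)) (D 0) = ⊥ := by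
      rw [eq_bot_iff]
      rintro x ⟨hx, hxp⟩
      by_contra hx0
      obtain ⟨⟨y, hy, hyx⟩, -⟩ := hD.decomp.nondegenerate 0 x hx (by simpa using hx0)
      exact hyx (hxp y hy)
    obtain ⟨v, hv, hQv⟩ := CfsgLib.OmegaOrbits.exists_value_mem (Q := quadForm hQ) hnd
      (by rw [hd.finrank_eq]) 1 one_ne_zero
    replace hQv : Q v = 1 := hQv
    have hv0 : v ≠ 0 := fun h => by
      rw [h, show Q (0 : ι → F) = 0 by simpa using hQ.smul 0 0] at hQv
      exact zero_ne_one hQv
    obtain ⟨u, ⟨hu, hvu⟩, hu0⟩ := (Submodule.ne_bot_iff (D 0 ⊓ hf.perp (Submodule.span F {v}))).1 (fun h => by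
      have h1 := Submodule.finrank_sup_add_finrank_inf_eq (D 0) (hf.perp (Submodule.span F {v}))
      have h3 := hf.finrank_perp (Submodule.span F {v})
      have h4 := Submodule.finrank_le (D 0 ⊔ hf.perp (Submodule.span F {v}))
      rw [h, finrank_bot, hd.finrank_eq] at h1
      rw [finrank_span_singleton hv0, h10] at h3
      rw [hdim] at h4
      omega)
    have huv : B u v = 0 := hvu v (Submodule.mem_span_singleton_self v)
    have hvu' : B v u = 0 := hf.orth_comm huv
    have hQu : Q u = 1 := by
      rcases cases_card_three hq (Q u) with h | h | h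
      · exact absurd (han u hu h) hu0
      · exact h
      · exfalso
        have h1 : Q (v + u) = 0 := by rw [MaxSub.quad_add (Q := Q), hQv, h, hvu']; ring
        have h3 := han _ ((D 0).add_mem hv hu) h1
        rw [eq_neg_of_add_eq_zero_right h3, ← neg_one_smul F v, hQ.smul, hQv] at h
        exact h2 (by linear_combination h)
    choose ε hε using fun i => hD.isometric 0 i
    let vv : Fin 5 → ι → F := fun i => ((ε i ⟨v, hv⟩ : D i) : ι → F)
    let uu : Fin 5 → ι → F := fun i => ((ε i ⟨u, hu⟩ : D i) : ι → F)
    have hvQ : ∀ i, Q (vv i) = 1 := fun i => (hε i _).trans hQv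
    have huQ : ∀ i, Q (uu i) = 1 := fun i => (hε i _).trans hQu
    have hvuo : ∀ i, B (vv i) (uu i) = 0 := fun i => by
      have h1 := hε i (⟨v, hv⟩ + ⟨u, hu⟩)
      rw [map_add, Submodule.coe_add, Submodule.coe_add] at h1
      have h3 : B (vv i) (uu i) = B v u := by
        simp only [QuadraticMap.polar, vv, uu, h1, hε]
      rw [h3, hvu']
    have hcomb : ∀ i, ∀ x ∈ D i, ∃ a b : F, x = a • vv i + b • uu i := by
      intro i x hx
      have hli : LinearIndependent F ![(⟨v, hv⟩ : D 0), ⟨u, hu⟩] := by
        rw [LinearIndependent.pair_iff]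
        intro s t h
        have h' : s • v + t • u = 0 := congrArg Subtype.val h
        have h1 := congrArg (fun z => B z v) h'
        have h3 := congrArg (fun z => B z u) h'
        simp only [hf.sesq.add_left, hf.sesq.smul_left, MaxSub.polar_self hQ, hQv, hQu, huv, hvu', hf.zero_left,
          mul_zero, mul_one, zero_add, add_zero] at h1 h3
        exact ⟨(mul_eq_zero.1 h1).resolve_right h2, (mul_eq_zero.1 h3).resolve_right h2⟩
      let bb := (basisOfLinearIndependentOfCardEqFinrank hli (by rw [Fintype.card_fin, hd.finrank_eq])).map (ε i)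
      refine ⟨bb.repr ⟨x, hx⟩ 0, bb.repr ⟨x, hx⟩ 1, ?_⟩
      have h1 := congrArg Subtype.val (bb.sum_repr ⟨x, hx⟩)
      rw [Fin.sum_univ_two] at h1
      simpa [bb, vv, uu] using h1.symm
    let w : Fin 10 → ι → F := fun k =>
      ![vv (finProdFinEquiv.symm k : Fin 5 × Fin 2).1, uu (finProdFinEquiv.symm k : Fin 5 × Fin 2).1]
        (finProdFinEquiv.symm k : Fin 5 × Fin 2).2
    have hwmem : ∀ i r, ![vv i, uu i] r ∈ D i := fun i r => by
      fin_cases r
      · exact (ε i _).2
      · exact (ε i _).2
    have hw : ∀ k, Q (w k) = 1 := fun k => by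
      simp only [w]
      generalize (finProdFinEquiv.symm k : Fin 5 × Fin 2).2 = r
      fin_cases r
      · exact hvQ _
      · exact huQ _
    have hwo : ∀ k l, k ≠ l → B (w k) (w l) = 0 := by
      intro k l hkl
      obtain ⟨⟨i, r⟩, rfl⟩ := (finProdFinEquiv : Fin 5 × Fin 2 ≃ Fin 10).surjective k
      obtain ⟨⟨j, s⟩, rfl⟩ := (finProdFinEquiv : Fin 5 × Fin 2 ≃ Fin 10).surjective l
      simp only [w, Equiv.symm_apply_apply]
      rcases eq_or_ne i j with rfl | hij
      · fin_cases r <;> fin_cases s
        · exact absurd rfl hkl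
        · exact hvuo i
        · exact hf.orth_comm (hvuo i)
        · exact absurd rfl hkl
      · exact horth i j hij _ (hwmem i r) _ (hwmem j s)
    refine ⟨_, lineDecomp hQ h2 (by norm_num) h10 w one_ne_zero hw hwo fun g hg k => ?_⟩
    obtain ⟨⟨i, r⟩, rfl⟩ := (finProdFinEquiv : Fin 5 × Fin 2 ≃ Fin 10).surjective k
    obtain ⟨π, hπ⟩ := hle hg
    have hwk : w (finProdFinEquiv (i, r)) = ![vv i, uu i] r := by simp [w]
    obtain ⟨x, y, hxy⟩ := hcomb (π i) _ (map_le_iff.1 (hπ i).le _ (hwmem i r))
    rw [hwk, hxy]
    have h1 : x * x + y * y = 1 := by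
      have h := hQH _ (mem_matrixSet hg) (![vv i, uu i] r)
      rw [hxy, MaxSub.quad_add (Q := Q), hQ.smul, hQ.smul, hvQ, huQ, hf.sesq.smul_left, hf.sesq.smul_right,
        hvuo, show Q (![vv i, uu i] r) = 1 by rw [← hwk]; exact hw _] at h
      linear_combination h
    have hxy0 : x = 0 ∨ y = 0 := by
      rcases cases_card_three hq x with hx | hx | hx <;> rcases cases_card_three hq y with hy | hy | hy <;>
        first
        | exact Or.inl hx
        | exact Or.inr hy
        | (exfalso; rw [hx, hy] at h1; exact one_ne_zero (α := F) (by linear_combination h1))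
    rcases hxy0 with rfl | rfl
    · exact ⟨finProdFinEquiv (π i, (1 : Fin 2)), y, by simp [w]⟩
    · exact ⟨finProdFinEquiv (π i, (0 : Fin 2)), x, by simp [w]⟩

end CfsgLib.OrthTen57
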