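import Cfsg.Agent.Aschbacher57.QuadType
import Cfsg.Agent.AschbacherForms.Descent
import Cfsg.Agent.Aschbacher.Core

/-!
Subfield groups of orthogonal groups: rationality of the quadratic form, and the type over a quadratic extension.
-/

set_option autoImplicit false
set_option maxHeartbeats 1000000
set_option linter.unusedSectionVars false
set_option linter.style.haveILetI false

namespace CfsgLib.OrthRational57

open scoped commutatorElement
open Matrix Cfsg.Geo CfsgLib.Aschbacher CfsgLib.AschbacherForms CfsgLib.AschbacherQuad CfsgLib.QuadType57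

attribute [-simp] RingEquiv.coe_refl

variable {ι : Type} [Fintype ι] [DecidableEq ι] {F : Type*} [Field F] [Fintype F] {Q : (ι → F) → F}

local notation "B" => QuadraticMap.polar Q

theorem mem_of_pow_card {F₁ : Subfield F} {x : F} (hx : x ^ Nat.card F₁ = x) : x ∈ F₁ := by
  classical
  haveI := Fintype.ofFinite F₁
  let S : Finset F := Finset.univ.filter (· ∈ F₁)
  let T : Finset F := Finset.univ.filter (fun y => y ^ Nat.card F₁ = y)
  have hST : S ⊆ T := fun y hy => by
    simp only [S, Finset.mem_filter, Finset.mem_univ, true_and] at hy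
    simp only [T, Finset.mem_filter, Finset.mem_univ, true_and]
    have := FiniteField.pow_card (⟨y, hy⟩ : F₁)
    rw [Nat.card_eq_fintype_card]
    exact congrArg Subtype.val this
  have h1 : 1 < Nat.card F₁ := Finite.one_lt_card
  have hcard : T.card ≤ S.card := by
    have hS : S.card = Nat.card F₁ := by
      rw [Nat.card_eq_fintype_card]
      exact (Fintype.card_subtype _).symm
    have hp0 : (Polynomial.X ^ Nat.card F₁ - Polynomial.X : Polynomial F) ≠ 0 :=
      FiniteField.X_pow_card_sub_X_ne_zero F h1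
    have hsub : T ⊆ (Polynomial.X ^ Nat.card F₁ - Polynomial.X : Polynomial F).roots.toFinset := fun y hy => by
      simp only [T, Finset.mem_filter, Finset.mem_univ, true_and] at hy
      rw [Multiset.mem_toFinset, Polynomial.mem_roots hp0]
      simp only [Polynomial.IsRoot.def, Polynomial.eval_sub, Polynomial.eval_pow, Polynomial.eval_X, hy, sub_self]
    rw [hS]
    refine (Finset.card_le_card hsub).trans ((Multiset.toFinset_card_le _).trans ?_)
    exact (Polynomial.card_roots' _).trans (FiniteField.X_pow_card_sub_X_natDegree_eq F h1).le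
  have heq := Finset.eq_of_subset_of_card_le hST hcard
  have hxT : x ∈ T := Finset.mem_filter.2 ⟨Finset.mem_univ _, hx⟩
  rw [← heq] at hxT
  simpa [S] using hxT

theorem exists_frobenius (F₁ : Subfield F) : ∃ τ : F →+* F, ∀ x, τ x = x ^ Nat.card F₁ := by
  haveI := Fintype.ofFinite F₁
  refine ⟨(FiniteField.frobeniusAlgHom F₁ F).toRingHom, fun x => ?_⟩
  rw [Nat.card_eq_fintype_card]
  rfl

/-- A perfect normal absolutely irreducible group in a subfield group makes the quadratic form rational. -/
theorem quad_rational (hQ : IsNondegenerateQuadraticForm Q) (hn : 2 ≤ Fintype.card ι) {R : Subgroup (GL ι F)}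
    (hperf : ⁅R, R⁆ = R) (hirr : ActsIrreducibly (matrixSet R)) (hQR : FixesQuadForm (matrixSet R) Q)
    {F₁ : Subfield F} {P : GL ι F} {ζ : F} (hrat : IsFormRationalStructure (B) F₁ ζ P)
    (hle : R ≤ subfieldSubgroup F₁ P) : IsQuadFormRationalStructure (fun v => ζ * Q v) F₁ P := by
  classical
  let base : Subgroup (GL ι F) :=
    (Matrix.GeneralLinearGroup.map (n := ι) (F₁.subtype : F₁ →+* F)).range
  have hbase : ∀ g ∈ R, g ∈ base.map (MulAut.conj P).toMonoidHom := by
    suffices h : ⁅R, R⁆ ≤ base.map (MulAut.conj P).toMonoidHom by rwa [hperf] at h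
    rw [Subgroup.commutator_le]
    intro x hx y hy
    obtain ⟨x', hx', rfl⟩ := hle hx
    obtain ⟨y', hy', rfl⟩ := hle hy
    rw [← map_commutatorElement]
    refine ⟨_, ?_, rfl⟩
    rw [SetLike.mem_coe, Subgroup.mem_sup_of_normal_right] at hx' hy'
    obtain ⟨u, hu, s, hs, rfl⟩ := hx'
    obtain ⟨v, hv, t, ht, rfl⟩ := hy'
    have hcs : ∀ g, s * g = g * s := fun g => scalars_comm hs (g := g)
    have hct : ∀ g, t * g = g * t := fun g => scalars_comm ht (g := g)
    have e : ⁅u * s, v * t⁆ = ⁅u, v⁆ := by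
      rw [commutatorElement_def, commutatorElement_def, _root_.mul_inv_rev, _root_.mul_inv_rev]
      calc u * s * (v * t) * (s⁻¹ * u⁻¹) * (t⁻¹ * v⁻¹) = u * (s * (v * (t * (s⁻¹ * u⁻¹)))) * (t⁻¹ * v⁻¹) := by
            simp only [mul_assoc]
        _ = u * (v * (t * (s⁻¹ * u⁻¹)) * s) * (t⁻¹ * v⁻¹) := by rw [hcs]
        _ = u * (v * ((s⁻¹ * u⁻¹) * t) * s) * (t⁻¹ * v⁻¹) := by rw [hct]
        _ = u * v * s⁻¹ * u⁻¹ * ((t * s) * t⁻¹) * v⁻¹ := by simp only [mul_assoc]
        _ = u * v * s⁻¹ * (u⁻¹ * s) * v⁻¹ := by rw [← hcs t, mul_inv_cancel_right]; simp only [mul_assoc]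
        _ = _ := by rw [← hcs u⁻¹]; simp only [mul_assoc, inv_mul_cancel_left]
    rw [SetLike.mem_coe, e, commutatorElement_def]
    exact mul_mem (mul_mem (mul_mem hu hv) (inv_mem hu)) (inv_mem hv)
  obtain ⟨τ, hτ⟩ := exists_frobenius F₁
  have hfixF : ∀ x ∈ F₁, τ x = x := fun x hx => by
    haveI := Fintype.ofFinite F₁
    rw [hτ, Nat.card_eq_fintype_card]
    exact congrArg Subtype.val (FiniteField.pow_card (⟨x, hx⟩ : F₁))
  let Q' : (ι → F) → F := fun u => ζ * Q (mat P *ᵥ u)
  let τv : (ι → F) → ι → F := fun u i => τ (u i)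
  have hf := isReflexive_polar hQ
  have hpol : ∀ u w, Q' (u + w) = Q' u + Q' w + ζ * B (mat P *ᵥ u) (mat P *ᵥ w) := fun u w => by
    simp only [Q', Matrix.mulVec_add, MaxSub.quad_add (Q := Q)]
    ring
  have hsum : ∀ u w : ι → F, ζ * B (mat P *ᵥ u) (mat P *ᵥ w) =
      ∑ i, ∑ j, u i * (w j * (ζ * B (mat P *ᵥ Pi.single i 1) (mat P *ᵥ Pi.single j 1))) := fun u w => by
    conv_lhs => rw [pi_eq_sum_univ' u, pi_eq_sum_univ' w]
    simp only [Matrix.mulVec_sum, Matrix.mulVec_smul, hf.sesq.sum_left, hf.sesq.sum_right, hf.sesq.smul_left,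
      hf.sesq.smul_right, RingEquiv.refl_apply, Finset.mul_sum]
    refine Finset.sum_congr rfl fun i _ => Finset.sum_congr rfl fun j _ => ?_
    ring
  have hτpol : ∀ u w, τ (ζ * B (mat P *ᵥ u) (mat P *ᵥ w)) = ζ * B (mat P *ᵥ τv u) (mat P *ᵥ τv w) := by
    intro u w
    rw [hsum, hsum, map_sum]
    refine Finset.sum_congr rfl fun i _ => ?_
    rw [map_sum]
    refine Finset.sum_congr rfl fun j _ => ?_
    rw [map_mul, map_mul, hfixF _ (hrat _ _ (fun k => by
      rcases eq_or_ne k i with rfl | hk
      · rw [Pi.single_eq_same]; exact F₁.one_mem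
      · rw [Pi.single_eq_of_ne hk]; exact F₁.zero_mem) (fun k => by
      rcases eq_or_ne k j with rfl | hk
      · rw [Pi.single_eq_same]; exact F₁.one_mem
      · rw [Pi.single_eq_of_ne hk]; exact F₁.zero_mem))]
  let D : (ι → F) → F := fun v => τ (Q' (mat P⁻¹ *ᵥ v)) - Q' (τv (mat P⁻¹ *ᵥ v))
  have hD : ∀ v, D v = 0 := by
    refine additive_invariant_zero (D := D) hirr hn (fun c => τ c ^ 2)
      (fun c hc => τ.injective (by rw [map_zero]; exact pow_eq_zero_iff two_ne_zero |>.1 hc))
      (fun v w => ?_) (fun c v => ?_) fun g hg v => ?_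
    · have e : τv (mat P⁻¹ *ᵥ v + mat P⁻¹ *ᵥ w) = τv (mat P⁻¹ *ᵥ v) + τv (mat P⁻¹ *ᵥ w) :=
        funext fun i => map_add τ _ _
      simp only [D, Matrix.mulVec_add, e, hpol, map_add, hτpol]
      ring
    · have e : τv (c • (mat P⁻¹ *ᵥ v)) = τ c • τv (mat P⁻¹ *ᵥ v) := funext fun i => map_mul τ _ _
      simp only [D, Matrix.mulVec_smul, e, Q', hQ.smul]
      rw [map_mul, map_mul, map_pow, map_mul]
      ring
    · obtain ⟨_, ⟨u, rfl⟩, hu⟩ := hbase g hg
      set M := mat (Matrix.GeneralLinearGroup.map (F₁.subtype : F₁ →+* F) u) with hM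
      have hMF : ∀ i j, M i j ∈ F₁ := fun i j => by
        show F₁.subtype ((u : Matrix ι ι F₁) i j) ∈ F₁
        exact ((u : Matrix ι ι F₁) i j).2
      have hgM : mat g = mat P * M * mat P⁻¹ := by
        rw [← hu]; rfl
      have hQM : ∀ z, Q' (M *ᵥ z) = Q' z := fun z => by
        have h1 := hQR _ (mem_matrixSet hg) (mat P *ᵥ z)
        rw [hgM] at h1
        simp only [← Matrix.mulVec_mulVec, inv_mulVec_mulVec] at h1
        simp only [Q', h1]
      have hτM : ∀ z, τv (M *ᵥ z) = M *ᵥ τv z := fun z => funext fun i => by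
        simp only [τv, Matrix.mulVec, dotProduct, map_sum, map_mul, hfixF _ (hMF i _)]
      have hPg : mat P⁻¹ *ᵥ (mat g *ᵥ v) = M *ᵥ (mat P⁻¹ *ᵥ v) := by
        rw [hgM]
        simp only [← Matrix.mulVec_mulVec, inv_mulVec_mulVec]
      simp only [D, hPg, hτM, hQM]
  intro u hu
  have h1 := hD (mat P *ᵥ u)
  simp only [D, inv_mulVec_mulVec, show τv u = u from funext fun i => hfixF _ (hu i), sub_eq_zero] at h1
  exact mem_of_pow_card (by rw [← hτ]; exact h1)

/-- A quadratic polynomial over a subfield of index two has a root. -/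
theorem exists_root_quadratic {F₁ : Subfield F} (h2 : Fintype.card F = Nat.card F₁ ^ 2) (a b c : F₁)
    (hc : c ≠ 0) : ∃ x : F, (a : F) + (b : F) * x + (c : F) * x ^ 2 = 0 := by
  classical
  haveI := Fintype.ofFinite F₁
  let f : Polynomial F₁ := Polynomial.X ^ 2 + Polynomial.C (b / c) * Polynomial.X + Polynomial.C (a / c)
  have hmon : f.Monic := by
    show (Polynomial.X ^ 2 + Polynomial.C (b / c) * Polynomial.X + Polynomial.C (a / c)).Monic
    monicity!
  have hdeg : f.natDegree = 2 := by
    show (Polynomial.X ^ 2 + Polynomial.C (b / c) * Polynomial.X + Polynomial.C (a / c)).natDegree = 2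
    compute_degree!
  have hval : ∀ x : F, Polynomial.eval₂ F₁.subtype x f = 0 → (a : F) + (b : F) * x + (c : F) * x ^ 2 = 0 := by
    intro x hx
    simp only [f, Polynomial.eval₂_add, Polynomial.eval₂_mul, Polynomial.eval₂_pow, Polynomial.eval₂_X,
      Polynomial.eval₂_C, map_div₀, Subfield.coe_subtype] at hx
    have hc' : (c : F) ≠ 0 := fun h => hc (Subtype.ext h)
    field_simp at hx
    linear_combination hx
  by_cases hirr : Irreducible f
  · haveI := Fact.mk hirr
    letI : Field (AdjoinRoot f) := AdjoinRoot.instField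
    have hfr : Module.finrank F₁ (AdjoinRoot f) = 2 := by
      rw [Module.finrank_eq_card_basis (AdjoinRoot.powerBasisAux' hmon), Fintype.card_fin, hdeg]
    have hF : Module.finrank F₁ F = 2 := by
      have h := Module.card_eq_pow_finrank (K := F₁) (V := F)
      rw [h2, Nat.card_eq_fintype_card] at h
      exact (Nat.pow_right_injective Fintype.one_lt_card h).symm
    obtain ⟨φ⟩ := FiniteField.nonempty_algHom_of_finrank_dvd (F := F₁) (K := AdjoinRoot f) (L := F)
      (by rw [hfr, hF])
    refine ⟨φ (AdjoinRoot.root f), hval _ ?_⟩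
    have h1 := congrArg φ (AdjoinRoot.eval₂_root f)
    rw [map_zero, ← AdjoinRoot.algebraMap_eq, ← AlgHom.coe_toRingHom, Polynomial.hom_eval₂,
      AlgHom.comp_algebraMap] at h1
    exact h1
  · rw [Polynomial.Monic.irreducible_iff_roots_eq_zero_of_degree_le_three hmon hdeg.ge (by omega)] at hirr
    obtain ⟨r, hr⟩ := Multiset.exists_mem_of_ne_zero hirr
    have h1 := (Polynomial.mem_roots hmon.ne_zero).1 hr
    refine ⟨(r : F), hval _ ?_⟩
    rw [show ((r : F)) = F₁.subtype r from rfl, Polynomial.eval₂_at_apply, h1, map_zero]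

/-- A rational structure over a subfield of index two gives plus type. -/
theorem plus_of_rational_sq (hQ : IsNondegenerateQuadraticForm Q) {m : ℕ} (hm : Fintype.card ι = 2 * m)
    {F₁ : Subfield F} (h2 : Fintype.card F = Nat.card F₁ ^ 2) {P : GL ι F} {ζ : F} (hζ : ζ ≠ 0)
    (hrat : IsQuadFormRationalStructure (fun v => ζ * Q v) F₁ P) : IsPlusTypeOn Q ⊤ := by
  classical
  haveI := Fintype.ofFinite F₁
  have hf := isReflexive_polar hQ
  let up : (ι → F₁) → ι → F := fun u i => (u i : F)
  have hup_add : ∀ u w, up (u + w) = up u + up w := fun u w => rfl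
  have hup_smul : ∀ (c : F₁) u, up (c • u) = (c : F) • up u := fun c u => rfl
  let Q₁ : (ι → F₁) → F₁ := fun u => ⟨ζ * Q (mat P *ᵥ up u), hrat (up u) fun i => (u i).2⟩
  have hpol : ∀ u w, ((QuadraticMap.polar Q₁ u w : F₁) : F) = ζ * B (mat P *ᵥ up u) (mat P *ᵥ up w) := by
    intro u w
    simp only [QuadraticMap.polar, AddSubgroupClass.coe_sub, Q₁, hup_add, Matrix.mulVec_add]
    ring
  have hQ₁ : IsNondegenerateQuadraticForm Q₁ := by
    refine ⟨fun c u => Subtype.ext ?_, ⟨fun x y z => Subtype.ext ?_, fun c x z => Subtype.ext ?_,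
      fun z x y => Subtype.ext ?_, fun c z x => Subtype.ext ?_⟩, fun u hu => ?_⟩
    · simp only [Q₁, hup_smul, Matrix.mulVec_smul, hQ.smul, Subfield.coe_mul, SubmonoidClass.coe_pow]
      ring
    · rw [Subfield.coe_add, hpol, hpol, hpol, hup_add, Matrix.mulVec_add, hf.sesq.add_left]; ring
    · rw [Subfield.coe_mul, hpol, hpol, hup_smul, Matrix.mulVec_smul, hf.sesq.smul_left]; ring
    · rw [Subfield.coe_add, hpol, hpol, hpol, hup_add, Matrix.mulVec_add, hf.sesq.add_right]; ring
    · rw [Subfield.coe_mul, hpol, hpol, hup_smul, Matrix.mulVec_smul, hf.sesq.smul_right,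
        RingEquiv.refl_apply]; ring
    · have hv : mat P *ᵥ up u ≠ 0 := fun h => hu (funext fun i => Subtype.ext (by
        have h1 := congrArg (fun z => (mat P⁻¹ *ᵥ z) i) h
        simpa [inv_mulVec_mulVec, up] using h1))
      obtain ⟨i, hi⟩ : ∃ i, B (mat P *ᵥ up u) (mat P *ᵥ Pi.single i 1) ≠ 0 := by
        by_contra hall
        push Not at hall
        obtain ⟨-, x, hx⟩ := hQ.nondegenerate _ hv
        apply hx
        have e : x = mat P *ᵥ (mat P⁻¹ *ᵥ x) := (mulVec_inv_mulVec P x).symm
        rw [e, pi_eq_sum_univ' (mat P⁻¹ *ᵥ x), Matrix.mulVec_sum, hf.sesq.sum_right]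
        exact Finset.sum_eq_zero fun j _ => by rw [Matrix.mulVec_smul, hf.sesq.smul_right, hall, mul_zero]
      have hs : up (Pi.single i 1) = Pi.single i 1 := funext fun j => by
        by_cases hj : j = i <;> simp [up, hj]
      refine ⟨⟨Pi.single i 1, fun h => ?_⟩, ⟨Pi.single i 1, fun h => ?_⟩⟩
      all_goals
        have h1 := congrArg Subtype.val h
        rw [hpol, hs] at h1
        rcases mul_eq_zero.1 h1 with h2 | h2
        · exact hζ h2
        · first
          | exact hi h2
          | exact hi (hf.orth_comm h2)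
  have hf₁ := isReflexive_polar hQ₁
  let S : Set (Submodule F₁ (ι → F₁)) := {W | IsTotallySingularQuad Q₁ W}
  have hne : S.Nonempty := ⟨⊥, fun u hu => by
    rw [(Submodule.mem_bot F₁).1 hu]; simpa using hQ₁.smul 0 0⟩
  obtain ⟨W, hW, hmax⟩ := (wellFounded_gt (α := Submodule F₁ (ι → F₁))).has_min S hne
  have han : ∀ v, (∀ w ∈ W, QuadraticMap.polar Q₁ v w = 0) → Q₁ v = 0 → v ∈ W := by
    intro v hv hqv
    by_contra hvW
    refine hmax (W ⊔ Submodule.span F₁ {v}) (fun u hu => ?_) (lt_of_le_of_ne le_sup_left fun h =>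
      hvW (h.symm ▸ Submodule.mem_sup_right (Submodule.mem_span_singleton_self v)))
    obtain ⟨a, ha, x, hx, rfl⟩ := Submodule.mem_sup.1 hu
    obtain ⟨c, rfl⟩ := Submodule.mem_span_singleton.1 hx
    rw [MaxSub.quad_add (Q := Q₁), hW a ha, hQ₁.smul, hqv, hf₁.sesq.smul_right,
      hf₁.orth_comm (hv a ha), mul_zero, mul_zero, add_zero, add_zero]
  have hw2 := hf₁.two_finrank_le (polar_of_singular hW)
  have hperp := hf₁.finrank_perp W
  have hbound : Module.finrank F₁ (hf₁.perp W) ≤ Module.finrank F₁ W + 2 := by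
    by_contra hlt
    obtain ⟨z, hz, hzW, hqz⟩ := exists_singular_not_mem hQ₁ (K := hf₁.perp W) (M := W) (by omega)
    exact hzW (han z hz hqz)
  rw [hm] at hw2 hperp
  -- lifting independence
  have lift : ∀ {κ : Type _} [Fintype κ] (v : κ → ι → F₁), LinearIndependent F₁ v →
      LinearIndependent F (fun k => mat P *ᵥ up (v k)) := by
    intro κ _ v hv
    obtain ⟨L, hL⟩ := LinearMap.exists_leftInverse_of_injective (Fintype.linearCombination F₁ v)
      (LinearMap.ker_eq_bot.2 hv.fintypeLinearCombination_injective)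
    refine Fintype.linearIndependent_iff.2 fun g hg k => ?_
    have h0 : ∑ j, g j • up (v j) = 0 := by
      have h1 : mat P *ᵥ ∑ j, g j • up (v j) = 0 := by
        rw [Matrix.mulVec_sum]
        simpa only [Matrix.mulVec_smul] using hg
      exact mulVec_injective P (show mat P *ᵥ (∑ j, g j • up (v j)) = mat P *ᵥ 0 by
        rw [h1, Matrix.mulVec_zero])
    have hLv : ∀ j, ∑ i, ((L (Pi.single i 1) k : F₁) : F) * (v j i : F) = if j = k then 1 else 0 := by
      intro j
      have h1 := congrArg (fun T => T (Pi.single j 1) k) hL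
      simp only [LinearMap.comp_apply, LinearMap.id_apply, Fintype.linearCombination_apply_single,
        one_smul] at h1
      rw [pi_eq_sum_univ' (v j), map_sum, Finset.sum_apply] at h1
      have h3 := congrArg Subtype.val h1
      simp only [map_smul, Pi.smul_apply, smul_eq_mul, AddSubmonoidClass.coe_finsetSum, Subfield.coe_mul] at h3
      rw [Finset.sum_congr rfl fun i _ => mul_comm ((L (Pi.single i 1) k : F₁) : F) (v j i : F), h3]
      rcases eq_or_ne j k with rfl | hjk
      · simp
      · simp [hjk, Ne.symm hjk]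
    have h1 : ∑ i, ((L (Pi.single i 1) k : F₁) : F) * ((∑ j, g j • up (v j)) i) = g k := by
      simp only [Finset.sum_apply, Pi.smul_apply, smul_eq_mul, Finset.mul_sum]
      rw [Finset.sum_comm, Finset.sum_eq_single k]
      · rw [Finset.sum_congr rfl fun i _ => mul_left_comm _ (g k) _, ← Finset.mul_sum]
        simp only [up]
        rw [hLv k, if_pos rfl, mul_one]
      · intro j _ hjk
        rw [Finset.sum_congr rfl fun i _ => mul_left_comm _ (g j) _, ← Finset.mul_sum]
        simp only [up]
        rw [hLv j, if_neg hjk, mul_zero]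
      · exact fun h => absurd (Finset.mem_univ k) h
    rw [h0] at h1
    simpa using h1.symm
  have hquad : ∀ u, Q (mat P *ᵥ up u) = ζ⁻¹ * (Q₁ u : F) := fun u => by
    show _ = ζ⁻¹ * (ζ * Q (mat P *ᵥ up u))
    rw [inv_mul_cancel_left₀ hζ]
  have hB₁ : ∀ u w, B (mat P *ᵥ up u) (mat P *ᵥ up w) = ζ⁻¹ * ((QuadraticMap.polar Q₁ u w : F₁) : F) :=
    fun u w => by rw [hpol, inv_mul_cancel_left₀ hζ]
  let b := Module.finBasis F₁ W
  have hbli : LinearIndependent F₁ (fun k => (b k : ι → F₁)) :=
    b.linearIndependent.map' W.subtype W.ker_subtype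
  let e : Fin (Module.finrank F₁ W) → ι → F := fun k => mat P *ᵥ up (b k : ι → F₁)
  have heQ : ∀ k, Q (e k) = 0 := fun k => by
    rw [hquad, hW _ (b k).2]; simp
  have heB : ∀ j k, B (e j) (e k) = 0 := fun j k => by
    rw [hB₁, polar_of_singular hW _ (b j).2 _ (b k).2]; simp
  have hspanTS : IsTotallySingularQuad Q (Submodule.span F (Set.range e)) := by
    intro x hx
    induction hx using Submodule.span_induction with
    | mem x hx => obtain ⟨k, rfl⟩ := hx; exact heQ k
    | zero => simpa using hQ.smul 0 0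
    | add x y hx hy ihx ihy =>
      rw [MaxSub.quad_add (Q := Q), ihx, ihy]
      obtain ⟨c, rfl⟩ := (Submodule.mem_span_range_iff_exists_fun F).1 hx
      obtain ⟨d, rfl⟩ := (Submodule.mem_span_range_iff_exists_fun F).1 hy
      simp [hf.sesq.sum_left, hf.sesq.sum_right, hf.sesq.smul_left, hf.sesq.smul_right, heB]
    | smul c x _ ih => rw [hQ.smul, ih, mul_zero]
  rw [plus_iff_singular hQ hm]
  by_cases hwm : Module.finrank F₁ W = m
  · exact ⟨_, by rw [finrank_span_eq_card (lift _ hbli), Fintype.card_fin, hwm], hspanTS⟩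
  obtain ⟨x, hx, hxW⟩ : ∃ x ∈ hf₁.perp W, x ∉ W := by
    by_contra hall
    push Not at hall
    have h := Submodule.finrank_mono (hall : hf₁.perp W ≤ W)
    omega
  obtain ⟨y, hy, hyW⟩ : ∃ y ∈ hf₁.perp W, y ∉ W ⊔ Submodule.span F₁ {x} := by
    by_contra hall
    push Not at hall
    have h := Submodule.finrank_mono (hall : hf₁.perp W ≤ W ⊔ Submodule.span F₁ {x})
    have h3 := Submodule.finrank_add_le_finrank_add_finrank W (Submodule.span F₁ {x})
    rw [finrank_span_singleton (fun h : x = 0 => hxW (h ▸ W.zero_mem))] at h3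
    omega
  have hQy : Q₁ y ≠ 0 := fun h => hyW (Submodule.mem_sup_left (han y hy h))
  obtain ⟨t, ht⟩ := exists_root_quadratic h2 (Q₁ x) (QuadraticMap.polar Q₁ x y) (Q₁ y) hQy
  let z : ι → F := mat P *ᵥ up x + t • (mat P *ᵥ up y)
  have hzQ : Q z = 0 := by
    simp only [z]
    rw [MaxSub.quad_add (Q := Q), hQ.smul, hf.sesq.smul_right, RingEquiv.refl_apply, hquad, hquad, hB₁]
    linear_combination ζ⁻¹ * ht
  have hze : ∀ k, B z (e k) = 0 := fun k => by
    simp only [z, e]
    rw [hf.sesq.add_left, hf.sesq.smul_left, hB₁, hB₁, hx _ (b k).2, hy _ (b k).2]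
    simp
  have hli : LinearIndependent F₁ (Sum.elim (fun k => (b k : ι → F₁)) ![x, y]) := by
    refine hbli.sum_type ?_ ?_
    · rw [LinearIndependent.pair_iff]
      intro s r h
      have hr : r = 0 := by
        by_contra hr
        refine hyW ?_
        have h1 : y = (-(r⁻¹ * s)) • x := by
          rw [neg_smul, eq_neg_iff_add_eq_zero, ← smul_zero (r⁻¹), ← h, smul_add, smul_smul, smul_smul,
            inv_mul_cancel₀ hr, one_smul, add_comm]
        rw [h1]
        exact Submodule.mem_sup_right (Submodule.smul_mem _ _ (Submodule.mem_span_singleton_self x))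
      rw [hr, zero_smul, add_zero, smul_eq_zero] at h
      exact ⟨h.resolve_right (fun h => hxW (h ▸ W.zero_mem)), hr⟩
    · rw [disjoint_iff, eq_bot_iff]
      rintro v ⟨hv1, hv2⟩
      have hvW : v ∈ W := Submodule.span_le.2 (by rintro _ ⟨k, rfl⟩; exact (b k).2) hv1
      rw [Matrix.range_cons_cons_empty] at hv2
      obtain ⟨s, r, rfl⟩ := Submodule.mem_span_pair.1 hv2
      have hr : r = 0 := by
        by_contra hr
        refine hyW ?_
        have h1 : y = r⁻¹ • (s • x + r • y) + (-(r⁻¹ * s)) • x := by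
          rw [smul_add, smul_smul, smul_smul, inv_mul_cancel₀ hr, one_smul, neg_smul]; abel
        rw [h1]
        exact Submodule.add_mem_sup (W.smul_mem _ hvW)
          (Submodule.smul_mem _ _ (Submodule.mem_span_singleton_self x))
      subst hr
      rw [zero_smul, add_zero] at hvW ⊢
      by_contra h0
      rw [Submodule.mem_bot] at h0
      exact hxW ((W.smul_mem_iff (fun h => h0 (by rw [h, zero_smul]))).1 hvW)
  have hli' := lift _ hli
  let f : Option (Fin (Module.finrank F₁ W)) → ι → F := fun o => o.elim z e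
  have hfli : LinearIndependent F f := by
    refine Fintype.linearIndependent_iff.2 fun g hg => ?_
    have h1 := Fintype.linearIndependent_iff.1 hli'
      (Sum.elim (fun k => g (some k)) ![g none, g none * t]) (by
        rw [← hg, Fintype.sum_sum_type, Fintype.sum_option, Fin.sum_univ_two]
        simp only [Sum.elim_inl, Sum.elim_inr, Matrix.cons_val_zero, Matrix.cons_val_one, f, Option.elim, e, z,
          smul_add, smul_smul]
        abel)
    rintro (_ | k)
    · simpa using h1 (Sum.inr 0)
    · simpa using h1 (Sum.inl k)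
  refine ⟨Submodule.span F (Set.range f), ?_, ?_⟩
  · rw [finrank_span_eq_card hfli, Fintype.card_option, Fintype.card_fin]
    omega
  · intro u hu
    obtain ⟨c, rfl⟩ := (Submodule.mem_span_range_iff_exists_fun F).1 hu
    rw [Fintype.sum_option, MaxSub.quad_add (Q := Q)]
    simp only [f, Option.elim]
    rw [hQ.smul, hzQ, hspanTS _ (Submodule.sum_mem _ fun k _ =>
        Submodule.smul_mem _ _ (Submodule.subset_span ⟨k, rfl⟩)),
      hf.sesq.sum_right, Finset.sum_eq_zero fun k _ => by
        rw [hf.sesq.smul_left, hf.sesq.smul_right, hze, mul_zero, mul_zero]]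
    ring

end CfsgLib.OrthRational57
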