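import Cfsg.Agent.Aschbacher57.OrthPlanes
import Cfsg.Agent.Aschbacher57.OrthFields
import Cfsg.Agent.Aschbacher57.OrthRational
import Cfsg.Agent.Aschbacher57.SympTwicePrime
import Cfsg.Agent.AschbacherQuad.NotLe
import Cfsg.Agent.Aschbacher.LinearPrime

/-!
The maximal subgroups of the orthogonal groups in dimension ten, up to the residual class: the common part of
both types.
-/

set_option autoImplicit false
set_option maxHeartbeats 1000000
set_option linter.unusedSectionVars false
set_option linter.style.haveILetI false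

namespace CfsgLib.OrthTen57

open Matrix Cfsg.Geo CfsgLib.Aschbacher CfsgLib.AschbacherForms CfsgLib.AschbacherQuad CfsgLib.QuadType57
  CfsgLib.OrthFields57 CfsgLib.OrthRational57
open scoped Kronecker

attribute [-simp] RingEquiv.coe_refl

variable {ι : Type} [Fintype ι] [DecidableEq ι] {F : Type*} [Field F] [Fintype F] {Q : (ι → F) → F}

local notation "B" => QuadraticMap.polar Q

/-- The geometric types and the residual class in dimension ten, with the conditions of both types. -/
inductive TenCase (Q : (ι → F) → F) (H : Subgroup (GL ι F)) : Prop where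
  | singular (W : Submodule F (ι → F)) (h0 : W ≠ ⊥) (hW : IsTotallySingularQuad Q W)
      (h4 : IsPlusTypeOn Q ⊤ → Module.finrank F W ≠ 4) (heq : H = subspaceStabilizer W ⊓ omegaGL Q)
  | oddDim (hq : Odd (Fintype.card F)) (W : Submodule F (ι → F)) (h0 : W ≠ ⊥) (h1 : W ≠ ⊤)
      (hd : Odd (Module.finrank F W)) (h5 : 2 * Module.finrank F W ≠ 10) (hW : IsNondegenerateOn (QuadraticMap.polar Q) W)
      (heq : H = subspaceStabilizer W ⊓ omegaGL Q)
  | planeMinus (W : Submodule F (ι → F)) (hd : Module.finrank F W = 2) (hW : IsNondegenerateOn (QuadraticMap.polar Q) W)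
      (hp : ¬ IsPlusTypeOn Q W) (heq : H = subspaceStabilizer W ⊓ omegaGL Q)
  | planePlus (hq : 4 ≤ Fintype.card F) (W : Submodule F (ι → F)) (hd : Module.finrank F W = 2)
      (hW : IsNondegenerateOn (QuadraticMap.polar Q) W) (hp : IsPlusTypeOn Q W) (heq : H = subspaceStabilizer W ⊓ omegaGL Q)
  | four (W : Submodule F (ι → F)) (hd : Module.finrank F W = 4) (hW : IsNondegenerateOn (QuadraticMap.polar Q) W)
      (heq : H = subspaceStabilizer W ⊓ omegaGL Q)
  | vector (hq : ¬ Odd (Fintype.card F)) (v : ι → F) (hv : Q v ≠ 0)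
      (heq : H = subspaceStabilizer (Submodule.span F {v}) ⊓ omegaGL Q)
  | lines (p : ℕ) (hp : p.Prime) (hq : Fintype.card F = p) (hplus : IsPlusTypeOn Q ⊤ → p % 4 = 1)
      (hminus : ¬ IsPlusTypeOn Q ⊤ → p % 4 = 3) (D : Fin 10 → Submodule F (ι → F))
      (hD : IsOrthogonalMDecomposition Q 1 D) (heq : H = decompositionStabilizer D ⊓ omegaGL Q)
  | planes (hplus : IsPlusTypeOn Q ⊤ → 7 ≤ Fintype.card F) (hminus : ¬ IsPlusTypeOn Q ⊤ → Fintype.card F ≠ 3)
      (D : Fin 5 → Submodule F (ι → F)) (hD : IsOrthogonalMDecomposition Q 2 D)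
      (heq : H = decompositionStabilizer D ⊓ omegaGL Q)
  | halves (hplus : IsPlusTypeOn Q ⊤ → Fintype.card F % 4 = 1)
      (hminus : ¬ IsPlusTypeOn Q ⊤ → Fintype.card F % 4 = 3) (D : Fin 2 → Submodule F (ι → F))
      (hD : IsOrthogonalMDecomposition Q 5 D) (heq : H = decompositionStabilizer D ⊓ omegaGL Q)
  | halvesNon (hplus : IsPlusTypeOn Q ⊤ → Fintype.card F % 4 = 3)
      (hminus : ¬ IsPlusTypeOn Q ⊤ → Fintype.card F % 4 = 1) (D : Fin 2 → Submodule F (ι → F))
      (hD : IsNondegenerateMDecomposition (QuadraticMap.polar Q) 5 D) (hiso : ¬ AreIsometricFor Q (D 0) (D 1))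
      (heq : H = decompositionStabilizer D ⊓ omegaGL Q)
  | fieldSelfAdjoint (hq : Odd (Fintype.card F)) (K : Subalgebra F (Matrix ι ι F)) (hK : IsFieldSubalgebra 2 K)
      (hs : IsSelfAdjointFor (QuadraticMap.polar Q) K) (heq : H = subalgebraNormalizer K ⊓ omegaGL Q)
  | fieldUnitary (hminus : ¬ IsPlusTypeOn Q ⊤) (K : Subalgebra F (Matrix ι ι F)) (hK : IsFieldSubalgebra 2 K)
      (hc : IsAdjointClosedFor (QuadraticMap.polar Q) K) (hs : ¬ IsSelfAdjointFor (QuadraticMap.polar Q) K)
      (hscale : ∀ k ∈ K, ∃ c : F, ∀ v : ι → F, Q (k *ᵥ v) = c * Q v)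
      (heq : H = subalgebraNormalizer K ⊓ omegaGL Q)
  | subfield (F₀ : Subfield F) (r : ℕ) (P : GL ι F) (ζ : F) (hr : r.Prime)
      (hcard : Fintype.card F = Nat.card F₀ ^ r) (hodd : ¬ IsPlusTypeOn Q ⊤ → Odd r) (hζ : ζ ≠ 0)
      (hrat : IsQuadFormRationalStructure (fun v : ι → F => ζ * Q v) F₀ P)
      (heq : H = subfieldSubgroup F₀ P ⊓ omegaGL Q)
  | residual (h : InOrthogonalResidualClass H)

section char

theorem two_ne_zero_iff_odd : (2 : F) ≠ 0 ↔ Odd (Fintype.card F) := by
  refine ⟨fun h => ?_, CfsgLib.MaxSub.two_ne_zero_of_odd⟩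
  by_contra hodd
  exact h (CfsgLib.AschbacherSymplectic57.two_eq_zero_of_not_odd hodd)

theorem mod_four_of_isSquare (hq : Odd (Fintype.card F)) (h : IsSquare (-1 : F)) :
    Fintype.card F % 4 = 1 := by
  have := FiniteField.isSquare_neg_one_iff.1 h
  obtain ⟨k, hk⟩ := hq
  omega

theorem mod_four_of_not_isSquare (h : ¬ IsSquare (-1 : F)) : Fintype.card F % 4 = 3 := by
  by_contra hne
  exact h (FiniteField.isSquare_neg_one_iff.2 hne)

/-- In characteristic two a self-adjoint field gives alternating twisted forms. -/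
theorem selfAdjoint_alternating (hQ : IsNondegenerateQuadraticForm Q) (h2 : (2 : F) = 0) {r : ℕ}
    {K : Subalgebra F (Matrix ι ι F)} (hK : IsFieldSubalgebra r K)
    (hadj : ∀ k ∈ K, adj (RingEquiv.refl F) (B) k = k) : ∀ k ∈ K, ∀ v : ι → F, B (k *ᵥ v) v = 0 := by
  intro k hk v
  have hf := isReflexive_polar hQ
  let sq : K → K := fun x => x * x
  have hinj : Function.Injective sq := by
    rintro ⟨x, hx⟩ ⟨y, hy⟩ h
    have h' : x * x = y * y := congrArg Subtype.val h
    by_contra hne
    obtain ⟨z, -, hxyz⟩ := hK.inv _ (K.sub_mem hx hy) (sub_ne_zero.2 fun h => hne (Subtype.ext h))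
    have h3 : (x - y) * (x - y) = 0 := by
      rw [sub_mul, mul_sub, mul_sub, hK.comm y hy x hx, h']
      have h4 : (2 : F) • (y * y - x * y) = 0 := by rw [h2, zero_smul]
      rw [two_smul] at h4
      linear_combination (norm := abel) h4
    have h5 := congrArg (fun M => M * z) h3
    simp only [mul_assoc, hxyz, mul_one, zero_mul] at h5
    exact hne (Subtype.ext (sub_eq_zero.1 h5))
  haveI : Finite K := Finite.of_injective (Subtype.val : K → _) Subtype.val_injective
  obtain ⟨⟨l, hl⟩, hlk⟩ := (Finite.injective_iff_surjective.1 hinj) ⟨k, hk⟩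
  have hlk' : l * l = k := congrArg Subtype.val hlk
  rw [← hlk', ← Matrix.mulVec_mulVec, hf.adj_spec, hadj l hl, quad_polar_self hQ, h2, zero_mul]

/-- In characteristic two a subspace of odd dimension is degenerate. -/
theorem not_nondegenerate_of_odd (hQ : IsNondegenerateQuadraticForm Q) (h2 : (2 : F) = 0)
    {W : Submodule F (ι → F)} (hW : Odd (Module.finrank F W)) : ¬ IsNondegenerateOn (B) W := by
  intro hnd
  refine Nat.not_even_iff_odd.2 hW (CfsgLib.CharTwo.even_finrank_of_isAlt _
    ((polB hQ).domRestrict₁₂ W W) rfl (fun x => ?_) fun x hx => ?_)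
  · show B (x : ι → F) (x : ι → F) = 0
    rw [quad_polar_self hQ, h2, zero_mul]
  · by_contra h0
    obtain ⟨-, y, hy, hxy⟩ := hnd x.1 x.2 (fun h => h0 (Subtype.ext h))
    exact hxy (hx ⟨y, hy⟩)

/-- A totally isotropic subspace in odd characteristic is totally singular. -/
theorem singular_of_isotropic (hQ : IsNondegenerateQuadraticForm Q) (h2 : (2 : F) ≠ 0)
    {W : Submodule F (ι → F)} (hW : IsTotallySingularFor (B) W) : IsTotallySingularQuad Q W := fun w hw =>
  (mul_eq_zero.1 ((quad_polar_self hQ w).symm.trans (hW w hw w hw))).resolve_left h2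

end char

variable {H : Subgroup (GL ι F)}

/-- Decompositions into two halves. -/
theorem two_halves (hQ : IsNondegenerateQuadraticForm Q) (h10 : Fintype.card ι = 10)
    (hH : IsMaximalIn (omegaGL Q) H) {D : Fin 2 → Submodule F (ι → F)}
    (hD : IsNondegenerateMDecomposition (B) 5 D) (hle : H ≤ decompositionStabilizer D) : TenCase Q H := by
  have hodd5 : Odd 5 := by decide
  by_cases h2 : (2 : F) = 0
  · exact absurd (hD.nondegenerate 0)
      (not_nondegenerate_of_odd hQ h2 (by rw [hD.decomp.finrank_eq]; exact hodd5))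
  have hq := two_ne_zero_iff_odd.1 h2
  have heq := eq_inf_of_maximal hH hle
    (not_le_decompositionStabilizer hQ (by omega) hD.decomp (Or.inr h2))
  obtain ⟨hiso, hnon⟩ := halves_type hQ h2 (m := 5) (by omega) hodd5 hD
  by_cases h : AreIsometricFor Q (D 0) (D 1)
  · refine .halves (fun hp => mod_four_of_isSquare hq ((hiso h).1 hp))
      (fun hp => mod_four_of_not_isSquare fun hs => hp ((hiso h).2 hs)) D ⟨hD, fun i j => ?_⟩ heq
    have hself : ∀ W : Submodule F (ι → F), AreIsometricFor Q W W := fun W =>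
      ⟨LinearEquiv.refl F W, fun _ => rfl⟩
    obtain ⟨e, he⟩ := h
    fin_cases i <;> fin_cases j
    · exact hself _
    · exact ⟨e, he⟩
    · exact ⟨e.symm, fun w => by
        have h1 := he (e.symm w)
        rw [LinearEquiv.apply_symm_apply] at h1
        exact h1.symm⟩
    · exact hself _
  · exact .halvesNon (fun hp => mod_four_of_not_isSquare ((hnon h).1 hp))
      (fun hp => mod_four_of_isSquare hq (by_contra fun hs => hp ((hnon h).2 hs))) D hD h heq

theorem not_le_subfield (hQ : IsNondegenerateQuadraticForm Q) (h10 : Fintype.card ι = 10) {F₀ : Subfield F}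
    {r : ℕ} (hr : r.Prime) (hcard : Fintype.card F = Nat.card F₀ ^ r) (P : GL ι F) :
    ¬ omegaGL Q ≤ subfieldSubgroup F₀ P := by
  refine not_le_subfieldSubgroup hQ (by omega) ?_ P
  rintro rfl
  rw [Nat.card_congr (Subfield.topEquiv (K := F)).toEquiv, Nat.card_eq_fintype_card] at hcard
  have h3 := Nat.pow_lt_pow_right (Fintype.one_lt_card (α := F)) hr.one_lt
  rw [pow_one] at h3
  omega

/-- Decompositions into ten lines. -/
theorem ten_lines (hQ : IsNondegenerateQuadraticForm Q) (h10 : Fintype.card ι = 10)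
    (hH : IsMaximalIn (omegaGL Q) H) {D : Fin 10 → Submodule F (ι → F)}
    (hD : IsOrthogonalMDecomposition Q 1 D) (hle : H ≤ decompositionStabilizer D) : TenCase Q H := by
  have h2 : (2 : F) ≠ 0 := fun h2 =>
    not_nondegenerate_of_odd hQ h2 (by rw [hD.decomp.decomp.finrank_eq]; exact odd_one) (hD.decomp.nondegenerate 0)
  obtain ⟨hiff, hsub⟩ := monomial_cases hQ h2 (m := 5) (by decide) (by omega) (fixes_of_le hH.1.le).1 hD hle
  by_cases hq : (Fintype.card F).Prime
  · have hodd := two_ne_zero_iff_odd.1 h2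
    exact .lines _ hq rfl (fun hp => mod_four_of_isSquare hodd (hiff.1 hp))
      (fun hp => mod_four_of_not_isSquare fun hs => hp (hiff.2 hs)) D hD
      (eq_inf_of_maximal hH hle (not_le_decompositionStabilizer hQ (by omega) hD.decomp.decomp (Or.inr h2)))
  · obtain ⟨F₁, r, P, ζ, hr, hodd, hcard, hζ, hrat, hle⟩ := hsub hq
    exact .subfield F₁ r P ζ hr hcard (fun hp => hodd fun hs => hp (hiff.2 hs)) hζ hrat
      (eq_inf_of_maximal hH hle (not_le_subfield hQ h10 hr hcard P))

/-- Quadratic fields that are not self-adjoint. -/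
theorem field_two (hQ : IsNondegenerateQuadraticForm Q) (h10 : Fintype.card ι = 10)
    (hH : IsMaximalIn (omegaGL Q) H) (hirr : ActsIrreducibly (matrixSet H)) {K : Subalgebra F (Matrix ι ι F)}
    (hK : IsFieldSubalgebra 2 K) (hle : H ≤ subalgebraNormalizer K)
    (hadj : ∀ k ∈ K, adj (RingEquiv.refl F) (B) k ∈ K) (hne : ∃ k ∈ K, adj (RingEquiv.refl F) (B) k ≠ k) :
    TenCase Q H := by
  have hf := isReflexive_polar hQ
  obtain ⟨hscale, hminus⟩ := unitary_field hQ (m := 5) (by decide) (by norm_num) (by omega)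
    (fixes_of_le hH.1.le).1 hirr hK hle hadj hne
  refine .fieldUnitary hminus K hK (fun k hk => ⟨_, hadj k hk, fun u v => hf.adj_spec k u v⟩)
    (fun hs => ?_) hscale (eq_inf_of_maximal hH hle (not_le_subalgebraNormalizer hQ (by omega) le_rfl hK))
  obtain ⟨k, hk, hk'⟩ := hne
  exact hk' (hf.adj_unique fun u v => hs k hk u v).symm

/-- Reducible subgroups. -/
theorem reducible (hQ : IsNondegenerateQuadraticForm Q) (h10 : Fintype.card ι = 10)
    (hH : IsMaximalIn (omegaGL Q) H) (hirr : ¬ ActsIrreducibly (matrixSet H)) : TenCase Q H := by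
  classical
  have hf := isReflexive_polar hQ
  have hHO : H ≤ omegaGL Q := hH.1.le
  have heq : ∀ {X : Submodule F (ι → F)}, H ≤ subspaceStabilizer X → X ≠ ⊥ → X ≠ ⊤ →
      H = subspaceStabilizer X ⊓ omegaGL Q := fun hle h0 h1 =>
    eq_inf_of_maximal hH hle (not_le_subspaceStabilizer hQ (by omega) h0 h1)
  rw [actsIrreducibly_iff] at hirr
  push Not at hirr
  obtain ⟨W, hW, hW0, hW1⟩ := hirr
  have hWp : H ≤ subspaceStabilizer (hf.perp W) := fun g hg =>
    hf.stabilizer_perp (fun u v => (fixes_of_le hHO).2 _ (mem_matrixSet hg) u v) (hW hg)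
  have hsing : ∀ {U : Submodule F (ι → F)}, U ≠ ⊥ → IsTotallySingularQuad Q U → H ≤ subspaceStabilizer U →
      TenCase Q H := by
    intro U hU0 hU hle
    have htop : ∀ {X : Submodule F (ι → F)}, IsTotallySingularQuad Q X → X ≠ ⊤ := by
      rintro X hX rfl
      have h := hf.two_finrank_le (polar_of_singular hX)
      rw [finrank_top, Module.finrank_fintype_fun_eq_card] at h
      omega
    by_cases h4 : IsPlusTypeOn Q ⊤ ∧ Module.finrank F U = 4
    · obtain ⟨X, hX, hXd, hXle⟩ := exists_maximal_fixed hQ (m := 5) (by omega) (by norm_num) h4.1 hHO hU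
        (by omega) hle
      have hX0 : X ≠ ⊥ := fun h => by rw [h, finrank_bot] at hXd; omega
      exact .singular X hX0 hX (fun _ => by omega) (heq hXle hX0 (htop hX))
    · exact .singular U hU0 hU (fun hp he => h4 ⟨hp, he⟩) (heq hle hU0 (htop hU))
  by_cases hrad : W ⊓ hf.perp W = ⊥
  swap
  · have hR : H ≤ subspaceStabilizer (W ⊓ hf.perp W) := fun g hg =>
      mem_subspaceStabilizer_iff.2 fun w hw =>
        ⟨mem_subspaceStabilizer_iff.1 (hW hg) w hw.1, mem_subspaceStabilizer_iff.1 (hWp hg) w hw.2⟩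
    have hiso : IsTotallySingularFor (B) (W ⊓ hf.perp W) := fun u hu v hv => hu.2 v hv.1
    by_cases h2 : (2 : F) = 0
    swap
    · exact hsing hrad (singular_of_isotropic hQ h2 hiso) hR
    let R₀ : Submodule F (ι → F) :=
      { carrier := {v | v ∈ W ⊓ hf.perp W ∧ Q v = 0}
        add_mem' := fun {u v} hu hv => ⟨add_mem hu.1 hv.1, by
          rw [MaxSub.quad_add (Q := Q), hu.2, hv.2, hiso u hu.1 v hv.1, add_zero, add_zero]⟩
        zero_mem' := ⟨zero_mem _, quad_zero hQ⟩
        smul_mem' := fun c v hv => ⟨Submodule.smul_mem _ c hv.1, by rw [hQ.smul, hv.2, mul_zero]⟩ }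
    by_cases h0 : R₀ = ⊥
    swap
    · refine hsing h0 (fun v hv => hv.2) fun g hg => mem_subspaceStabilizer_iff.2 fun v hv => ?_
      exact ⟨mem_subspaceStabilizer_iff.1 (hR hg) v hv.1, by
        rw [isometry_of_omega (hHO hg)]; exact hv.2⟩
    obtain ⟨v, hv, hv0⟩ := Submodule.exists_mem_ne_zero_of_ne_bot hrad
    have hq0 : ∀ w ∈ W ⊓ hf.perp W, Q w = 0 → w = 0 := fun w hw hqw => by
      have h1 : w ∈ R₀ := ⟨hw, hqw⟩
      rwa [h0, Submodule.mem_bot] at h1
    have hv1 : Q v ≠ 0 := fun h => hv0 (hq0 v hv h)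
    have hspan : W ⊓ hf.perp W = Submodule.span F {v} := by
      refine le_antisymm (fun w hw => ?_) ((Submodule.span_singleton_le_iff_mem _ _).2 hv)
      have hchar : ringChar F = 2 := by
        haveI := CharTwo.of_one_ne_zero_of_two_eq_zero one_ne_zero h2
        exact ringChar.eq F 2
      obtain ⟨c, hc⟩ := FiniteField.isSquare_of_char_two (F := F) hchar (Q w / Q v)
      refine Submodule.mem_span_singleton.2 ⟨c, (sub_eq_zero.1 (hq0 (w - c • v)
        (sub_mem hw (Submodule.smul_mem _ c hv)) ?_)).symm⟩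
      have h3 : Q (w - c • v) = Q w + c ^ 2 * Q v - c * B w v := by
        rw [sub_eq_add_neg, ← neg_smul, MaxSub.quad_add (Q := Q), hQ.smul, hf.sesq.smul_right,
          RingEquiv.refl_apply]
        ring
      rw [h3, hiso w hw v hv, mul_zero, sub_zero, pow_two, ← hc, div_mul_cancel₀ _ hv1]
      linear_combination Q w * h2
    rw [hspan] at hR
    have hs0 : Submodule.span F {v} ≠ ⊥ := by simpa using hv0
    exact .vector (fun hq => two_ne_zero_iff_odd.2 hq h2) v hv1 (heq hR hs0 fun h => by
      have h1 := congrArg (fun X : Submodule F (ι → F) => Module.finrank F X) h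
      simp only [finrank_span_singleton hv0, finrank_top, Module.finrank_fintype_fun_eq_card] at h1
      omega)
  -- non-degenerate subspaces
  obtain ⟨U, hU, hnd, hU5, hU0⟩ : ∃ U : Submodule F (ι → F), H ≤ subspaceStabilizer U ∧
      IsNondegenerateOn (B) U ∧ Module.finrank F U ≤ 5 ∧ U ≠ ⊥ := by
    have hnd := hf.isNondegenerateOn_iff.2 hrad
    have hdim := hf.finrank_perp W
    by_cases h : Module.finrank F W ≤ 5
    · exact ⟨W, hW, hnd, h, hW0⟩
    · refine ⟨hf.perp W, hWp, hf.isNondegenerateOn_perp hnd, by omega, fun h0 => hW1 ?_⟩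
      rw [← hf.perp_perp W, h0]
      exact eq_top_iff.2 fun x _ w hw => by rw [(Submodule.mem_bot F).1 hw, hf.zero_right]
  have hU1 : U ≠ ⊤ := fun h => by
    rw [h, finrank_top, Module.finrank_fintype_fun_eq_card] at hU5
    omega
  have hpos : 0 < Module.finrank F U := Nat.pos_of_ne_zero fun h => hU0 (Submodule.finrank_eq_zero.1 h)
  by_cases hodd : Odd (Module.finrank F U)
  · have hq : Odd (Fintype.card F) :=
      two_ne_zero_iff_odd.1 fun h2 => not_nondegenerate_of_odd hQ h2 hodd hnd
    by_cases h5 : Module.finrank F U = 5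
    swap
    · exact .oddDim hq U hU0 hU1 hodd (by omega) hnd (heq hU hU0 hU1)
    have hrad' : U ⊓ hf.perp U = ⊥ := hf.isNondegenerateOn_iff.1 hnd
    have hperp := hf.finrank_perp U
    have hUp : H ≤ subspaceStabilizer (hf.perp U) := fun g hg =>
      hf.stabilizer_perp (fun u v => (fixes_of_le hHO).2 _ (mem_matrixSet hg) u v) (hU hg)
    have hdec : IsMDecomposition 5 ![U, hf.perp U] := by
      refine ⟨le_rfl, by norm_num, fun i => ?_, ?_, ?_⟩
      · fin_cases i
        · show Module.finrank F U = 5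
          omega
        · show Module.finrank F (hf.perp U) = 5
          omega
      · rw [iSupIndep_pair (i := (0 : Fin 2)) (j := 1) (by decide) (fun i => by fin_cases i <;> simp)]
        simpa [disjoint_iff] using hrad'
      · rw [eq_top_iff, ← hf.sup_perp hnd]
        exact sup_le (le_iSup ![U, hf.perp U] 0) (le_iSup ![U, hf.perp U] 1)
    refine two_halves hQ h10 hH ⟨hdec, fun i => ?_, fun i j hij => ?_⟩ fun g hg =>
      mem_decompositionStabilizer_of hdec fun i => ⟨i, ?_⟩
    · fin_cases i
      · simpa using hnd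
      · simpa using hf.isNondegenerateOn_perp hnd
    · fin_cases i <;> fin_cases j
      · exact absurd rfl hij
      · exact fun u hu v hv => hf.orth_comm ((hv : v ∈ hf.perp U) u hu)
      · exact fun u hu v hv => (hu : u ∈ hf.perp U) v hv
      · exact absurd rfl hij
    · fin_cases i
      · exact fun w hw => mem_subspaceStabilizer_iff.1 (hU hg) w hw
      · exact fun w hw => mem_subspaceStabilizer_iff.1 (hUp hg) w hw
  · obtain ⟨k, hk⟩ := Nat.not_odd_iff_even.1 hodd
    by_cases h4 : Module.finrank F U = 4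
    · exact .four U h4 hnd (heq hU hU0 hU1)
    have h2d : Module.finrank F U = 2 := by omega
    by_cases hp : IsPlusTypeOn Q U
    swap
    · exact .planeMinus U h2d hnd hp (heq hU hU0 hU1)
    by_cases hq4 : 4 ≤ Fintype.card F
    · exact .planePlus hq4 U h2d hnd hp (heq hU hU0 hU1)
    obtain ⟨e, he, f, hf', hqe, hqf, hef, hcov⟩ := plane_hyperbolic hQ h2d hnd hp
    have hv1 : Q (e + f) = 1 := by
      have h := quad_hyperbolic hQ hqe hqf hef 1 1
      simpa using h
    have hv0 : e + f ≠ 0 := fun h => by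
      rw [h, quad_zero hQ] at hv1
      exact zero_ne_one hv1
    have hlineTop : Submodule.span F {e + f} ≠ ⊤ := fun h => by
      have h1 := congrArg (fun X : Submodule F (ι → F) => Module.finrank F X) h
      simp only [finrank_span_singleton hv0, finrank_top, Module.finrank_fintype_fun_eq_card] at h1
      omega
    have hline0 : Submodule.span F {e + f} ≠ ⊥ := by simpa using hv0
    have hq23 : Fintype.card F = 2 ∨ Fintype.card F = 3 := by
      have := Fintype.one_lt_card (α := F)
      omega
    have hline : H ≤ subspaceStabilizer (Submodule.span F {e + f}) := fun g hg =>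
      mem_subspaceStabilizer_iff.2 fun w hw => by
        obtain ⟨c, rfl⟩ := Submodule.mem_span_singleton.1 hw
        rw [Matrix.mulVec_smul]
        refine Submodule.smul_mem _ c ?_
        obtain ⟨a, b, hab⟩ := hcov _ (mem_subspaceStabilizer_iff.1 (hU hg) _ (add_mem he hf'))
        have h1 : a * b = 1 := by
          rw [← quad_hyperbolic hQ hqe hqf hef a b, ← hab, isometry_of_omega (hHO hg), hv1]
        have ha : a ≠ 0 := left_ne_zero_of_mul_eq_one h1
        have hab' : a = b := by
          have h3 : a * a = 1 := by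
            rcases hq23 with hq | hq
            · have := FiniteField.pow_card_sub_one_eq_one a ha
              rw [hq] at this
              simp only [Nat.add_one_sub_one, pow_one] at this
              rw [this, mul_one]
            · have := FiniteField.pow_card_sub_one_eq_one a ha
              rwa [hq, Nat.add_one_sub_one, pow_two] at this
          exact mul_left_cancel₀ ha (h3.trans h1.symm)
        rw [hab, ← hab', ← smul_add]
        exact Submodule.smul_mem _ a (Submodule.mem_span_singleton_self _)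
    rcases hq23 with hq | hq
    · exact .vector (by rw [hq]; decide) (e + f) (by rw [hv1]; exact one_ne_zero) (heq hline hline0 hlineTop)
    · have hodd3 : Odd (Fintype.card F) := by rw [hq]; decide
      refine .oddDim hodd3 _ hline0 hlineTop (by rw [finrank_span_singleton hv0]; exact odd_one)
        (by rw [finrank_span_singleton hv0]; norm_num) (fun w hw hw0 => ?_) (heq hline hline0 hlineTop)
      obtain ⟨c, rfl⟩ := Submodule.mem_span_singleton.1 hw
      have hc : c ≠ 0 := fun h => hw0 (by rw [h, zero_smul])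
      have hb : B (e + f) (e + f) ≠ 0 := by
        rw [quad_polar_self hQ, hv1, mul_one]
        exact two_ne_zero_iff_odd.2 hodd3
      refine ⟨⟨e + f, Submodule.mem_span_singleton_self _, ?_⟩, ⟨e + f, Submodule.mem_span_singleton_self _, ?_⟩⟩
      · rw [hf.sesq.smul_right, RingEquiv.refl_apply]
        exact mul_ne_zero hc hb
      · rw [hf.sesq.smul_left]
        exact mul_ne_zero hc hb

/-- Almost simple subgroups. -/
theorem core (hQ : IsNondegenerateQuadraticForm Q) (h10 : Fintype.card ι = 10)
    (hH : IsMaximalIn (omegaGL Q) H) {P : Subgroup (GL ι F)} (hP : IsSimpleCore H P) : TenCase Q H := by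
  classical
  haveI : Nonempty ι := Fintype.card_pos_iff.1 (by omega)
  have hf := isReflexive_polar hQ
  obtain ⟨hPQ, hPfix⟩ := fixes_of_le (hP.le.trans hH.1.le)
  by_cases hreal : ∃ F₀ : Subfield F, F₀ ≠ ⊤ ∧ RealisableOver F₀ (matrixSet P)
  · obtain ⟨F₀, h0, hreal⟩ := hreal
    obtain ⟨F₁, r, C, ζ, hr, hcard, hζ, hrat, hle⟩ :=
      exists_form_subfield hf h0 hP.normal hP.absIrred hPfix hreal
    have hrat' := quad_rational hQ (by omega) hP.perfect hP.absIrred.1 hPQ hrat (hP.le.trans hle)
    refine .subfield F₁ r C ζ hr hcard (fun hminus => hr.eq_two_or_odd'.resolve_left ?_) hζ hrat'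
      (eq_inf_of_maximal hH hle (not_le_subfield hQ h10 hr hcard C))
    rintro rfl
    exact hminus (plus_of_rational_sq hQ (m := 5) (by omega) hcard hζ hrat')
  refine .residual ⟨P, hP.toResidualCore fun F₀ h0 hr => hreal ⟨F₀, h0, hr⟩, ?_⟩
  rintro ⟨σ, f, hf', hfix'⟩
  exact hreal (realisable_of_two_forms hf hf' hP.absIrred hPfix hfix')

/-- Tensor products of a plane and a five-dimensional space. -/
theorem tensor (hQ : IsNondegenerateQuadraticForm Q) (h10 : Fintype.card ι = 10)
    (hH : IsMaximalIn (omegaGL Q) H) (hirr : ActsIrreducibly (matrixSet H))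
    (ht : HasFormTensorOf (RingEquiv.refl F) (B) H 2 5) : TenCase Q H := by
  classical
  haveI : Nonempty ι := Fintype.card_pos_iff.1 (by omega)
  have hf := isReflexive_polar hQ
  have hfix := (fixes_of_le hH.1.le).2
  obtain ⟨e, P, S, T, hS, hT, hle, hform⟩ := ht
  obtain ⟨a, b, -, hSa, hTb, hab⟩ := factors_reflexive hf hS.ne_zero hT.ne_zero hform
  rw [show Sᵀ.map (RingEquiv.refl F) = Sᵀ from Matrix.ext fun _ _ => rfl] at hSa
  rw [show Tᵀ.map (RingEquiv.refl F) = Tᵀ from Matrix.ext fun _ _ => rfl] at hTb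
  have hdet : T.det ≠ 0 := ((Matrix.isUnit_iff_isUnit_det _).1 hT).ne_zero
  have hb1 : b = 1 ∨ b = -1 := by
    obtain ⟨i, j, hij⟩ : ∃ i j, T i j ≠ 0 := by
      by_contra hn
      push Not at hn
      exact hT.ne_zero (Matrix.ext hn)
    have e1 : T j i = b * T i j := congrFun (congrFun hTb i) j
    have e2 : T i j = b * T j i := congrFun (congrFun hTb j) i
    have h3 : (b * b - 1) * T i j = 0 := by linear_combination -e2 - b * e1
    exact mul_self_eq_one_iff.1 (sub_eq_zero.1 ((mul_eq_zero.1 h3).resolve_right hij))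
  by_cases h2 : (2 : F) = 0
  · exfalso
    have hTs : Tᵀ = T := by
      rcases hb1 with rfl | rfl
      · rw [hTb, one_smul]
      · rw [hTb, show (-1 : F) = 1 by linear_combination -h2, one_smul]
    have hdiag := left_factor_alternating hf hfix hirr h2 (by norm_num : 2 ≤ 5) (by norm_num)
      (hle.trans (tensorProductSubgroup_swap e P)) hT.ne_zero hS.ne_zero (formTensor_swap hform)
    have heven := CfsgLib.CharTwo.even_finrank_of_isAlt _ (Matrix.toLinearMap₂' F T) (Module.finrank_fin_fun F)
      (fun x => by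
        rw [Matrix.toLinearMap₂'_apply']
        exact formOf_self_of_diag h2 hTs hdiag x)
      fun x hx => by
        have h1 : x ᵥ* T = 0 := funext fun i => by
          have h3 := hx (Pi.single i 1)
          rw [Matrix.toLinearMap₂'_apply', Matrix.dotProduct_mulVec, dotProduct_single, mul_one] at h3
          exact h3
        exact Matrix.eq_zero_of_vecMul_eq_zero hdet h1
    exact absurd heven (by decide)
  obtain rfl : b = 1 := hb1.resolve_right fun h => by
    subst h
    have h1 := congrArg Matrix.det hTb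
    rw [Matrix.det_transpose, neg_one_smul, Matrix.det_neg, Fintype.card_fin] at h1
    have h0 : (2 : F) * T.det = 0 := by linear_combination h1
    exact hdet ((mul_eq_zero.1 h0).resolve_left h2)
  have hSs : Sᵀ = S := by
    rw [mul_one, mul_one] at hab
    rw [hSa, hab, one_smul]
  rcases binary_factor_dichotomy hf h2 hfix hirr hS hT hSs hle hform with
    ⟨m, D, hD, hm, hts, hleD⟩ | ⟨K, hK, hc, hs, hleK, -⟩
  · obtain rfl : m = 5 := by omega
    exact (not_pair hQ (by omega) (by decide) hH.1.le hirr hD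
      (fun i => singular_of_isotropic hQ h2 (hts i)) hleD).elim
  · have hadj : ∀ k ∈ K, adj (RingEquiv.refl F) (B) k ∈ K := fun k hk => by
      obtain ⟨k', hk', h⟩ := hc k hk
      exact hf.adj_unique h ▸ hk'
    refine field_two hQ h10 hH hirr hK hleK hadj ?_
    by_contra hall
    push Not at hall
    exact hs fun k hk u v => by rw [hf.adj_spec, hall k hk]

/-- The maximal subgroups of an orthogonal group in dimension ten. -/
theorem ten_cases (hQ : IsNondegenerateQuadraticForm Q) (h10 : Fintype.card ι = 10)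
    (hH : IsMaximalIn (omegaGL Q) H) : TenCase Q H := by
  classical
  haveI : Nonempty ι := Fintype.card_pos_iff.1 (by omega)
  by_cases hirr : ActsIrreducibly (matrixSet H)
  swap
  · exact reducible hQ h10 hH hirr
  have hf := isReflexive_polar hQ
  obtain ⟨hQH, hfix⟩ := fixes_of_le hH.1.le
  have hodd5 : Odd 5 := by decide
  rcases CfsgLib.AschbacherSymplectic57.star_reduction_twice_prime (p := 5) (by norm_num) hodd5
      (by omega) hf hfix hirr with ⟨t, k, D, hD, htk, hle⟩ | ⟨D, hD, -, hle, hquad⟩ |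
    ⟨r, K, hr, hK, hle, hadj⟩ | ht | ⟨P, hP⟩
  · have hD' : IsOrthogonalMDecomposition Q k D :=
      ⟨hD, (isometric_of_irreducible hQH hirr hD.decomp hle).1⟩
    rcases htk with ⟨rfl, rfl⟩ | ⟨rfl, rfl⟩ | ⟨rfl, rfl⟩
    · exact ten_lines hQ h10 hH hD' hle
    · obtain ⟨hp, hm⟩ := planes_cases hQ h10 hQH hirr hD' hle
      have hne := not_le_decompositionStabilizer hQ (by omega) hD.decomp (Or.inl le_rfl)
      by_cases hplus : IsPlusTypeOn Q ⊤
      · rcases hp hplus with h | ⟨-, D', hD'', hle'⟩ | ⟨F₁, P, hcard, hrat, hle'⟩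
        · exact .planes (fun _ => h) (absurd hplus) D hD' (eq_inf_of_maximal hH hle hne)
        · exact ten_lines hQ h10 hH hD'' hle'
        · refine .subfield F₁ 2 P 1 Nat.prime_two hcard (absurd hplus) one_ne_zero ?_
            (eq_inf_of_maximal hH hle' (not_le_subfield hQ h10 Nat.prime_two hcard P))
          simpa only [one_mul] using hrat
      · rcases hm hplus with h | ⟨-, D', hD'', hle'⟩
        · exact .planes (fun hp => absurd hp hplus) (fun _ => h) D hD' (eq_inf_of_maximal hH hle hne)
        · exact ten_lines hQ h10 hH hD'' hle'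
    · exact two_halves hQ h10 hH hD hle
  · exact (not_pair hQ (by omega) hodd5 hH.1.le hirr hD (hquad Q hQ (fun _ _ => rfl) hQH) hle).elim
  · by_cases hsa : ∀ x ∈ K, adj (RingEquiv.refl F) (B) x = x
    · rcases hr with rfl | rfl
      · by_cases h2 : (2 : F) = 0
        · obtain ⟨n, hn, c, rfl⟩ := CfsgLib.AschbacherSymplectic57.dvd_half_of_selfAdjoint hf hK hsa
            (selfAdjoint_alternating hQ h2 hK hsa)
          omega
        · exact .fieldSelfAdjoint (two_ne_zero_iff_odd.1 h2) K hK
            (fun x hx u v => by rw [hf.adj_spec, hsa x hx])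
            (eq_inf_of_maximal hH hle (not_le_subalgebraNormalizer hQ (by omega) le_rfl hK))
      · rcases field_half hQ hodd5 (by norm_num) (by omega) hH.1.le hirr hK hle hsa with
          ⟨D, hD, hleD⟩ | ⟨L, hL, hleL, hadjL, hneL⟩
        · exact two_halves hQ h10 hH hD hleD
        · exact field_two hQ h10 hH hirr hL hleL hadjL hneL
    · push Not at hsa
      rcases hr with rfl | rfl
      · exact field_two hQ h10 hH hirr hK hle hadj hsa
      · obtain ⟨x, hx, hxne⟩ := hsa
        exact absurd (adj_eq_self_of_odd hf hodd5 hK hadj hx) hxne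
  · exact tensor hQ h10 hH hirr ht
  · exact core hQ h10 hH hP

end CfsgLib.OrthTen57
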