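import Cfsg.Agent.Aschbacher57.SympType
import Cfsg.Agent.AschbacherForms.Binary
import Mathlib.Algebra.Field.ZMod
import Mathlib.Data.Matrix.Reflection

/-!
The quaternion and dihedral systems of two-by-two matrices over three elements.
-/

set_option autoImplicit false
set_option maxRecDepth 8000
set_option linter.unusedSectionVars false

namespace CfsgLib.PauliThree57

open Matrix

/-- The quaternion system. -/
def qZ : Fin 4 → Matrix (Fin 2) (Fin 2) (ZMod 3) :=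
  ![1, !![0, 1; -1, 0], !![1, 1; 1, -1], !![1, -1; -1, -1]]

/-- The dihedral system. -/
def dZ : Fin 4 → Matrix (Fin 2) (Fin 2) (ZMod 3) :=
  ![1, !![0, 1; -1, 0], !![1, 0; 0, -1], !![0, 1; 1, 0]]

theorem qZ_mul : ∀ a b, ∃ c, qZ a * qZ b = qZ c ∨ qZ a * qZ b = -qZ c := by decide +kernel

theorem dZ_mul : ∀ a b, ∃ c, dZ a * dZ b = dZ c ∨ dZ a * dZ b = -dZ c := by decide +kernel

theorem qZ_comm : ∀ a b, qZ a * qZ b = qZ b * qZ a ∨ qZ a * qZ b = -(qZ b * qZ a) := by decide +kernel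

theorem dZ_comm : ∀ a b, dZ a * dZ b = dZ b * dZ a ∨ dZ a * dZ b = -(dZ b * dZ a) := by decide +kernel

theorem qZ_sq : ∀ a, qZ a * qZ a = 1 ∨ qZ a * qZ a = -1 := by decide +kernel

theorem dZ_sq : ∀ a, dZ a * dZ a = 1 ∨ dZ a * dZ a = -1 := by decide +kernel

theorem qZ_anti : ∀ a, a = 0 ∨ ∃ b, qZ b * qZ b = -1 ∧ qZ a * qZ b = -(qZ b * qZ a) := by decide +kernel

theorem dZ_anti : ∀ a, a = 0 ∨ ∃ b, dZ b * dZ b = 1 ∧ dZ a * dZ b = -(dZ b * dZ a) := by decide +kernel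

theorem qZ_zero : qZ 0 = 1 := rfl

theorem dZ_zero : dZ 0 = 1 := rfl

theorem qZ_one_sq : qZ 1 * qZ 1 = -1 := by decide +kernel

theorem qZ_pow_four : ∀ a, qZ a * (qZ a * qZ a * qZ a) = 1 ∧ (qZ a * qZ a * qZ a) * qZ a = 1 := by
  decide +kernel

theorem dZ_pow_four : ∀ a, dZ a * (dZ a * dZ a * dZ a) = 1 ∧ (dZ a * dZ a * dZ a) * dZ a = 1 := by
  decide +kernel

theorem qZ_span : ∀ r s : Fin 2, ∃ c₀ c₁ c₂ c₃ : ZMod 3,
    Matrix.single r s 1 = c₀ • qZ 0 + c₁ • qZ 1 + c₂ • qZ 2 + c₃ • qZ 3 := by decide +kernel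

theorem dZ_span : ∀ r s : Fin 2, ∃ c₀ c₁ c₂ c₃ : ZMod 3,
    Matrix.single r s 1 = c₀ • dZ 0 + c₁ • dZ 1 + c₂ • dZ 2 + c₃ • dZ 3 := by decide +kernel

theorem qZ_form : ∀ a, (qZ a)ᵀ * !![0, 1; -1, 0] * qZ a = !![0, 1; -1, 0] := by decide +kernel

theorem dZ_form : ∀ a, (dZ a)ᵀ * dZ a = 1 := by decide +kernel

theorem qZ_conj' : ∀ x y z w : ZMod 3, x * w - y * z ≠ 0 → ∀ a, ∃ c,
    !![x, y; z, w] * qZ a = qZ c * !![x, y; z, w] ∨ !![x, y; z, w] * qZ a = -(qZ c * !![x, y; z, w]) := by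
  decide +kernel

theorem dZ_conj : ∀ x y : ZMod 3, (x ≠ 0 ∨ y ≠ 0) → ∀ a, ∃ c,
    !![x, y; -y, x] * dZ a = dZ c * !![x, y; -y, x] ∨
      !![x, y; -y, x] * dZ a = -(dZ c * !![x, y; -y, x]) := by
  decide +kernel

theorem qZ_conj (A : Matrix (Fin 2) (Fin 2) (ZMod 3)) (hA : A.det ≠ 0) (a : Fin 4) :
    ∃ c, A * qZ a = qZ c * A ∨ A * qZ a = -(qZ c * A) := by
  rw [Matrix.det_fin_two] at hA
  rw [Matrix.eta_fin_two A]
  exact qZ_conj' _ _ _ _ hA a

variable {F : Type*} [Field F] [Fintype F]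

/-- The identification with the field of three elements. -/
noncomputable def iso3 (hq : Fintype.card F = 3) : ZMod 3 ≃+* F := ZMod.ringEquivOfPrime F Nat.prime_three hq

/-- The identification on two-by-two matrices. -/
noncomputable def mat3 (hq : Fintype.card F = 3) :
    Matrix (Fin 2) (Fin 2) (ZMod 3) ≃+* Matrix (Fin 2) (Fin 2) F := (iso3 hq).mapMatrix

theorem mat3_smul (hq : Fintype.card F = 3) (c : ZMod 3) (M : Matrix (Fin 2) (Fin 2) (ZMod 3)) :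
    mat3 hq (c • M) = iso3 hq c • mat3 hq M := by
  ext i j
  simp [mat3]

theorem mat3_transpose (hq : Fintype.card F = 3) (M : Matrix (Fin 2) (Fin 2) (ZMod 3)) :
    mat3 hq Mᵀ = (mat3 hq M)ᵀ := by
  ext i j
  simp [mat3]

theorem mat3_det (hq : Fintype.card F = 3) (M : Matrix (Fin 2) (Fin 2) (ZMod 3)) :
    (mat3 hq M).det = iso3 hq M.det := by
  rw [Matrix.det_fin_two, Matrix.det_fin_two]
  simp [mat3]

theorem mat3_single (hq : Fintype.card F = 3) (r s : Fin 2) :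
    mat3 hq (Matrix.single r s 1) = Matrix.single r s 1 := by
  ext i j
  simp [mat3, Matrix.single_apply, apply_ite (iso3 hq)]

theorem mat3_rot (hq : Fintype.card F = 3) :
    mat3 hq !![0, 1; -1, 0] = AschbacherForms.rot F := by
  ext i j
  fin_cases i <;> fin_cases j <;> simp [mat3, AschbacherForms.rot]

end CfsgLib.PauliThree57
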