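import Cfsg.Agent.AschbacherQuad.Basic
import Cfsg.Agent.AschbacherForms.StarReduction
import Cfsg.Agent.OmegaOrbits.Basic
import Cfsg.Agent.Forms.PlusType

/-!
Totally singular subspaces of half dimension: parity under `Ω`, extension, and the discriminant criterion.
-/

set_option autoImplicit false
set_option linter.unusedSectionVars false
set_option linter.style.haveILetI false

namespace CfsgLib.QuadType57

open Matrix Cfsg.Geo CfsgLib.Aschbacher CfsgLib.AschbacherForms CfsgLib.AschbacherQuad

attribute [-simp] RingEquiv.coe_refl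

variable {ι : Type} [Fintype ι] [DecidableEq ι] {F : Type*} [Field F] [Fintype F] {Q : (ι → F) → F}

local notation "B" => QuadraticMap.polar Q

theorem polar_of_singular {U : Submodule F (ι → F)} (hU : IsTotallySingularQuad Q U) :
    IsTotallySingularFor (B) U := fun u hu v hv => by
  simp [QuadraticMap.polar, hU u hu, hU v hv, hU _ (U.add_mem hu hv)]

/-- An element of `Ω` meets a half-dimensional totally singular subspace in the parity of half the dimension. -/
theorem omega_parity (hQ : IsNondegenerateQuadraticForm Q) {m : ℕ} (hm : Fintype.card ι = 2 * m)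
    (hm2 : m ≠ 2) {g : GL ι F} (hg : g ∈ omegaGL Q) {U : Submodule F (ι → F)}
    (hU : Module.finrank F U = m) (hU0 : IsTotallySingularQuad Q U) :
    Even (Module.finrank F (U ⊓ U.map (Matrix.toLin' (mat g)) : Submodule F (ι → F)) + m) := by
  obtain ⟨k, hk, rfl⟩ := hg
  have hnd := quadForm_nondegenerate hQ
  have hexc : Nat.card F ≠ 2 ∨ Fintype.card ι ≠ 4 := Or.inr (by omega)
  obtain ⟨vs, hvs⟩ := CfsgLib.Forms.exists_isReflProd_finite (Q := quadForm hQ) hnd hexc k
  have hev := ((CfsgLib.OmegaOrbits.mem_omega_iff_even (Q := quadForm hQ) hnd hexc hvs).1 hk).1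
  have h := CfsgLib.OmegaOrbits.even_finrank_inf_gmap (Q := quadForm hQ) hnd hm hU hU0 hU hU0 vs k hvs
  rw [inf_idem, hU] at h
  rcases hev with ⟨a, ha⟩
  rcases h with ⟨b, hb⟩
  refine ⟨b - a, ?_⟩
  have hb' : Module.finrank F (U ⊓ U.map (Matrix.toLin'
      (mat ((Cfsg.isometryGroup F Q).subtype k))) : Submodule F (ι → F)) + m + vs.length = b + b := hb
  omega

/-- A half-dimensional totally singular subspace of odd dimension is mapped by `Ω` onto itself or onto a
subspace meeting it. -/
theorem inf_map_ne_bot (hQ : IsNondegenerateQuadraticForm Q) {m : ℕ} (hm : Fintype.card ι = 2 * m)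
    (hodd : Odd m) {g : GL ι F} (hg : g ∈ omegaGL Q) {U : Submodule F (ι → F)}
    (hU : Module.finrank F U = m) (hU0 : IsTotallySingularQuad Q U) :
    U ⊓ U.map (Matrix.toLin' (mat g)) ≠ ⊥ := fun h => by
  obtain ⟨c, hc⟩ := hodd
  obtain ⟨a, ha⟩ := omega_parity hQ hm (by omega) hg hU hU0
  rw [h, finrank_bot] at ha
  omega

/-- A pair of complementary totally singular subspaces of odd dimension is not permuted irreducibly. -/
theorem not_pair (hQ : IsNondegenerateQuadraticForm Q) {m : ℕ} (hm : Fintype.card ι = 2 * m)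
    (hodd : Odd m) {H : Subgroup (GL ι F)} (hH : H ≤ omegaGL Q)
    (hirr : ActsIrreducibly (matrixSet H)) {D : Fin 2 → Submodule F (ι → F)}
    (hD : IsMDecomposition m D) (hts : ∀ i, IsTotallySingularQuad Q (D i))
    (hle : H ≤ decompositionStabilizer D) : False := by
  have hst : H ≤ subspaceStabilizer (D 0) := by
    intro g hg
    obtain ⟨π, hπ⟩ := hle hg
    rw [mem_subspaceStabilizer_iff]
    have h0 : π 0 = 0 := by
      by_contra hne
      apply inf_map_ne_bot hQ hm hodd (hH hg) (hD.finrank_eq 0) (hts 0)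
      rw [show (D 0).map (Matrix.toLin' (mat g)) = D (π 0) from hπ 0]
      exact disjoint_iff.1 (hD.indep.pairwiseDisjoint (Ne.symm hne))
    intro w hw
    have := map_le_iff.1 (hπ 0).le w hw
    rwa [h0] at this
  have hdim := hD.finrank_eq 0
  rcases (actsIrreducibly_iff.1 hirr) (D 0) hst with h | h
  · rw [h, finrank_bot] at hdim
    exact hD.pos.ne hdim
  · rw [h, finrank_top, Module.finrank_fintype_fun_eq_card, hm] at hdim
    have := hD.pos
    omega

/-- A totally singular subspace extends inside any totally singular subspace of half dimension. -/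
theorem exists_extension (hQ : IsNondegenerateQuadraticForm Q) {m : ℕ} (hm : Fintype.card ι = 2 * m)
    {W : Submodule F (ι → F)} (hW : IsTotallySingularQuad Q W) {U₀ : Submodule F (ι → F)}
    (hU₀ : Module.finrank F U₀ = m) (hU₀0 : IsTotallySingularQuad Q U₀) :
    ∃ U : Submodule F (ι → F), W ≤ U ∧ IsTotallySingularQuad Q U ∧ Module.finrank F U = m := by
  have hf := isReflexive_polar hQ
  refine ⟨W ⊔ (hf.perp W ⊓ U₀), le_sup_left, ?_, ?_⟩
  · intro x hx
    obtain ⟨w, hw, u, hu, rfl⟩ := Submodule.mem_sup.1 hx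
    rw [MaxSub.quad_add (Q := Q), hW w hw, hU₀0 u hu.2,
      show B w u = 0 from hf.orth_comm (hu.1 w hw), add_zero, add_zero]
  · have hts : IsTotallySingularQuad Q (W ⊔ (hf.perp W ⊓ U₀)) := by
      intro x hx
      obtain ⟨w, hw, u, hu, rfl⟩ := Submodule.mem_sup.1 hx
      rw [MaxSub.quad_add (Q := Q), hW w hw, hU₀0 u hu.2,
        show B w u = 0 from hf.orth_comm (hu.1 w hw), add_zero, add_zero]
    have hle := hf.two_finrank_le (polar_of_singular hts)
    have h1 := Submodule.finrank_sup_add_finrank_inf_eq W (hf.perp W ⊓ U₀)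
    have h2 := Submodule.finrank_sup_add_finrank_inf_eq (hf.perp W) U₀
    have h3 : hf.perp W ⊔ U₀ ≤ hf.perp (W ⊓ U₀) :=
      sup_le (fun x hx w hw => hx w hw.1) (fun x hx w hw => polar_of_singular hU₀0 x hx w hw.2)
    have h4 := Submodule.finrank_mono h3
    have h5 := hf.finrank_perp W
    have h6 := hf.finrank_perp (W ⊓ U₀)
    have h7 := Submodule.finrank_mono
      (inf_le_inf_left W inf_le_right : W ⊓ (hf.perp W ⊓ U₀) ≤ W ⊓ U₀)
    omega

/-- A totally singular subspace one short of half dimension, with no further singular vector orthogonal to it,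
shows that the form is not of plus type. -/
theorem not_plus_of_aniso (hQ : IsNondegenerateQuadraticForm Q) {m : ℕ} (hm : Fintype.card ι = 2 * m)
    {W : Submodule F (ι → F)} (hW : IsTotallySingularQuad Q W) (hWd : Module.finrank F W + 1 = m)
    (han : ∀ v, (∀ w ∈ W, B v w = 0) → Q v = 0 → v ∈ W) : ¬ IsPlusTypeOn Q ⊤ := by
  rintro ⟨U₀, -, hU₀0, hU₀⟩
  rw [finrank_top, Module.finrank_fintype_fun_eq_card, hm] at hU₀
  obtain ⟨U, hWU, hU, hUd⟩ := exists_extension hQ hm hW (show Module.finrank F U₀ = m by omega) hU₀0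
  have hUW : U ≤ W := fun v hv =>
    han v (fun w hw => polar_of_singular hU v hv w (hWU hw)) (hU v hv)
  have := Submodule.finrank_mono hUW
  omega

/-- In plus type, the stabiliser of a singular subspace one short of half dimension fixes a maximal one. -/
theorem exists_maximal_fixed (hQ : IsNondegenerateQuadraticForm Q) {m : ℕ} (hm : Fintype.card ι = 2 * m)
    (hm2 : m ≠ 2) (hplus : IsPlusTypeOn Q ⊤) {H : Subgroup (GL ι F)} (hH : H ≤ omegaGL Q)
    {W : Submodule F (ι → F)} (hW : IsTotallySingularQuad Q W) (hWd : Module.finrank F W + 1 = m)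
    (hle : H ≤ subspaceStabilizer W) :
    ∃ U : Submodule F (ι → F), IsTotallySingularQuad Q U ∧ Module.finrank F U = m ∧
      H ≤ subspaceStabilizer U := by
  obtain ⟨U₀, -, hU₀0, hU₀⟩ := hplus
  rw [finrank_top, Module.finrank_fintype_fun_eq_card, hm] at hU₀
  obtain ⟨U, hWU, hU, hUd⟩ := exists_extension hQ hm hW (show Module.finrank F U₀ = m by omega) hU₀0
  refine ⟨U, hU, hUd, fun g hg => ?_⟩
  have hWm : W ≤ U.map (Matrix.toLin' (mat g)) := fun w hw =>
    ⟨mat g⁻¹ *ᵥ w, hWU (mem_subspaceStabilizer_iff.1 (hle (inv_mem hg)) w hw), by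
      rw [Matrix.toLin'_apply, mulVec_inv_mulVec]⟩
  have h1 := Submodule.finrank_mono (le_inf hWU hWm)
  have h2 := Submodule.finrank_mono (inf_le_left : U ⊓ U.map (Matrix.toLin' (mat g)) ≤ U)
  obtain ⟨a, ha⟩ := omega_parity hQ hm hm2 (hH hg) hUd hU
  have heq : U ⊓ U.map (Matrix.toLin' (mat g)) = U :=
    Submodule.eq_of_le_of_finrank_eq inf_le_left (by omega)
  have h3 : U.map (Matrix.toLin' (mat g)) = U :=
    (Submodule.eq_of_le_of_finrank_eq (heq.symm.le.trans inf_le_right)
      (LinearEquiv.finrank_eq (Submodule.equivMapOfInjective _ (map_toLin'_injective g) U))).symm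
  exact mem_subspaceStabilizer_iff.2 (map_le_iff.1 h3.le)

/-- The polar form, as a bilinear form. -/
def polB (hQ : IsNondegenerateQuadraticForm Q) : LinearMap.BilinForm F (ι → F) :=
  QuadraticMap.polarBilin (quadForm hQ)

theorem polB_apply (hQ : IsNondegenerateQuadraticForm Q) (u v : ι → F) : polB hQ u v = B u v := rfl

theorem plus_iff_singular (hQ : IsNondegenerateQuadraticForm Q) {m : ℕ} (hm : Fintype.card ι = 2 * m) :
    IsPlusTypeOn Q ⊤ ↔ ∃ U : Submodule F (ι → F), Module.finrank F U = m ∧ IsTotallySingularQuad Q U := by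
  constructor
  · rintro ⟨U, -, hU0, hU⟩
    rw [finrank_top, Module.finrank_fintype_fun_eq_card, hm] at hU
    exact ⟨U, by omega, hU0⟩
  · rintro ⟨U, hU, hU0⟩
    exact ⟨U, le_top, hU0, by rw [finrank_top, Module.finrank_fintype_fun_eq_card, hm, hU]⟩

/-- Plus type, read on the determinant of the polar form in any basis. -/
theorem plus_iff_det (hQ : IsNondegenerateQuadraticForm Q) (h2 : (2 : F) ≠ 0) {m : ℕ}
    (hm : Fintype.card ι = 2 * m) {κ : Type*} [Fintype κ] [DecidableEq κ]
    (b : Module.Basis κ F (ι → F)) :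
    (IsPlusTypeOn Q ⊤ ↔ IsSquare ((-1 : F) ^ m * (LinearMap.BilinForm.toMatrix b (polB hQ)).det)) ∧
      (LinearMap.BilinForm.toMatrix b (polB hQ)).det ≠ 0 := by
  have hd : (LinearMap.BilinForm.toMatrix b (polB hQ)).det ≠ 0 :=
    (LinearMap.BilinForm.nondegenerate_iff_det_ne_zero b).1 (quadForm_nondegenerate hQ)
  have hcard : Fintype.card κ = 2 * m := by
    rw [← Module.finrank_eq_card_basis b, Module.finrank_fintype_fun_eq_card, hm]
  have hS : (polB hQ).IsSymm := ⟨fun x y => QuadraticMap.polar_comm _ _ _⟩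
  refine ⟨?_, hd⟩
  rw [plus_iff_singular hQ hm, ← CfsgLib.Forms.plus_iff_isSquare h2 _ hS b hd hcard]
  refine exists_congr fun U => and_congr Iff.rfl ⟨fun h => polar_of_singular h, fun h u hu => ?_⟩
  have h1 : B u u = 0 := h u hu u hu
  rw [MaxSub.polar_self hQ] at h1
  exact (mul_eq_zero.1 h1).resolve_left h2

theorem not_isSquare_mul {a b : F} (ha : ¬ IsSquare a) (hb : ¬ IsSquare b) : IsSquare (a * b) := by
  classical
  have ha0 : a ≠ 0 := fun h => ha (h ▸ IsSquare.zero)
  have hb0 : b ≠ 0 := fun h => hb (h ▸ IsSquare.zero)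
  rw [← quadraticChar_one_iff_isSquare (mul_ne_zero ha0 hb0), map_mul,
    quadraticChar_neg_one_iff_not_isSquare.2 ha, quadraticChar_neg_one_iff_not_isSquare.2 hb]
  norm_num

/-- Two orthogonal halves of odd dimension: the type read on whether they are isometric. -/
theorem halves_type (hQ : IsNondegenerateQuadraticForm Q) (h2 : (2 : F) ≠ 0) {m : ℕ}
    (hm : Fintype.card ι = 2 * m) (hodd : Odd m) {D : Fin 2 → Submodule F (ι → F)}
    (hD : IsNondegenerateMDecomposition (B) m D) :
    (AreIsometricFor Q (D 0) (D 1) → (IsPlusTypeOn Q ⊤ ↔ IsSquare (-1 : F))) ∧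
      (¬ AreIsometricFor Q (D 0) (D 1) → (IsPlusTypeOn Q ⊤ ↔ ¬ IsSquare (-1 : F))) := by
  classical
  have hc : IsCompl (D 0) (D 1) := by
    refine ⟨hD.decomp.indep.pairwiseDisjoint (by decide), codisjoint_iff.2 ?_⟩
    rw [eq_top_iff, ← hD.decomp.iSup_eq_top]
    exact iSup_le fun i => by fin_cases i <;> simp
  let b₀ := Module.finBasisOfFinrankEq F (D 0) (hD.decomp.finrank_eq 0)
  let b₁ := Module.finBasisOfFinrankEq F (D 1) (hD.decomp.finrank_eq 1)
  let b := (b₀.prod b₁).map (Submodule.prodEquivOfIsCompl _ _ hc)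
  let B₀ : LinearMap.BilinForm F (D 0) := (polB hQ).compl₁₂ (D 0).subtype (D 0).subtype
  let B₁ : LinearMap.BilinForm F (D 1) := (polB hQ).compl₁₂ (D 1).subtype (D 1).subtype
  have hbl : ∀ i, b (Sum.inl i) = (b₀ i : ι → F) := fun i => by simp [b]
  have hbr : ∀ i, b (Sum.inr i) = (b₁ i : ι → F) := fun i => by simp [b]
  have hblock : LinearMap.BilinForm.toMatrix b (polB hQ) =
      Matrix.fromBlocks (LinearMap.BilinForm.toMatrix b₀ B₀) 0 0 (LinearMap.BilinForm.toMatrix b₁ B₁) := by
    ext (i | i) (j | j) <;>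
      simp only [LinearMap.BilinForm.toMatrix_apply, hbl, hbr, Matrix.fromBlocks_apply₁₁,
        Matrix.fromBlocks_apply₁₂, Matrix.fromBlocks_apply₂₁, Matrix.fromBlocks_apply₂₂, Matrix.zero_apply]
    · rfl
    · exact hD.orthogonal 0 1 (by decide) _ (b₀ i).2 _ (b₁ j).2
    · exact hD.orthogonal 1 0 (by decide) _ (b₁ i).2 _ (b₀ j).2
    · rfl
  obtain ⟨hiff, hdet⟩ := plus_iff_det hQ h2 hm b
  rw [hblock, Matrix.det_fromBlocks_zero₂₁] at hiff hdet
  set d₀ := (LinearMap.BilinForm.toMatrix b₀ B₀).det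
  set d₁ := (LinearMap.BilinForm.toMatrix b₁ B₁).det with hd₁
  rw [hodd.neg_one_pow] at hiff
  have hS₀ : B₀.IsSymm := ⟨fun x y => QuadraticMap.polar_comm _ _ _⟩
  have hS₁ : B₁.IsSymm := ⟨fun x y => QuadraticMap.polar_comm _ _ _⟩
  constructor
  · rintro ⟨e, he⟩
    have h3 : LinearMap.BilinForm.toMatrix (b₀.map e) B₁ = LinearMap.BilinForm.toMatrix b₀ B₀ := by
      ext i j
      simp only [LinearMap.BilinForm.toMatrix_apply, Module.Basis.map_apply]
      show B ((e (b₀ i) : D 1) : ι → F) ((e (b₀ j) : D 1) : ι → F) =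
        B ((b₀ i : D 0) : ι → F) ((b₀ j : D 0) : ι → F)
      have h4 := he (b₀ i + b₀ j)
      rw [map_add, Submodule.coe_add, Submodule.coe_add] at h4
      simp only [QuadraticMap.polar, h4, he]
    obtain ⟨t, ht, hte⟩ := CfsgLib.Forms.det_toMatrix₂_change B₁ b₁ (b₀.map e)
    rw [h3] at hte
    have hd1 : d₁ ≠ 0 := right_ne_zero_of_mul hdet
    rw [hiff]
    constructor
    · rintro ⟨r, hr⟩
      refine ⟨r / (t * d₁), ?_⟩
      field_simp
      linear_combination hr + d₁ * hte
    · rintro ⟨r, hr⟩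
      exact ⟨r * (t * d₁), by linear_combination d₀ * d₁ * hr + r * r * d₁ * hte⟩
  · intro hni
    have hns : ¬ IsSquare (d₀ * d₁) := by
      intro hsq
      obtain ⟨g, hg⟩ := CfsgLib.Forms.exists_isometry_of_isSquare h2 B₀ B₁ hS₀ hS₁ b₀ b₁ rfl
        (left_ne_zero_of_mul hdet) (right_ne_zero_of_mul hdet) hsq
      refine hni ⟨g, fun w => ?_⟩
      have h4 : B ((g w : D 1) : ι → F) ((g w : D 1) : ι → F) = B (w : ι → F) (w : ι → F) := hg w w
      rw [MaxSub.polar_self hQ, MaxSub.polar_self hQ] at h4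
      exact mul_left_cancel₀ h2 h4
    rw [hiff]
    constructor
    · intro hsq h
      exact hns (by simpa using h.mul hsq)
    · intro h
      exact not_isSquare_mul h hns

/-- A group permuting the parts of a decomposition irreducibly makes them isometric. -/
theorem isometric_of_irreducible {H : Subgroup (GL ι F)} (hQH : FixesQuadForm (matrixSet H) Q)
    (hirr : ActsIrreducibly (matrixSet H)) {t k : ℕ} {D : Fin t → Submodule F (ι → F)}
    (hD : IsMDecomposition k D) (hle : H ≤ decompositionStabilizer D) :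
    (∀ i j, AreIsometricFor Q (D i) (D j)) ∧
      ∀ i j, ∃ g ∈ H, (D i).map (Matrix.toLin' (mat g)) = D j := by
  classical
  have htrans : ∀ i j, ∃ g ∈ H, (D i).map (Matrix.toLin' (mat g)) = D j := by
    intro i j
    let p : Fin t → Prop := fun j => ∃ g ∈ H, (D i).map (Matrix.toLin' (mat g)) = D j
    let U : Submodule F (ι → F) := ⨆ j, ⨆ (_ : p j), D j
    have hU : H ≤ subspaceStabilizer U := by
      intro g hg
      rw [mem_subspaceStabilizer_iff, ← map_le_iff, Submodule.map_iSup]
      refine iSup_le fun j => ?_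
      rw [Submodule.map_iSup]
      refine iSup_le fun ⟨h, hh, hj⟩ => ?_
      obtain ⟨π, hπ⟩ := hle hg
      rw [hπ j]
      refine le_iSup₂_of_le (π j) ⟨g * h, mul_mem hg hh, ?_⟩ le_rfl
      rw [mat, Units.val_mul, Matrix.toLin'_mul, Submodule.map_comp, hj, hπ j]
    have hne : ∀ l, D l ≠ ⊥ := fun l h => by
      have h1 := hD.finrank_eq l
      rw [h, finrank_bot] at h1
      exact hD.pos.ne h1
    rcases (actsIrreducibly_iff.1 hirr) U hU with h | h
    · exact absurd (le_bot_iff.1 (h ▸ le_iSup₂_of_le i ⟨1, H.one_mem, by simp [mat]⟩ le_rfl)) (hne i)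
    · by_contra hj
      refine hne j (le_bot_iff.1 ((hD.indep j) le_rfl (le_trans le_top (h.ge.trans ?_))))
      exact iSup_le fun l => iSup_le fun hl => le_iSup₂_of_le l (fun e => hj (e ▸ hl)) le_rfl
  refine ⟨fun i j => ?_, htrans⟩
  obtain ⟨g, hg, hgj⟩ := htrans i j
  refine ⟨((D i).equivMapOfInjective (Matrix.toLin' (mat g)) (map_toLin'_injective g)).trans
    (LinearEquiv.ofEq _ _ hgj), fun w => ?_⟩
  simp only [LinearEquiv.trans_apply, LinearEquiv.coe_ofEq_apply,
    Submodule.coe_equivMapOfInjective_apply, Matrix.toLin'_apply]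
  exact hQH _ (mem_matrixSet hg) _

/-- A function with additive values and semilinear scaling, invariant under an irreducible group, vanishes. -/
theorem additive_invariant_zero {H : Subgroup (GL ι F)} (hirr : ActsIrreducibly (matrixSet H))
    (h2 : 2 ≤ Fintype.card ι) (τ : F → F) (hτ : ∀ c, τ c = 0 → c = 0) {D : (ι → F) → F}
    (hadd : ∀ u v, D (u + v) = D u + D v) (hsmul : ∀ c u, D (c • u) = τ c * D u)
    (hinv : ∀ g ∈ H, ∀ u, D (mat g *ᵥ u) = D u) : ∀ u, D u = 0 := by
  classical
  let W : Submodule F (ι → F) :=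
    { carrier := {u | D u = 0}
      add_mem' := fun {a b} ha hb => by
        show D (a + b) = 0
        rw [hadd, ha, hb, add_zero]
      zero_mem' := by
        show D 0 = 0
        have h := hadd 0 0
        simpa using h
      smul_mem' := fun c u hu => by
        show D (c • u) = 0
        rw [hsmul, hu, mul_zero] }
  have hW : H ≤ subspaceStabilizer W := fun g hg => mem_subspaceStabilizer_iff.2 fun u hu => by
    show D _ = 0
    rw [hinv g hg]
    exact hu
  rcases (actsIrreducibly_iff.1 hirr) W hW with h | h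
  · exfalso
    have hinj : Function.Injective D := fun u v huv => by
      by_contra hne
      have h1 : u - v ∈ W := by
        show D (u - v) = 0
        have h3 := hadd (u - v) v
        rw [sub_add_cancel, huv] at h3
        simpa using h3
      rw [h, Submodule.mem_bot, sub_eq_zero] at h1
      exact hne h1
    have h1 := Fintype.card_le_of_injective D hinj
    rw [Fintype.card_fun] at h1
    have h3 := Nat.pow_lt_pow_right (Fintype.one_lt_card (α := F)) (show 1 < Fintype.card ι by omega)
    rw [pow_one] at h3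
    omega
  · exact fun u => (h ▸ Submodule.mem_top : u ∈ W)

end CfsgLib.QuadType57
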