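import Cfsg.Agent.MaxSub.SympStructure

/-!
The maximal subgroups of four-dimensional symplectic groups in characteristic two, up to the residual class.
-/

set_option autoImplicit false
set_option linter.unusedSectionVars false

namespace CfsgLib.SympFour57

open Matrix Cfsg.Geo CfsgLib.Aschbacher CfsgLib.AschbacherForms CfsgLib.AschbacherSymplectic

attribute [-simp] RingEquiv.coe_refl

variable {F : Type*} [Field F] [Fintype F]

local notation "V" => (Fin 2 ⊕ Fin 2 → F)
local notation "ω" => Cfsg.sympForm 2 F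
local notation "Sp" => Cfsg.spGL 2 F
local notation "GV" => GL (Fin 2 ⊕ Fin 2) F

theorem subfield_ne_top {F₀ : Subfield F} {r : ℕ} (hr : r.Prime) (hcard : Fintype.card F = Nat.card F₀ ^ r) :
    F₀ ≠ ⊤ := by
  rintro rfl
  rw [Nat.card_congr (Subfield.topEquiv (K := F)).toEquiv, Nat.card_eq_fintype_card] at hcard
  have h3 := Nat.pow_lt_pow_right (Fintype.one_lt_card (α := F)) hr.one_lt
  rw [pow_one] at h3
  omega

theorem mul_eq_card {ι : Type} [Fintype ι] [DecidableEq ι] {t k : ℕ} {D : Fin t → Submodule F (ι → F)}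
    (hD : IsMDecomposition k D) : t * k = Fintype.card ι := by
  have e : Module.finrank F (DirectSum (Fin t) fun i => D i) = Module.finrank F (ι → F) :=
    LinearEquiv.finrank_eq (iSupIndep.linearEquiv hD.indep hD.iSup_eq_top)
  rw [Module.finrank_directSum, Module.finrank_fintype_fun_eq_card] at e
  rw [Finset.sum_congr rfl fun i _ => hD.finrank_eq i, Finset.sum_const, Finset.card_univ,
    Fintype.card_fin, smul_eq_mul] at e
  exact e

/-- A decomposition of four-dimensional symplectic space is into two planes. -/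
theorem decomposition_planes {t k : ℕ} {D : Fin t → Submodule F V}
    (hD : IsNondegenerateMDecomposition (ω) k D) : t = 2 ∧ k = 2 := by
  have h2 := hD.decomp.two_le
  have hk := hD.decomp.pos
  have hk1 : k ≠ 1 := fun h =>
    not_nondegenerate_of_one (m := 2) (by rw [hD.decomp.finrank_eq, h]) (hD.nondegenerate ⟨0, by omega⟩)
  have hsum : t * k = 4 := by
    simpa using mul_eq_card hD.decomp
  have hk2 : 2 ≤ k := by omega
  have : t ≤ 2 := by nlinarith
  obtain rfl : t = 2 := by omega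
  exact ⟨rfl, by omega⟩

theorem even_cases (heven : ¬ Odd (Fintype.card F)) {H : Subgroup GV} (hH : IsMaximalIn (Sp) H) :
    (∃ W : Submodule F V, W ≠ ⊥ ∧ IsTotallySingularFor (ω) W ∧ H = subspaceStabilizer W ⊓ Sp) ∨
    (∃ D : Fin 2 → Submodule F V, IsNondegenerateMDecomposition (ω) 2 D ∧
      H = decompositionStabilizer D ⊓ Sp) ∨
    (∃ K : Subalgebra F (Matrix (Fin 2 ⊕ Fin 2) (Fin 2 ⊕ Fin 2) F), IsFieldSubalgebra 2 K ∧
      IsSelfAdjointFor (ω) K ∧ (∀ k ∈ K, ∀ v : V, ω (Matrix.mulVec k v) v = 0) ∧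
      H = subalgebraNormalizer K ⊓ Sp) ∨
    (∃ (F₀ : Subfield F) (r : ℕ) (P : GV) (ζ : F), r.Prime ∧ Fintype.card F = Nat.card F₀ ^ r ∧ ζ ≠ 0 ∧
      IsFormRationalStructure (ω) F₀ ζ P ∧ H = subfieldSubgroup F₀ P ⊓ Sp) ∨
    (∃ Q : V → F, IsNondegenerateQuadraticForm Q ∧ (∀ u v : V, QuadraticMap.polar Q u v = ω u v) ∧
      H = quadSimilarityGroup Q ⊓ Sp) ∨
    InSymplecticResidualClass H := by
  haveI : Nonempty (Fin 2 ⊕ Fin 2) := ⟨Sum.inl 0⟩
  have heq : ∀ {X : Subgroup GV}, H ≤ X → ¬ Sp ≤ X → H = X ⊓ Sp :=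
    fun hle hne => eq_inf_of_maximal hH hle hne
  rcases CfsgLib.MaxSub.symplectic_structure le_rfl H hH.1.le with ⟨M, hM, hle⟩ | h
  swap
  · exact Or.inr (Or.inr (Or.inr (Or.inr (Or.inr h))))
  rcases hM with hp | ⟨r, K, hr, hK, hs, hal, rfl⟩ | ⟨K, hodd, -⟩ |
    ⟨n₁, n₂, e, P, f₁, f₂, hodd, -⟩ | ⟨k, t, e, P, f₁, hodd, -⟩
  · rcases hp with ⟨W, h0, hW, rfl⟩ | ⟨W, h0, hW, hd, rfl⟩ | ⟨t, k, D, hD, rfl⟩ | ⟨D, hodd, -⟩ |
      ⟨F₀, r, P, ζ, hr, hcard, hζ, hrat, rfl⟩ | ⟨R, p, k, -, -, -, -, hpodd, hp, -⟩ | ⟨Q, -, hQ, hpol, rfl⟩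
    · refine Or.inl ⟨W, h0, hW, heq (hle.trans inf_le_left) (not_le_subspace h0 fun h => ?_)⟩
      subst h
      have h2 := (isRefl (m := 2) (F := F)).two_finrank_le hW
      rw [finrank_top, Module.finrank_fintype_fun_eq_card] at h2
      simp at h2
    · have h1 : Module.finrank F W = 1 := by
        have := Nat.pos_of_ne_zero fun h => h0 (Submodule.finrank_eq_zero.1 h)
        omega
      exact absurd hW (not_nondegenerate_of_one h1)
    · obtain ⟨rfl, rfl⟩ := decomposition_planes hD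
      exact Or.inr (Or.inl ⟨D, hD, heq (hle.trans inf_le_left) (not_le_decomposition hD.decomp le_rfl)⟩)
    · exact absurd hodd heven
    · exact Or.inr (Or.inr (Or.inr (Or.inl ⟨F₀, r, P, ζ, hr, hcard, hζ, hrat,
        heq (hle.trans inf_le_left) (not_le_subfield (by norm_num) (subfield_ne_top hr hcard) P)⟩)))
    · exact absurd (hp ▸ hpodd) heven
    · exact Or.inr (Or.inr (Or.inr (Or.inr (Or.inl ⟨Q, hQ, hpol,
        heq (hle.trans inf_le_left) (not_le_quad le_rfl hpol)⟩))))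
  · obtain rfl : r = 2 := (Nat.prime_dvd_prime_iff_eq hr Nat.prime_two).1
      (hr.dvd_of_dvd_pow (n := 2) (by simpa using fieldSubalgebra_finrank_dvd hK))
    exact Or.inr (Or.inr (Or.inl ⟨K, hK, hs, hal,
      heq (hle.trans inf_le_left) (not_le_field le_rfl le_rfl hK)⟩))
  all_goals exact absurd hodd heven

end CfsgLib.SympFour57
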