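import Cfsg.Agent.Aschbacher57.PauliThree
import Cfsg.Agent.Aschbacher57.OrthFields

/-!
Four-dimensional symplectic groups over three elements: the stabilisers of a pair of Lagrangians and of a
unitary structure sit in other classes.
-/

set_option autoImplicit false
set_option linter.unusedSectionVars false
set_option linter.style.haveILetI false

namespace CfsgLib.SympThree57

open Matrix Cfsg.Geo CfsgLib.Aschbacher CfsgLib.AschbacherForms CfsgLib.AschbacherSymplectic
  CfsgLib.SympType57 CfsgLib.PauliThree57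
open scoped Kronecker

attribute [-simp] RingEquiv.coe_refl

variable {F : Type*} [Field F] [Fintype F]

local notation "ι₄" => Fin 2 ⊕ Fin 2
local notation "V" => (Fin 2 ⊕ Fin 2 → F)
local notation "ω" => Cfsg.sympForm 2 F
local notation "Sp" => Cfsg.spGL 2 F
local notation "GV" => GL (Fin 2 ⊕ Fin 2) F

theorem two_ne_zero_three (hq : Fintype.card F = 3) : (2 : F) ≠ 0 :=
  CfsgLib.MaxSub.two_ne_zero_of_odd (by rw [hq]; decide)

/-- Isometries in tensor coordinates. -/
theorem isometry_iff_gram {e : ι₄ ≃ Fin 2 × Fin 2} {P : GV}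
    (hG : ∀ x y, ω (coords e P x) (coords e P y) = x ⬝ᵥ ((rot F ⊗ₖ 1) *ᵥ y))
    (X : Matrix (Fin 2 × Fin 2) (Fin 2 × Fin 2) F) {g : GV} (hg : mat g = tensorEquiv e P X) :
    g ∈ Sp ↔ Xᵀ * (rot F ⊗ₖ 1) * X = rot F ⊗ₖ 1 := by
  have key : ∀ x y, ω (mat g *ᵥ coords e P x) (mat g *ᵥ coords e P y) =
      x ⬝ᵥ ((Xᵀ * (rot F ⊗ₖ 1) * X) *ᵥ y) := fun x y => by
    rw [hg, tensorEquiv_mulVec, tensorEquiv_mulVec, hG, ← Matrix.vecMul_transpose, ← Matrix.dotProduct_mulVec,
      Matrix.mulVec_mulVec, Matrix.mulVec_mulVec]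
  rw [CfsgLib.MaxSub.mem_spGL_iff]
  constructor
  · intro h
    ext i j
    have h1 := key (Pi.single i 1) (Pi.single j 1)
    rw [h, hG] at h1
    simpa using h1.symm
  · intro h u v
    obtain ⟨x, rfl⟩ := (coords e P).surjective u
    obtain ⟨y, rfl⟩ := (coords e P).surjective v
    exact (key x y).trans (by rw [h, hG])

/-- Over three elements the normaliser of the tensor structure normalises a group of symplectic type. -/
theorem tensor_three (hq : Fintype.card F = 3) {e : ι₄ ≃ Fin 2 × Fin 2} {P : GV}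
    (hG : ∀ x y, ω (coords e P x) (coords e P y) = x ⬝ᵥ ((rot F ⊗ₖ 1) *ᵥ y)) :
    ∃ R : Subgroup GV, IsSympTypeData 2 R ∧
      (∀ (g : GV) (a : Matrix (Fin 2) (Fin 2) F) (x y : F), a.det ≠ 0 → (x ≠ 0 ∨ y ≠ 0) →
        mat g = tensorEquiv e P (a ⊗ₖ (x • 1 + y • rot F)) → g ∈ subgroupNormalizer R) ∧
      ∃ r ∈ subgroupNormalizer R, r ∈ Sp ∧
        mat r = tensorEquiv e P ((1 : Matrix (Fin 2) (Fin 2) F) ⊗ₖ !![1, 0; 0, -1]) := by
  classical
  let φ := iso3 hq
  let Φ := mat3 hq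
  let T := tensorEquiv e P
  have h2 := two_ne_zero_three hq
  let u : Fin 4 × Fin 4 → GV := fun i =>
    { val := T (Φ (qZ i.1) ⊗ₖ Φ (dZ i.2))
      inv := T (Φ (qZ i.1 * qZ i.1 * qZ i.1) ⊗ₖ Φ (dZ i.2 * dZ i.2 * dZ i.2))
      val_inv := by
        rw [← map_mul, ← Matrix.mul_kronecker_mul, ← map_mul Φ, ← map_mul Φ, (qZ_pow_four _).1,
          (dZ_pow_four _).1, map_one, Matrix.one_kronecker_one, map_one]
      inv_val := by
        rw [← map_mul, ← Matrix.mul_kronecker_mul, ← map_mul Φ, ← map_mul Φ, (qZ_pow_four _).2,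
          (dZ_pow_four _).2, map_one, Matrix.one_kronecker_one, map_one] }
  have hu : ∀ i, mat (u i) = T (Φ (qZ i.1) ⊗ₖ Φ (dZ i.2)) := fun i => rfl
  have hnk : ∀ A B : Matrix (Fin 2) (Fin 2) F, (-A) ⊗ₖ B = -(A ⊗ₖ B) ∧ A ⊗ₖ (-B) = -(A ⊗ₖ B) := fun A B => by
    constructor <;> ext i j <;> simp [Matrix.kroneckerMap_apply]
  have hsign : ∀ {X Y X' Y' : Matrix (Fin 2) (Fin 2) (ZMod 3)}, (X = Y ∨ X = -Y) → (X' = Y' ∨ X' = -Y') →
      T (Φ X ⊗ₖ Φ X') = T (Φ Y ⊗ₖ Φ Y') ∨ T (Φ X ⊗ₖ Φ X') = -T (Φ Y ⊗ₖ Φ Y') := by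
    intro X Y X' Y' h h'
    rcases h with rfl | rfl <;> rcases h' with rfl | rfl <;>
      simp [(hnk _ _).1, (hnk _ _).2]
  have hu1 : u (0, 0) = 1 := Units.ext (by
    show mat (u (0, 0)) = 1
    rw [hu, qZ_zero, dZ_zero, map_one, Matrix.one_kronecker_one, map_one])
  obtain ⟨R, hR, hRn⟩ := exists_of_system (m := 2) le_rfl h2 (by rw [hq]; exact Nat.prime_three) (k := 2) rfl u
    (fun i => by
      rw [isometry_iff_gram hG _ (hu i), ← Matrix.kroneckerMap_transpose, ← Matrix.mul_kronecker_mul,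
        ← Matrix.mul_kronecker_mul, mul_one, ← mat3_transpose, ← mat3_transpose, ← mat3_rot hq, ← map_mul,
        ← map_mul, ← map_mul, qZ_form, dZ_form, map_one, mat3_rot])
    ⟨(0, 0), hu1⟩
    (fun i j => by
      obtain ⟨c, hc⟩ := qZ_mul i.1 j.1
      obtain ⟨c', hc'⟩ := dZ_mul i.2 j.2
      refine ⟨(c, c'), ?_⟩
      rcases hsign hc hc' with h | h
      · left; apply Units.ext
        show mat (u i) * mat (u j) = mat (u (c, c'))
        rw [hu, hu, hu, ← map_mul, ← Matrix.mul_kronecker_mul, ← map_mul Φ, ← map_mul Φ]; exact h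
      · right; apply Units.ext
        show mat (u i) * mat (u j) = -mat (u (c, c'))
        rw [hu, hu, hu, ← map_mul, ← Matrix.mul_kronecker_mul, ← map_mul Φ, ← map_mul Φ]; exact h)
    (fun i j => by
      rcases hsign (qZ_comm i.1 j.1) (dZ_comm i.2 j.2) with h | h
      · left; apply Units.ext
        show mat (u i) * mat (u j) = mat (u j) * mat (u i)
        rw [hu, hu, ← map_mul, ← map_mul, ← Matrix.mul_kronecker_mul, ← Matrix.mul_kronecker_mul,
          ← map_mul Φ, ← map_mul Φ, ← map_mul Φ, ← map_mul Φ]; exact h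
      · right; apply Units.ext
        show mat (u i) * mat (u j) = -(mat (u j) * mat (u i))
        rw [hu, hu, ← map_mul, ← map_mul, ← Matrix.mul_kronecker_mul, ← Matrix.mul_kronecker_mul,
          ← map_mul Φ, ← map_mul Φ, ← map_mul Φ, ← map_mul Φ]; exact h)
    (fun i => by
      rcases hsign (qZ_sq i.1) (dZ_sq i.2) with h | h
      · left; apply Units.ext
        show mat (u i) * mat (u i) = 1
        rw [hu, ← map_mul, ← Matrix.mul_kronecker_mul, ← map_mul Φ, ← map_mul Φ, h, map_one,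
          Matrix.one_kronecker_one, map_one]
      · right; apply Units.ext
        show mat (u i) * mat (u i) = -(1 : Matrix ι₄ ι₄ F)
        rw [hu, ← map_mul, ← Matrix.mul_kronecker_mul, ← map_mul Φ, ← map_mul Φ, h, map_one,
          Matrix.one_kronecker_one, map_one])
    (by
      refine top_le_iff.1 fun M _ => ?_
      obtain ⟨X, rfl⟩ := T.surjective M
      rw [Matrix.matrix_eq_sum_single X, map_sum]
      refine Submodule.sum_mem _ fun a _ => ?_
      rw [map_sum]
      refine Submodule.sum_mem _ fun b _ => ?_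
      have hb : Matrix.single a b (X a b) =
          X a b • (Matrix.single a.1 b.1 (1 : F) ⊗ₖ Matrix.single a.2 b.2 (1 : F)) := by
        rw [Matrix.single_kronecker_single, one_mul, Matrix.smul_single, smul_eq_mul, mul_one]
      rw [hb, map_smul]
      refine Submodule.smul_mem _ _ ?_
      rw [← mat3_single hq a.1 b.1, ← mat3_single hq a.2 b.2]
      obtain ⟨c₀, c₁, c₂, c₃, hc⟩ := qZ_span a.1 b.1
      obtain ⟨d₀, d₁, d₂, d₃, hd⟩ := dZ_span a.2 b.2
      rw [hc, hd]
      simp only [map_add, mat3_smul, Matrix.add_kronecker, Matrix.kronecker_add, Matrix.smul_kronecker,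
        Matrix.kronecker_smul, map_smul]
      have hmem : ∀ i j, T (Φ (qZ i) ⊗ₖ Φ (dZ j)) ∈ Submodule.span F (Set.range fun i => mat (u i)) :=
        fun i j => Submodule.subset_span ⟨(i, j), rfl⟩
      repeat' first | exact hmem _ _ | apply Submodule.smul_mem | apply Submodule.add_mem)
    (fun i => by
      obtain ⟨a, d⟩ := i
      rcases qZ_anti a with rfl | ⟨b, hb, hab⟩
      · rcases dZ_anti d with rfl | ⟨d', hd', hdd⟩
        · exact Or.inl hu1
        refine Or.inr (Or.inr ⟨(1, d'), Units.ext ?_, Units.ext ?_⟩)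
        · show mat (u (1, d')) * mat (u (1, d')) = -(1 : Matrix ι₄ ι₄ F)
          rw [hu, ← map_mul, ← Matrix.mul_kronecker_mul, ← map_mul Φ, ← map_mul Φ, qZ_one_sq, hd', map_one,
            map_neg, map_one, (hnk _ _).1, Matrix.one_kronecker_one, map_neg, map_one]
        · show mat (u (0, d)) * mat (u (1, d')) = -(mat (u (1, d')) * mat (u (0, d)))
          rw [hu, hu, ← map_mul, ← map_mul, ← Matrix.mul_kronecker_mul, ← Matrix.mul_kronecker_mul,
            ← map_mul Φ, ← map_mul Φ, ← map_mul Φ, ← map_mul Φ, qZ_zero, one_mul, mul_one, hdd, map_neg,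
            (hnk _ _).2, map_neg]
      · refine Or.inr (Or.inr ⟨(b, 0), Units.ext ?_, Units.ext ?_⟩)
        · show mat (u (b, 0)) * mat (u (b, 0)) = -(1 : Matrix ι₄ ι₄ F)
          rw [hu, ← map_mul, ← Matrix.mul_kronecker_mul, ← map_mul Φ, ← map_mul Φ, hb, dZ_zero, one_mul,
            map_one, map_neg, map_one, (hnk _ _).1, Matrix.one_kronecker_one, map_neg, map_one]
        · show mat (u (a, d)) * mat (u (b, 0)) = -(mat (u (b, 0)) * mat (u (a, d)))
          rw [hu, hu, ← map_mul, ← map_mul, ← Matrix.mul_kronecker_mul, ← Matrix.mul_kronecker_mul,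
            ← map_mul Φ, ← map_mul Φ, ← map_mul Φ, ← map_mul Φ, dZ_zero, one_mul, mul_one, hab, map_neg,
            (hnk _ _).1, map_neg])
  refine ⟨R, hR, fun g a x y ha hxy hg => hRn g fun i => ?_, u (0, 2), hRn _ fun i => ?_, ?_, ?_⟩
  · obtain ⟨a', rfl⟩ := Φ.surjective a
    obtain ⟨x', rfl⟩ := φ.surjective x
    obtain ⟨y', rfl⟩ := φ.surjective y
    have hb : φ x' • (1 : Matrix (Fin 2) (Fin 2) F) + φ y' • rot F = Φ !![x', y'; -y', x'] := by
      ext i j
      fin_cases i <;> fin_cases j <;> simp [Φ, φ, mat3, rot]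
    rw [hb] at hg
    have ha' : a'.det ≠ 0 := fun h => ha (by rw [mat3_det, h, map_zero])
    have hxy' : x' ≠ 0 ∨ y' ≠ 0 := hxy.imp (fun h h' => h (by rw [h', map_zero]))
      (fun h h' => h (by rw [h', map_zero]))
    obtain ⟨c, hc⟩ := qZ_conj a' ha' i.1
    obtain ⟨c', hc'⟩ := dZ_conj x' y' hxy' i.2
    refine ⟨(c, c'), ?_⟩
    rcases hsign hc hc' with h | h
    · left; rw [mul_inv_eq_iff_eq_mul]; apply Units.ext
      show mat g * mat (u i) = mat (u (c, c')) * mat g
      rw [hg, hu, hu, ← map_mul, ← map_mul, ← Matrix.mul_kronecker_mul, ← Matrix.mul_kronecker_mul,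
        ← map_mul Φ, ← map_mul Φ, ← map_mul Φ, ← map_mul Φ]
      exact h
    · right; rw [mul_inv_eq_iff_eq_mul]; apply Units.ext
      show mat g * mat (u i) = -mat (u (c, c')) * mat g
      rw [neg_mul, hg, hu, hu, ← map_mul, ← map_mul, ← Matrix.mul_kronecker_mul, ← Matrix.mul_kronecker_mul,
        ← map_mul Φ, ← map_mul Φ, ← map_mul Φ, ← map_mul Φ]
      exact h
  · rcases hsign (qZ_comm 0 i.1) (dZ_comm 2 i.2) with h | h
    · refine ⟨i, Or.inl ?_⟩
      rw [mul_inv_eq_iff_eq_mul]; apply Units.ext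
      show mat (u (0, 2)) * mat (u i) = mat (u i) * mat (u (0, 2))
      rw [hu, hu, ← map_mul, ← map_mul, ← Matrix.mul_kronecker_mul, ← Matrix.mul_kronecker_mul,
        ← map_mul Φ, ← map_mul Φ, ← map_mul Φ, ← map_mul Φ]
      exact h
    · refine ⟨i, Or.inr ?_⟩
      rw [mul_inv_eq_iff_eq_mul]; apply Units.ext
      show mat (u (0, 2)) * mat (u i) = -mat (u i) * mat (u (0, 2))
      rw [neg_mul, hu, hu, ← map_mul, ← map_mul, ← Matrix.mul_kronecker_mul, ← Matrix.mul_kronecker_mul,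
        ← map_mul Φ, ← map_mul Φ, ← map_mul Φ, ← map_mul Φ]
      exact h
  · rw [isometry_iff_gram hG _ (hu (0, 2)), ← Matrix.kroneckerMap_transpose, ← Matrix.mul_kronecker_mul,
      ← Matrix.mul_kronecker_mul, mul_one, ← mat3_transpose, ← mat3_transpose, ← mat3_rot hq, ← map_mul,
      ← map_mul, ← map_mul, qZ_form, dZ_form, map_one, mat3_rot]
  · rw [hu, qZ_zero, map_one]
    congr 2
    ext i j
    fin_cases i <;> fin_cases j <;> simp [Φ, mat3, dZ]

/-- A matrix commuting with `1 ⊗ rot` is a combination of `A ⊗ 1` and `B ⊗ rot`. -/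
theorem split_of_commute {X : Matrix (Fin 2 × Fin 2) (Fin 2 × Fin 2) F}
    (h : X * ((1 : Matrix (Fin 2) (Fin 2) F) ⊗ₖ rot F) = ((1 : Matrix (Fin 2) (Fin 2) F) ⊗ₖ rot F) * X) :
    ∃ A B' : Matrix (Fin 2) (Fin 2) F, X = A ⊗ₖ 1 + B' ⊗ₖ rot F := by
  refine ⟨Matrix.of fun p p' => X (p, 0) (p', 0), Matrix.of fun p p' => X (p, 0) (p', 1), ?_⟩
  have h' := fun p p' i j => congrFun (congrFun h (p, i)) (p', j)
  simp only [Matrix.mul_apply, Fintype.sum_prod_type, Fin.sum_univ_two, Matrix.kroneckerMap_apply] at h'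
  ext ⟨p, i⟩ ⟨p', j⟩
  have h00 := h' p p' 0 0
  have h01 := h' p p' 0 1
  fin_cases p <;> fin_cases p' <;> simp [rot, Matrix.one_apply] at h00 h01 <;>
    fin_cases i <;> fin_cases j <;>
      simp [Matrix.add_apply, Matrix.kroneckerMap_apply, rot] <;>
        first | linear_combination -h00 | linear_combination h00 | linear_combination h01 | linear_combination -h01

/-- An isometry of `rot ⊗ 1` that commutes with `1 ⊗ rot` is a pure tensor. -/
theorem pure_of_isometry (h2 : (2 : F) ≠ 0) {A B' : Matrix (Fin 2) (Fin 2) F}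
    (h : (A ⊗ₖ 1 + B' ⊗ₖ rot F)ᵀ * (rot F ⊗ₖ 1) * (A ⊗ₖ 1 + B' ⊗ₖ rot F) = rot F ⊗ₖ 1) :
    ∃ (a : Matrix (Fin 2) (Fin 2) F) (x y : F), a.det ≠ 0 ∧ (x ≠ 0 ∨ y ≠ 0) ∧
      A ⊗ₖ 1 + B' ⊗ₖ rot F = a ⊗ₖ (x • 1 + y • rot F) := by
  have h' := fun i j p p' => congrFun (congrFun h (i, p)) (j, p')
  simp only [Matrix.mul_apply, Fintype.sum_prod_type, Fin.sum_univ_two, Matrix.transpose_apply,
    Matrix.add_apply, Matrix.kroneckerMap_apply, rot] at h'
  have e1 : A.det + B'.det = 1 := by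
    have := h' 0 1 0 0
    simp at this
    rw [Matrix.det_fin_two, Matrix.det_fin_two]
    linear_combination this
  have e2 : A 0 0 * B' 1 0 - A 1 0 * B' 0 0 = 0 := by
    have := h' 0 0 0 1
    simp at this
    have h3 : (2 : F) * (A 0 0 * B' 1 0 - A 1 0 * B' 0 0) = 0 := by linear_combination this
    exact (mul_eq_zero.1 h3).resolve_left h2
  have e3 : A 0 1 * B' 1 1 - A 1 1 * B' 0 1 = 0 := by
    have := h' 1 1 0 1
    simp at this
    have h3 : (2 : F) * (A 0 1 * B' 1 1 - A 1 1 * B' 0 1) = 0 := by linear_combination this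
    exact (mul_eq_zero.1 h3).resolve_left h2
  have e4 : (A 0 0 * B' 1 1 - A 1 0 * B' 0 1) - (B' 0 0 * A 1 1 - B' 1 0 * A 0 1) = 0 := by
    have := h' 0 1 0 1
    simp at this
    linear_combination this
  by_cases hA : A.det = 0
  · have hB : B'.det ≠ 0 := fun hB => zero_ne_one (α := F) (by rw [← e1, hA, hB, add_zero])
    rw [Matrix.det_fin_two] at hB hA
    set d := B' 0 0 * B' 1 1 - B' 0 1 * B' 1 0 with hd
    set s := (A 0 0 * B' 1 1 - A 1 0 * B' 0 1) / d with hs
    have hAs : A = s • B' := by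
      ext i j
      fin_cases i <;> fin_cases j <;>
        simp [hs, div_mul_eq_mul_div, eq_div_iff hB] <;> rw [hd]
      · linear_combination (-B' 0 1) * e2
      · linear_combination (-B' 0 1) * e4 + B' 0 0 * e3
      · linear_combination (-B' 1 1) * e2
      · linear_combination (-B' 1 1) * e4 + B' 1 0 * e3
    refine ⟨B', s, 1, by rw [Matrix.det_fin_two]; exact hB, Or.inr one_ne_zero, ?_⟩
    rw [hAs, one_smul, Matrix.kronecker_add, Matrix.kronecker_smul, Matrix.smul_kronecker]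
  · rw [Matrix.det_fin_two] at hA
    set d := A 0 0 * A 1 1 - A 0 1 * A 1 0 with hd
    set s := (B' 0 0 * A 1 1 - B' 1 0 * A 0 1) / d with hs
    have hBs : B' = s • A := by
      ext i j
      fin_cases i <;> fin_cases j <;>
        simp [hs, div_mul_eq_mul_div, eq_div_iff hA] <;> rw [hd]
      · linear_combination (-A 0 1) * e2 * (-1)
      · linear_combination (A 0 1) * e4 - A 0 0 * e3
      · linear_combination (-A 1 1) * e2 * (-1)
      · linear_combination (A 1 1) * e4 - A 1 0 * e3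
    refine ⟨A, 1, s, by rw [Matrix.det_fin_two]; exact hA, Or.inl one_ne_zero, ?_⟩
    rw [hBs, one_smul, Matrix.kronecker_add, Matrix.kronecker_smul, Matrix.smul_kronecker]

/-- Over three elements a unitary structure in dimension four gives a group of symplectic type. -/
theorem unitary_three (hq : Fintype.card F = 3) {H : Subgroup GV} (hH : H ≤ Sp)
    {K : Subalgebra F (Matrix ι₄ ι₄ F)} (hK : IsFieldSubalgebra 2 K) (hle : H ≤ subalgebraNormalizer K)
    (hadj : ∀ k ∈ K, adj (RingEquiv.refl F) (ω) k ∈ K) (hne : ∃ k ∈ K, adj (RingEquiv.refl F) (ω) k ≠ k) :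
    ∃ R : Subgroup GV, IsSympTypeData 2 R ∧ H ≤ subgroupNormalizer R := by
  classical
  have hf := isRefl (m := 2) (F := F)
  have h2 := two_ne_zero_three hq
  have h3 := three_eq_zero_of_card_three hq
  obtain ⟨k, hk, hkne⟩ := hne
  set k₀ := k - adj (RingEquiv.refl F) (ω) k with hk₀def
  have hk₀ : k₀ ∈ K := K.sub_mem hk (hadj k hk)
  have hk₀ne : k₀ ≠ 0 := sub_ne_zero.2 fun h => hkne h.symm
  have hk₀adj : adj (RingEquiv.refl F) (ω) k₀ = -k₀ := by
    symm
    refine hf.adj_unique fun u v => ?_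
    have e : ω ((adj (RingEquiv.refl F) (ω) k) *ᵥ u) v = ω u (k *ᵥ v) := by rw [hf.adj_spec, hf.adj_adj]
    rw [hk₀def, Matrix.sub_mulVec, hf.sub_left, hf.adj_spec, e, neg_sub, Matrix.sub_mulVec, hf.sub_right]
  have hskew : ∀ u v : V, ω (k₀ *ᵥ u) v = -ω u (k₀ *ᵥ v) := fun u v => by
    rw [hf.adj_spec, hk₀adj, Matrix.neg_mulVec, hf.neg_right]
  -- field facts
  have hdiv : ∀ x ∈ K, ∀ y ∈ K, x * y = 0 → x = 0 ∨ y = 0 := fun x hx y hy hxy => by
    by_contra hcon
    rw [not_or] at hcon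
    obtain ⟨z, hz, hxz⟩ := hK.inv x hx hcon.1
    refine hcon.2 ?_
    calc y = (x * z) * y := by rw [hxz, one_mul]
      _ = z * (x * y) := by rw [hK.comm x hx z hz, mul_assoc]
      _ = 0 := by rw [hxy, mul_zero]
  have hk2 : k₀ * k₀ = -1 := by
    obtain ⟨c, hc⟩ := CfsgLib.OrthFields57.selfAdjoint_scalar hf hK ⟨k, hk, hkne⟩ (k₀ * k₀)
      (K.mul_mem hk₀ hk₀) (by rw [hf.adj_mul, hk₀adj, neg_mul_neg])
    rcases cases_card_three hq c with rfl | rfl | rfl
    · rw [zero_smul] at hc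
      exact absurd ((hdiv _ hk₀ _ hk₀ hc).elim id id) hk₀ne
    · exfalso
      rw [one_smul] at hc
      have h1 : (k₀ - 1) * (k₀ + 1) = 0 := by
        rw [sub_mul, one_mul, mul_add, mul_one, hc]; abel
      have hsa : adj (RingEquiv.refl F) (ω) k₀ = k₀ := by
        rcases hdiv _ (K.sub_mem hk₀ K.one_mem) _ (K.add_mem hk₀ K.one_mem) h1 with h | h
        · rw [sub_eq_zero] at h; rw [h, hf.adj_one]
        · rw [add_eq_zero_iff_eq_neg] at h
          rw [h, ← neg_one_smul F (1 : Matrix ι₄ ι₄ F), hf.adj_smul, hf.adj_one, RingEquiv.refl_apply]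
      rw [hk₀adj] at hsa
      apply hk₀ne
      have : (2 : F) • k₀ = 0 := by rw [two_smul]; nth_rw 1 [← hsa]; exact neg_add_cancel k₀
      exact (smul_eq_zero.1 this).resolve_left h2
    · rw [neg_one_smul] at hc; exact hc
  have hkk : ∀ u : V, k₀ *ᵥ (k₀ *ᵥ u) = -u := fun u => by
    rw [Matrix.mulVec_mulVec, hk2, Matrix.neg_mulVec, Matrix.one_mulVec]
  have hsym : ∀ u v : V, ω u (k₀ *ᵥ v) = ω v (k₀ *ᵥ u) := fun u v => by
    have h1 := hskew v u
    rw [hf.refl (k₀ *ᵥ v) u, RingEquiv.refl_apply] at *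
    linear_combination -h1
  -- a vector isotropic for the hermitian form
  obtain ⟨v, hv0, hvv⟩ : ∃ v : V, v ≠ 0 ∧ ω v (k₀ *ᵥ v) = 0 := by
    by_cases hall : ∀ a : V, a ≠ 0 → ω a (k₀ *ᵥ a) ≠ 0
    swap
    · push Not at hall
      exact hall
    let a : V := Pi.single (Sum.inl 0) 1
    have ha : a ≠ 0 := by simp [a]
    let g : V →ₗ[F] F × F :=
      { toFun := fun y => (ω y a, ω y (k₀ *ᵥ a))
        map_add' := fun p q => by simp [hf.sesq.add_left]
        map_smul' := fun c p => by simp [hf.sesq.smul_left] }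
    have hker : LinearMap.ker g ≠ ⊥ := LinearMap.ker_ne_bot_of_finrank_lt (by simp)
    obtain ⟨b, hb, hb0⟩ := (Submodule.ne_bot_iff _).1 hker
    have hba : ω b a = 0 := congrArg Prod.fst (LinearMap.mem_ker.1 hb)
    have hbk : ω b (k₀ *ᵥ a) = 0 := congrArg Prod.snd (LinearMap.mem_ker.1 hb)
    have hak : ω a (k₀ *ᵥ b) = 0 := by rw [hsym]; exact hbk
    have hab : ω a b = 0 := hf.orth_comm hba
    have hnz : ∀ b' : V, ω b' (k₀ *ᵥ a) = 0 → a + b' ≠ 0 := fun b' h he => by
      have e : b' = -a := eq_neg_of_add_eq_zero_right he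
      rw [e, hf.neg_left, neg_eq_zero] at h
      exact hall a ha h
    have hcomb : ∀ b' : V, ω b' (k₀ *ᵥ a) = 0 → ω (a + b') (k₀ *ᵥ (a + b')) = ω a (k₀ *ᵥ a) + ω b' (k₀ *ᵥ b') := by
      intro b' h
      rw [Matrix.mulVec_add, hf.sesq.add_left, hf.sesq.add_right, hf.sesq.add_right, hsym a b', h]
      ring
    have hq1 := hall a ha
    have hq2 := hall b hb0
    rcases cases_card_three hq (ω a (k₀ *ᵥ a) + ω b (k₀ *ᵥ b)) with h | h | h
    · exact absurd ((hcomb b hbk).trans h) (hall _ (hnz b hbk))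
    all_goals
      have hkab : ω (k₀ *ᵥ b) (k₀ *ᵥ a) = 0 := by rw [hskew, hkk, hf.neg_right, hba, neg_neg]
      have hb' : ω (b + k₀ *ᵥ b) (k₀ *ᵥ a) = 0 := by rw [hf.sesq.add_left, hbk, hkab, add_zero]
      refine absurd ?_ (hall _ (hnz _ hb'))
      rw [hcomb _ hb', Matrix.mulVec_add, hkk, hf.sesq.add_left, hf.sesq.add_right, hf.sesq.add_right,
        hf.neg_right, hf.neg_right, omega_self, omega_self, hskew b b]
      rcases cases_card_three hq (ω a (k₀ *ᵥ a)) with h' | h' | h'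
      · exact absurd h' hq1
      all_goals
        rcases cases_card_three hq (ω b (k₀ *ᵥ b)) with h'' | h'' | h''
        · exact absurd h'' hq2
        all_goals
          rw [h', h''] at h ⊢
          first | linear_combination h3 | linear_combination -h3 | linear_combination h | linear_combination -h
  -- a partner
  have hkv : ∀ c : F, c • v ≠ k₀ *ᵥ v := fun c hc => by
    have h1 : k₀ *ᵥ (c • v) = -v := by rw [hc, hkk]
    rw [Matrix.mulVec_smul, ← hc, smul_smul] at h1
    have h4 : (c * c + 1) • v = 0 := by rw [add_smul, one_smul, h1, neg_add_cancel]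
    have h5 := (smul_eq_zero.1 h4).resolve_right hv0
    rcases cases_card_three hq c with rfl | rfl | rfl
    · simp at h5
    · exact h2 (by linear_combination h5)
    · exact h2 (by linear_combination h5)
  obtain ⟨w₁, hw1, hw2⟩ : ∃ w₁ : V, ω v w₁ = 1 ∧ ω v (k₀ *ᵥ w₁) = 0 := by
    let g : V →ₗ[F] F × F :=
      { toFun := fun y => (ω v y, ω v (k₀ *ᵥ y))
        map_add' := fun p q => by simp [Matrix.mulVec_add, hf.sesq.add_right]
        map_smul' := fun c p => by simp [Matrix.mulVec_smul, hf.sesq.smul_right] }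
    have hsurj : Function.Surjective g := by
      rw [← LinearMap.range_eq_top]
      refine Submodule.eq_top_of_finrank_eq ?_
      have hkey : LinearMap.ker g ≤ hf.perp (Submodule.span F {v} ⊔ Submodule.span F {k₀ *ᵥ v}) := by
        intro y hy z hz
        obtain ⟨a, ha, b, hb, rfl⟩ := Submodule.mem_sup.1 hz
        obtain ⟨c, rfl⟩ := Submodule.mem_span_singleton.1 ha
        obtain ⟨c', rfl⟩ := Submodule.mem_span_singleton.1 hb
        have h1 : ω v y = 0 := congrArg Prod.fst (LinearMap.mem_ker.1 hy)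
        have h1' : ω v (k₀ *ᵥ y) = 0 := congrArg Prod.snd (LinearMap.mem_ker.1 hy)
        rw [hf.sesq.add_right, hf.sesq.smul_right, hf.sesq.smul_right, hf.orth_comm h1, ← hsym v y, h1',
          mul_zero, mul_zero, add_zero]
      have h4 := Submodule.finrank_mono hkey
      have hspan : Module.finrank F (Submodule.span F {v} ⊔ Submodule.span F {k₀ *ᵥ v} : Submodule F V) = 2 := by
        rw [← Submodule.span_insert, finrank_span_set_eq_card (s := {v, k₀ *ᵥ v}) ?_]
        · have hne : v ≠ k₀ *ᵥ v := fun h => hkv 1 (by rw [one_smul]; exact h)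
          simp [hne]
        · exact (linearIndepOn_id_pair hv0 hkv)
      have h5 := hf.finrank_perp (Submodule.span F {v} ⊔ Submodule.span F {k₀ *ᵥ v})
      have h6 := LinearMap.finrank_range_add_finrank_ker g
      rw [Module.finrank_fintype_fun_eq_card] at h6
      have h7 := Submodule.finrank_le (LinearMap.range g)
      simp only [Module.finrank_prod, Module.finrank_self] at h7 ⊢
      simp only [Fintype.card_sum, Fintype.card_fin] at h5 h6
      omega
    obtain ⟨y, hy⟩ := hsurj (1, 0)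
    exact ⟨y, congrArg Prod.fst hy, congrArg Prod.snd hy⟩
  obtain ⟨w, hvw, hvkw, hww⟩ : ∃ w : V, ω v w = 1 ∧ ω v (k₀ *ᵥ w) = 0 ∧ ω w (k₀ *ᵥ w) = 0 := by
    refine ⟨w₁ + ω w₁ (k₀ *ᵥ w₁) • (k₀ *ᵥ v), ?_, ?_, ?_⟩
    · rw [hf.sesq.add_right, hf.sesq.smul_right, RingEquiv.refl_apply, hvv, hw1, mul_zero, add_zero]
    · rw [Matrix.mulVec_add, Matrix.mulVec_smul, hkk, hf.sesq.add_right, hf.sesq.smul_right, RingEquiv.refl_apply,
        hf.neg_right, omega_self, hw2]; ring
    · rw [Matrix.mulVec_add, Matrix.mulVec_smul, hkk, hf.sesq.add_left, hf.sesq.add_right, hf.sesq.add_right,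
        hf.sesq.smul_left, hf.sesq.smul_left, hf.sesq.smul_right, hf.sesq.smul_right, RingEquiv.refl_apply,
        hf.neg_right, hf.neg_right, hskew v (k₀ *ᵥ w₁), hkk, hf.neg_right, hskew v v, hf.refl v w₁,
        RingEquiv.refl_apply, hw1, hvv]
      linear_combination (ω w₁ (k₀ *ᵥ w₁)) * h3
  -- coordinates
  let col : Fin 2 × Fin 2 → V := fun p => if p.2 = 0 then ![v, w] p.1 else -(k₀ *ᵥ ![v, w] p.1)
  let e : ι₄ ≃ Fin 2 × Fin 2 := Fintype.equivOfCardEq (by simp)
  let M : Matrix ι₄ ι₄ F := Matrix.of fun i j => col (e j) i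
  have hMv : ∀ x : Fin 2 × Fin 2 → F, M *ᵥ (x ∘ e) = ∑ p, x p • col p := fun x => by
    rw [← e.sum_comp (fun p => x p • col p)]
    funext i
    simp only [M, Matrix.mulVec, dotProduct, Function.comp_apply, Finset.sum_apply, Pi.smul_apply, smul_eq_mul,
      Matrix.of_apply, mul_comm]
  have hwv : ω w v = -1 := by rw [hf.refl v w, RingEquiv.refl_apply, hvw, mul_one]
  have hwkv : ω w (k₀ *ᵥ v) = 0 := by rw [hsym]; exact hvkw
  have hgram : ∀ p q, ω (col p) (col q) = (rot F ⊗ₖ (1 : Matrix (Fin 2) (Fin 2) F)) p q := by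
    rintro ⟨p, i⟩ ⟨q, j⟩
    fin_cases p <;> fin_cases i <;> fin_cases q <;> fin_cases j <;>
      simp [col, rot, Matrix.kroneckerMap_apply, hf.neg_left, hf.neg_right, hskew, hkk, hvv, hvw, hvkw, hww, hwv,
        hwkv, omega_self]
  have hform : ∀ x y : Fin 2 × Fin 2 → F, ω (M *ᵥ (x ∘ e)) (M *ᵥ (y ∘ e)) =
      x ⬝ᵥ ((rot F ⊗ₖ 1) *ᵥ y) := fun x y => by
    rw [hMv, hMv, hf.sesq.sum_left, dotProduct]
    refine Finset.sum_congr rfl fun p _ => ?_
    rw [hf.sesq.smul_left, hf.sesq.sum_right, Matrix.mulVec, dotProduct]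
    congr 1
    refine Finset.sum_congr rfl fun q _ => ?_
    rw [hf.sesq.smul_right, RingEquiv.refl_apply, hgram, mul_comm]
  have hMinj : Function.Injective fun z => M *ᵥ z := by
    intro z z' h
    have hx : ∀ x : Fin 2 × Fin 2 → F, x ⬝ᵥ ((rot F ⊗ₖ (1 : Matrix (Fin 2) (Fin 2) F)) *ᵥ ((z - z') ∘ e.symm)) = 0 := by
      intro x
      rw [← hform, show ((z - z') ∘ e.symm) ∘ e = z - z' from funext fun i => by simp, Matrix.mulVec_sub,
        show M *ᵥ z = M *ᵥ z' from h, sub_self, hf.zero_right]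
    have h0 : (rot F ⊗ₖ (1 : Matrix (Fin 2) (Fin 2) F)) *ᵥ ((z - z') ∘ e.symm) = 0 :=
      funext fun i => by simpa using hx (Pi.single i 1)
    have h1 := congrArg (fun u => (rot F ⊗ₖ (1 : Matrix (Fin 2) (Fin 2) F)) *ᵥ u) h0
    simp only [Matrix.mulVec_mulVec, ← Matrix.mul_kronecker_mul, rot_mul_self, one_mul, Matrix.mulVec_zero] at h1
    funext i
    have h4 := congrFun h1 (e i)
    rw [show (-1 : Matrix (Fin 2) (Fin 2) F) = (-1 : F) • 1 by simp, Matrix.smul_kronecker,
      Matrix.one_kronecker_one, Matrix.smul_mulVec, Matrix.one_mulVec] at h4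
    simp [sub_eq_zero] at h4
    exact h4.symm
  have hMu : IsUnit M := Matrix.mulVec_injective_iff_isUnit.1 hMinj
  let P : GV := hMu.unit
  have hP : mat P = M := hMu.unit_spec
  have hG : ∀ x y, ω (coords e P x) (coords e P y) = x ⬝ᵥ ((rot F ⊗ₖ 1) *ᵥ y) := fun x y => by
    rw [coords_apply, coords_apply, hP]; exact hform x y
  have hk₀T : k₀ = tensorEquiv e P ((1 : Matrix (Fin 2) (Fin 2) F) ⊗ₖ rot F) := by
    apply Matrix.toLin'.injective
    refine LinearMap.ext fun z => ?_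
    obtain ⟨x, rfl⟩ := (coords e P).surjective z
    rw [Matrix.toLin'_apply, Matrix.toLin'_apply, tensorEquiv_mulVec, coords_apply, coords_apply, hP, hMv, hMv,
      Matrix.mulVec_sum]
    simp only [Matrix.mulVec_smul, Fintype.sum_prod_type, Fin.sum_univ_two, col, Matrix.mulVec, dotProduct,
      Matrix.kroneckerMap_apply]
    have e1 : ∀ u : V, k₀ *ᵥ (-(k₀ *ᵥ u)) = u := fun u => by rw [Matrix.mulVec_neg, hkk, neg_neg]
    simp [rot, e1]
    abel
  obtain ⟨R, hR, hnorm, r, hrN, hrS, hr⟩ := tensor_three hq hG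
  refine ⟨R, hR, ?_⟩
  have hlin : ∀ g : GV, g ∈ Sp → mat g * k₀ = k₀ * mat g → g ∈ subgroupNormalizer R := by
    intro g hgS hgk
    obtain ⟨X, hX⟩ := (tensorEquiv e P).surjective (mat g)
    rw [hk₀T, ← hX, ← map_mul, ← map_mul] at hgk
    obtain ⟨A, B', rfl⟩ := split_of_commute ((tensorEquiv e P).injective hgk)
    obtain ⟨a, x, y, ha, hxy, hab⟩ := pure_of_isometry h2 ((isometry_iff_gram hG _ hX.symm).1 hgS)
    exact hnorm g a x y ha hxy (by rw [← hX, hab])
  intro g hg
  have hgS := hH hg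
  have hiso : ∀ u v, ω (mat g *ᵥ u) (mat g *ᵥ v) = ω u v := CfsgLib.MaxSub.mem_spGL_iff.1 hgS
  have hk' := ((hle hg) k₀).1 hk₀
  set k' := mat g * k₀ * mat g⁻¹ with hk'def
  have hk'2 : k' * k' = -1 := by
    rw [hk'def]
    calc mat g * k₀ * mat g⁻¹ * (mat g * k₀ * mat g⁻¹)
        = mat g * (k₀ * (mat g⁻¹ * mat g) * k₀) * mat g⁻¹ := by simp only [mul_assoc]
      _ = -1 := by rw [mat_inv_mul, mul_one, hk2, mul_neg, mul_one, neg_mul, mat_mul_inv]
  have hor : k' = k₀ ∨ k' = -k₀ := by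
    have h1 : (k' - k₀) * (k' + k₀) = 0 := by
      rw [sub_mul, mul_add, mul_add, hk'2, hk2, hK.comm k₀ hk₀ k' hk']; abel
    rcases hdiv _ (K.sub_mem hk' hk₀) _ (K.add_mem hk' hk₀) h1 with h | h
    · exact Or.inl (sub_eq_zero.1 h)
    · exact Or.inr (eq_neg_of_add_eq_zero_left h)
  have hmove : mat g * k₀ = k' * mat g := by
    rw [hk'def, mul_assoc (mat g * k₀), mat_inv_mul, mul_one]
  rcases hor with h | h
  · exact hlin g hgS (by rw [hmove, h])
  · have hgr : g * r ∈ subgroupNormalizer R := by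
      refine hlin _ (mul_mem hgS hrS) ?_
      have hrk : mat r * k₀ = -(k₀ * mat r) := by
        rw [hr, hk₀T, ← map_mul, ← map_mul, ← Matrix.mul_kronecker_mul, ← Matrix.mul_kronecker_mul, ← map_neg,
          one_mul]
        congr 1
        ext ⟨p, i⟩ ⟨q, j⟩
        fin_cases i <;> fin_cases j <;> simp [Matrix.kroneckerMap_apply, rot, Matrix.mul_apply]
      show mat g * mat r * k₀ = k₀ * (mat g * mat r)
      rw [mul_assoc, hrk, mul_neg, ← mul_assoc, hmove, h, neg_mul, neg_mul, neg_neg, mul_assoc]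
    have h := mul_mem hgr (inv_mem hrN)
    rwa [mul_inv_cancel_right] at h

/-- Over three elements a pair of Lagrangians gives a decomposition into two planes. -/
theorem pair_three (hq : Fintype.card F = 3) {H : Subgroup GV} (hH : H ≤ Sp) {D : Fin 2 → Submodule F V}
    (hD : IsMDecomposition 2 D) (hts : ∀ i, IsTotallySingularFor (ω) (D i))
    (hle : H ≤ decompositionStabilizer D) :
    ∃ D' : Fin 2 → Submodule F V, IsNondegenerateMDecomposition (ω) 2 D' ∧ H ≤ decompositionStabilizer D' := by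
  classical
  have hf := isRefl (m := 2) (F := F)
  have h2 := two_ne_zero_three hq
  have htop : D 0 ⊔ D 1 = ⊤ := by
    rw [eq_top_iff, ← hD.iSup_eq_top]
    refine iSup_le fun i => ?_
    fin_cases i
    · exact le_sup_left
    · exact le_sup_right
  let b := Module.finBasisOfFinrankEq F (D 0) (hD.finrank_eq 0)
  set e₁ : V := (b 0 : V) with he₁
  set e₂ : V := (b 1 : V) with he₂
  have he : ∀ x ∈ D 0, ∃ s t : F, x = s • e₁ + t • e₂ := fun x hx => by
    refine ⟨b.repr ⟨x, hx⟩ 0, b.repr ⟨x, hx⟩ 1, ?_⟩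
    have := congrArg Subtype.val (b.sum_repr ⟨x, hx⟩)
    rw [Fin.sum_univ_two] at this
    exact this.symm
  let g : D 1 →ₗ[F] F × F :=
    { toFun := fun y => (ω e₁ y, ω e₂ y)
      map_add' := fun p q => by simp [hf.sesq.add_right]
      map_smul' := fun c p => by simp [hf.sesq.smul_right] }
  have hginj : Function.Injective g := by
    rw [← LinearMap.ker_eq_bot, Submodule.eq_bot_iff]
    intro y hy
    have h1 : ω e₁ y = 0 := congrArg Prod.fst (LinearMap.mem_ker.1 hy)
    have h1' : ω e₂ y = 0 := congrArg Prod.snd (LinearMap.mem_ker.1 hy)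
    by_contra hy0
    obtain ⟨x, hx⟩ := (hf.nondegenerate (y : V) (fun h => hy0 (Subtype.ext h))).1
    obtain ⟨a, ha, c, hc, rfl⟩ := Submodule.mem_sup.1 (htop ▸ Submodule.mem_top : x ∈ D 0 ⊔ D 1)
    obtain ⟨s, t, rfl⟩ := he a ha
    exact hx (by rw [hf.sesq.add_left, hf.sesq.add_left, hf.sesq.smul_left, hf.sesq.smul_left, h1, h1',
      hts 1 c hc y y.2]; ring)
  have hgsurj : Function.Surjective g :=
    (LinearMap.injective_iff_surjective_of_finrank_eq_finrank (by rw [hD.finrank_eq]; simp)).1 hginj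
  obtain ⟨f₁', hf₁⟩ := hgsurj (1, 0)
  obtain ⟨f₂', hf₂⟩ := hgsurj (0, 1)
  set f₁ : V := (f₁' : V) with hf₁def
  set f₂ : V := (f₂' : V) with hf₂def
  have e1f1 : ω e₁ f₁ = 1 := congrArg Prod.fst hf₁
  have e2f1 : ω e₂ f₁ = 0 := congrArg Prod.snd hf₁
  have e1f2 : ω e₁ f₂ = 0 := congrArg Prod.fst hf₂
  have e2f2 : ω e₂ f₂ = 1 := congrArg Prod.snd hf₂
  have hfc : ∀ y ∈ D 1, ∃ s t : F, y = s • f₁ + t • f₂ := fun y hy => by
    refine ⟨ω e₁ y, ω e₂ y, congrArg Subtype.val (hginj (a₁ := ⟨y, hy⟩)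
      (a₂ := ω e₁ y • f₁' + ω e₂ y • f₂') ?_)⟩
    rw [map_add, map_smul, map_smul, hf₁, hf₂]
    simp [g]
  have f1e1 : ω f₁ e₁ = -1 := by rw [hf.refl e₁ f₁, RingEquiv.refl_apply, e1f1, mul_one]
  have f1e2 : ω f₁ e₂ = 0 := hf.orth_comm e2f1
  have f2e1 : ω f₂ e₁ = 0 := hf.orth_comm e1f2
  have f2e2 : ω f₂ e₂ = -1 := by rw [hf.refl e₂ f₂, RingEquiv.refl_apply, e2f2, mul_one]
  have ee : ω e₁ e₂ = 0 ∧ ω e₂ e₁ = 0 := ⟨hts 0 _ (b 0).2 _ (b 1).2, hts 0 _ (b 1).2 _ (b 0).2⟩
  have ff : ω f₁ f₂ = 0 ∧ ω f₂ f₁ = 0 := ⟨hts 1 _ f₁'.2 _ f₂'.2, hts 1 _ f₂'.2 _ f₁'.2⟩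
  let p : F → V := fun c => e₁ + c • f₂
  let q : F → V := fun c => e₂ - c • f₁
  let U : F → Submodule F V := fun c => Submodule.span F {p c, q c}
  let D' : Fin 2 → Submodule F V := ![U 1, U (-1)]
  have hpq : ∀ c d : F, ω (p c) (q d) = -c - d ∧ ω (q d) (p c) = c + d ∧ ω (p c) (p d) = 0 ∧ ω (q c) (q d) = 0 := by
    intro c d
    refine ⟨?_, ?_, ?_, ?_⟩ <;>
      simp only [p, q, hf.sesq.add_left, hf.sesq.add_right, hf.sub_left, hf.sub_right, hf.sesq.smul_left,
        hf.sesq.smul_right, RingEquiv.refl_apply, omega_self, e1f1, e2f1, e1f2, e2f2, f1e1, f1e2, f2e1, f2e2,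
        ee.1, ee.2, ff.1, ff.2] <;> ring
  have hmemU : ∀ c x, x ∈ U c ↔ ∃ s t : F, s • p c + t • q c = x := fun c x => Submodule.mem_span_pair
  have horth : ∀ c, c ≠ 0 → ∀ x ∈ U c, ∀ y ∈ U (-c), ω x y = 0 := by
    intro c _ x hx y hy
    obtain ⟨s, t, rfl⟩ := (hmemU _ _).1 hx
    obtain ⟨s', t', rfl⟩ := (hmemU _ _).1 hy
    simp only [hf.sesq.add_left, hf.sesq.add_right, hf.sesq.smul_left, hf.sesq.smul_right, RingEquiv.refl_apply,
      (hpq c (-c)).1, (hpq (-c) c).2.1, (hpq c (-c)).2.2.1, (hpq c (-c)).2.2.2]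
    ring
  have hnd : ∀ c, c ≠ 0 → IsNondegenerateOn (ω) (U c) ∧ Module.finrank F (U c) = 2 := by
    intro c hc
    have h2c : c + c ≠ 0 := fun h => hc ((mul_eq_zero.1 (by linear_combination h : (2 : F) * c = 0)).resolve_left h2)
    have hval : ∀ s t : F, ω (s • p c + t • q c) (p c) = t * (c + c) ∧
        ω (s • p c + t • q c) (q c) = -(s * (c + c)) := fun s t => by
      constructor <;>
        simp only [hf.sesq.add_left, hf.sesq.smul_left, (hpq c c).1, (hpq c c).2.1, (hpq c c).2.2.1,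
          (hpq c c).2.2.2] <;> ring
    refine ⟨fun x hx hx0 => ?_, ?_⟩
    · obtain ⟨s, t, rfl⟩ := (hmemU _ _).1 hx
      have hst : ∃ z ∈ U c, ω (s • p c + t • q c) z ≠ 0 := by
        by_cases ht : t = 0
        · have hs : s ≠ 0 := fun hs => hx0 (by rw [hs, ht, zero_smul, zero_smul, add_zero])
          exact ⟨q c, Submodule.subset_span (by simp), by rw [(hval s t).2]; exact neg_ne_zero.2 (mul_ne_zero hs h2c)⟩
        · exact ⟨p c, Submodule.subset_span (by simp), by rw [(hval s t).1]; exact mul_ne_zero ht h2c⟩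
      obtain ⟨z, hz, hz0⟩ := hst
      exact ⟨⟨z, hz, fun h => hz0 (hf.orth_comm h)⟩, z, hz, hz0⟩
    · have hli : LinearIndependent F ![p c, q c] := LinearIndependent.pair_iff.2 fun s t h => by
        have h1 := (hval s t).1
        have h1' := (hval s t).2
        rw [h, hf.zero_left] at h1 h1'
        exact ⟨(mul_eq_zero.1 (neg_eq_zero.1 h1'.symm)).resolve_right h2c,
          (mul_eq_zero.1 h1.symm).resolve_right h2c⟩
      have h4 := finrank_span_eq_card hli
      rw [Matrix.range_cons_cons_empty] at h4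
      simpa using h4
  have hdec : IsMDecomposition 2 D' := by
    have hdim : ∀ i, Module.finrank F (D' i) = 2 := fun i => by
      fin_cases i
      · exact (hnd 1 one_ne_zero).2
      · exact (hnd (-1) (by simp)).2
    have hdisj : U 1 ⊓ U (-1) = ⊥ := by
      rw [eq_bot_iff]
      intro x hx
      rw [Submodule.mem_bot]
      by_contra hx0
      obtain ⟨-, z, hz, hz0⟩ := (hnd 1 one_ne_zero).1 x hx.1 hx0
      exact hz0 (hf.orth_comm (horth 1 one_ne_zero z hz x hx.2))
    refine ⟨le_rfl, by norm_num, hdim, ?_, ?_⟩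
    · rw [iSupIndep_pair (i := (0 : Fin 2)) (j := 1) (by decide) (fun i => by fin_cases i <;> simp)]
      simpa [disjoint_iff, D'] using hdisj
    · rw [eq_top_iff]
      have h4 := Submodule.finrank_sup_add_finrank_inf_eq (U 1) (U (-1))
      rw [hdisj, finrank_bot, (hnd 1 one_ne_zero).2, (hnd (-1) (by simp)).2, add_zero] at h4
      have h5 : U 1 ⊔ U (-1) = ⊤ := Submodule.eq_top_of_finrank_eq (by
        rw [Module.finrank_fintype_fun_eq_card]; simpa using h4)
      rw [← h5]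
      exact sup_le (le_iSup D' 0) (le_iSup D' 1)
  refine ⟨D', ⟨hdec, fun i => ?_, fun i j hij => ?_⟩, fun g hg => mem_decompositionStabilizer_of hdec fun i => ?_⟩
  · fin_cases i
    · exact (hnd 1 one_ne_zero).1
    · exact (hnd (-1) (by simp)).1
  · fin_cases i <;> fin_cases j
    · exact absurd rfl hij
    · exact horth 1 one_ne_zero
    · intro x hx y hy
      exact hf.orth_comm (horth 1 one_ne_zero y hy x hx)
    · exact absurd rfl hij
  -- the action on the two planes
  have hgS : ∀ u w, ω (mat g *ᵥ u) (mat g *ᵥ w) = ω u w := CfsgLib.MaxSub.mem_spGL_iff.1 (hH hg)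
  obtain ⟨π, hπ⟩ := hle hg
  have hmap : ∀ i, ∀ w ∈ D i, mat g *ᵥ w ∈ D (π i) := fun i w hw => by
    rw [← hπ i]
    exact ⟨w, hw, Matrix.toLin'_apply _ _⟩
  obtain ⟨d, hdU⟩ : ∃ d : F, (d = 1 ∨ d = -1) ∧ ∀ c : F, (c = 1 ∨ c = -1) → ∀ x ∈ U c, mat g *ᵥ x ∈ U (c * d) := by
    suffices h : ∃ d : F, (d = 1 ∨ d = -1) ∧
        ∀ c : F, (c = 1 ∨ c = -1) → mat g *ᵥ p c ∈ U (c * d) ∧ mat g *ᵥ q c ∈ U (c * d) by
      obtain ⟨d, hd, h⟩ := h
      refine ⟨d, hd, fun c hc x hx => ?_⟩
      obtain ⟨s, t, rfl⟩ := (hmemU _ _).1 hx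
      rw [Matrix.mulVec_add, Matrix.mulVec_smul, Matrix.mulVec_smul]
      exact add_mem (Submodule.smul_mem _ _ (h c hc).1) (Submodule.smul_mem _ _ (h c hc).2)
    have hsq : ∀ x : F, x ≠ 0 → x * x = 1 := fun x hx => by
      rcases cases_card_three hq x with rfl | rfl | rfl
      · exact absurd rfl hx
      · ring
      · ring
    rcases (show π 0 = 0 ∧ π 1 = 1 ∨ π 0 = 1 ∧ π 1 = 0 by
      have h01 : π 0 ≠ π 1 := fun h => absurd (π.injective h) (by decide)
      revert h01
      generalize π 0 = a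
      generalize π 1 = b
      revert a b
      decide) with ⟨h0, h1⟩ | ⟨h0, h1⟩
    · obtain ⟨α, γ, ha⟩ := he _ (h0 ▸ hmap 0 _ (b 0).2)
      obtain ⟨β, δ, hb⟩ := he _ (h0 ▸ hmap 0 _ (b 1).2)
      obtain ⟨u₁, r₁, hc⟩ := hfc _ (h1 ▸ hmap 1 _ f₁'.2)
      obtain ⟨u₂, r₂, hd⟩ := hfc _ (h1 ▸ hmap 1 _ f₂'.2)
      rw [← he₁] at ha; rw [← he₂] at hb; rw [← hf₁def] at hc; rw [← hf₂def] at hd
      have E11 := hgS e₁ f₁; have E21 := hgS e₂ f₁; have E12 := hgS e₁ f₂; have E22 := hgS e₂ f₂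
      simp only [ha, hb, hc, hd, hf.sesq.add_left, hf.sesq.add_right, hf.sesq.smul_left, hf.sesq.smul_right,
        RingEquiv.refl_apply, e1f1, e2f1, e1f2, e2f2] at E11 E21 E12 E22
      set d := α * δ - β * γ with hddef
      have hu1 : u₁ * d = δ := by linear_combination δ * E11 - γ * E21
      have hr1 : r₁ * d = -β := by linear_combination α * E21 - β * E11
      have hu2 : u₂ * d = -γ := by linear_combination δ * E12 - γ * E22
      have hr2 : r₂ * d = α := by linear_combination α * E22 - β * E12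
      have hd0 : d ≠ 0 := fun h => zero_ne_one (α := F) (by
        rw [h, mul_zero] at hu1 hr1
        linear_combination E22 + r₂ * hu1 - u₂ * hr1)
      have hdd := hsq d hd0
      refine ⟨d, by rcases mul_self_eq_one_iff.1 hdd with h | h <;> simp [h], fun c _ => ⟨?_, ?_⟩⟩ <;>
        refine (hmemU _ _).2 ?_
      · refine ⟨α, γ, ?_⟩
        rw [show u₂ = -γ * d by linear_combination d * hu2 - u₂ * hdd,
          show r₂ = α * d by linear_combination d * hr2 - r₂ * hdd] at hd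
        simp only [p, q, Matrix.mulVec_add, Matrix.mulVec_smul, ha, hd]
        module
      · refine ⟨β, δ, ?_⟩
        rw [show u₁ = δ * d by linear_combination d * hu1 - u₁ * hdd,
          show r₁ = -β * d by linear_combination d * hr1 - r₁ * hdd] at hc
        simp only [p, q, Matrix.mulVec_sub, Matrix.mulVec_smul, hb, hc]
        module
    · obtain ⟨α, γ, ha⟩ := hfc _ (h0 ▸ hmap 0 _ (b 0).2)
      obtain ⟨β, δ, hb⟩ := hfc _ (h0 ▸ hmap 0 _ (b 1).2)
      obtain ⟨u₁, r₁, hc⟩ := he _ (h1 ▸ hmap 1 _ f₁'.2)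
      obtain ⟨u₂, r₂, hd⟩ := he _ (h1 ▸ hmap 1 _ f₂'.2)
      rw [← he₁] at ha; rw [← he₂] at hb; rw [← hf₁def] at hc; rw [← hf₂def] at hd
      have E11 := hgS e₁ f₁; have E21 := hgS e₂ f₁; have E12 := hgS e₁ f₂; have E22 := hgS e₂ f₂
      simp only [ha, hb, hc, hd, hf.sesq.add_left, hf.sesq.add_right, hf.sesq.smul_left, hf.sesq.smul_right,
        RingEquiv.refl_apply, e1f1, e2f1, e1f2, e2f2, f1e1, f1e2, f2e1, f2e2] at E11 E21 E12 E22
      set d := α * δ - β * γ with hddef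
      have hu1 : u₁ * d = -δ := by linear_combination γ * E21 - δ * E11
      have hr1 : r₁ * d = β := by linear_combination β * E11 - α * E21
      have hu2 : u₂ * d = γ := by linear_combination γ * E22 - δ * E12
      have hr2 : r₂ * d = -α := by linear_combination β * E12 - α * E22
      have hd0 : d ≠ 0 := fun h => zero_ne_one (α := F) (by
        rw [h, mul_zero] at hu1 hr1
        linear_combination E22 + r₂ * hu1 - u₂ * hr1)
      have hdd := hsq d hd0
      refine ⟨d, by rcases mul_self_eq_one_iff.1 hdd with h | h <;> simp [h], fun c hc' => ⟨?_, ?_⟩⟩ <;>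
        refine (hmemU _ _).2 ?_
      · have hcc : c * c = 1 := by rcases hc' with rfl | rfl <;> ring
        refine ⟨c * d * γ, -(c * d * α), ?_⟩
        rw [show u₂ = γ * d by linear_combination d * hu2 - u₂ * hdd,
          show r₂ = -α * d by linear_combination d * hr2 - r₂ * hdd] at hd
        simp only [p, q, Matrix.mulVec_add, Matrix.mulVec_smul, ha, hd]
        match_scalars
        all_goals first | ring1 | linear_combination (α * (d * d)) * hcc + α * hdd |
          linear_combination (γ * (d * d)) * hcc + γ * hdd |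
          linear_combination -((α * (d * d)) * hcc + α * hdd) |
          linear_combination -((γ * (d * d)) * hcc + γ * hdd)
      · have hcc : c * c = 1 := by rcases hc' with rfl | rfl <;> ring
        refine ⟨c * d * δ, -(c * d * β), ?_⟩
        rw [show u₁ = -δ * d by linear_combination d * hu1 - u₁ * hdd,
          show r₁ = β * d by linear_combination d * hr1 - r₁ * hdd] at hc
        simp only [p, q, Matrix.mulVec_sub, Matrix.mulVec_smul, hb, hc]
        match_scalars
        all_goals first | ring1 | linear_combination (β * (d * d)) * hcc + β * hdd |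
          linear_combination (δ * (d * d)) * hcc + δ * hdd |
          linear_combination -((β * (d * d)) * hcc + β * hdd) |
          linear_combination -((δ * (d * d)) * hcc + δ * hdd)
  fin_cases i
  · rcases hdU.1 with rfl | rfl
    · exact ⟨0, fun x hx => by simpa [D'] using hdU.2 1 (Or.inl rfl) x hx⟩
    · exact ⟨1, fun x hx => by simpa [D'] using hdU.2 1 (Or.inl rfl) x hx⟩
  · rcases hdU.1 with rfl | rfl
    · exact ⟨1, fun x hx => by simpa [D'] using hdU.2 (-1) (Or.inr rfl) x hx⟩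
    · exact ⟨0, fun x hx => by simpa [D'] using hdU.2 (-1) (Or.inr rfl) x hx⟩

end CfsgLib.SympThree57
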