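import Cfsg.Agent.Aschbacher57.SympFour
import Cfsg.Agent.Aschbacher57.SympFourThree

/-!
The maximal subgroups of four-dimensional symplectic groups in odd characteristic, up to the residual class.
-/

set_option autoImplicit false
set_option maxHeartbeats 1000000
set_option linter.unusedSectionVars false

namespace CfsgLib.SympFour57

open Matrix Cfsg.Geo CfsgLib.Aschbacher CfsgLib.AschbacherForms CfsgLib.AschbacherSymplectic
  CfsgLib.SympType57
open scoped Kronecker

attribute [-simp] RingEquiv.coe_refl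

variable {F : Type*} [Field F] [Fintype F]

local notation "V" => (Fin 2 ⊕ Fin 2 → F)
local notation "ω" => Cfsg.sympForm 2 F
local notation "Sp" => Cfsg.spGL 2 F
local notation "GV" => GL (Fin 2 ⊕ Fin 2) F

/-- The list for four-dimensional symplectic groups in odd characteristic. -/
inductive OddCase (H : Subgroup GV) : Prop where
  | singular (W : Submodule F V) (h0 : W ≠ ⊥) (hW : IsTotallySingularFor (Cfsg.sympForm 2 F) W)
      (heq : H = subspaceStabilizer W ⊓ Cfsg.spGL 2 F)
  | planes (D : Fin 2 → Submodule F V) (hD : IsNondegenerateMDecomposition (Cfsg.sympForm 2 F) 2 D)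
      (heq : H = decompositionStabilizer D ⊓ Cfsg.spGL 2 F)
  | pair (h5 : 5 ≤ Fintype.card F) (D : Fin 2 → Submodule F V) (hD : IsMDecomposition 2 D)
      (hts : ∀ i, IsTotallySingularFor (Cfsg.sympForm 2 F) (D i))
      (heq : H = decompositionStabilizer D ⊓ Cfsg.spGL 2 F)
  | fieldSelfAdjoint (K : Subalgebra F (Matrix (Fin 2 ⊕ Fin 2) (Fin 2 ⊕ Fin 2) F)) (hK : IsFieldSubalgebra 2 K)
      (hs : IsSelfAdjointFor (Cfsg.sympForm 2 F) K)
      (hal : ∀ k ∈ K, ∀ v : V, Cfsg.sympForm 2 F (Matrix.mulVec k v) v = 0)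
      (heq : H = subalgebraNormalizer K ⊓ Cfsg.spGL 2 F)
  | fieldUnitary (h5 : 5 ≤ Fintype.card F) (K : Subalgebra F (Matrix (Fin 2 ⊕ Fin 2) (Fin 2 ⊕ Fin 2) F))
      (hK : IsFieldSubalgebra 2 K) (hc : IsAdjointClosedFor (Cfsg.sympForm 2 F) K)
      (hs : ¬ IsSelfAdjointFor (Cfsg.sympForm 2 F) K) (heq : H = subalgebraNormalizer K ⊓ Cfsg.spGL 2 F)
  | subfield (F₀ : Subfield F) (r : ℕ) (P : GV) (ζ : F) (hr : r.Prime)
      (hcard : Fintype.card F = Nat.card F₀ ^ r) (hζ : ζ ≠ 0)
      (hrat : IsFormRationalStructure (Cfsg.sympForm 2 F) F₀ ζ P)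
      (heq : H = subfieldSubgroup F₀ P ⊓ Cfsg.spGL 2 F)
  | extraspecial (p : ℕ) (R : Subgroup GV) (hp : p.Prime) (hcard : Fintype.card F = p) (hR : IsSympTypeData 2 R)
      (heq : H = subgroupNormalizer R ⊓ Cfsg.spGL 2 F)
  | residual (h : InSymplecticResidualClass H)

variable {H : Subgroup (GL (Fin 2 ⊕ Fin 2) F)}

theorem three_or_five (hodd : Odd (Fintype.card F)) : Fintype.card F = 3 ∨ 5 ≤ Fintype.card F := by
  have := Fintype.one_lt_card (α := F)
  obtain ⟨k, hk⟩ := hodd
  omega

/-- Pairs of Lagrangians. -/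
theorem pair_case (hodd : Odd (Fintype.card F)) (hH : IsMaximalIn (Sp) H) {D : Fin 2 → Submodule F V}
    (hD : IsMDecomposition 2 D) (hts : ∀ i, IsTotallySingularFor (ω) (D i))
    (hle : H ≤ decompositionStabilizer D) : OddCase H := by
  rcases three_or_five hodd with hq | hq
  · obtain ⟨D', hD', hle'⟩ := CfsgLib.SympThree57.pair_three hq hH.1.le hD hts hle
    exact .planes D' hD' (eq_inf_of_maximal hH hle' (not_le_decomposition hD'.decomp le_rfl))
  · exact .pair hq D hD hts (eq_inf_of_maximal hH hle (not_le_decomposition hD le_rfl))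

/-- Quadratic fields that are not self-adjoint. -/
theorem unitary_case (hodd : Odd (Fintype.card F)) (hH : IsMaximalIn (Sp) H)
    {K : Subalgebra F (Matrix (Fin 2 ⊕ Fin 2) (Fin 2 ⊕ Fin 2) F)} (hK : IsFieldSubalgebra 2 K)
    (hle : H ≤ subalgebraNormalizer K) (hadj : ∀ k ∈ K, adj (RingEquiv.refl F) (ω) k ∈ K)
    (hne : ∃ k ∈ K, adj (RingEquiv.refl F) (ω) k ≠ k) : OddCase H := by
  have hf := isRefl (m := 2) (F := F)
  rcases three_or_five hodd with hq | hq
  · obtain ⟨R, hR, hle'⟩ := CfsgLib.SympThree57.unitary_three hq hH.1.le hK hle hadj hne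
    exact .extraspecial 3 R Nat.prime_three hq hR (eq_inf_of_maximal hH hle' hR.proper)
  · refine .fieldUnitary hq K hK (fun x hx => ⟨_, hadj x hx, fun u v => hf.adj_spec x u v⟩) (fun hs => ?_)
      (eq_inf_of_maximal hH hle (not_le_field le_rfl le_rfl hK))
    obtain ⟨k, hk, hk'⟩ := hne
    exact hk' (hf.adj_unique fun u v => hs k hk u v).symm

/-- The maximal subgroups of four-dimensional symplectic groups in odd characteristic. -/
theorem odd_cases (hodd : Odd (Fintype.card F)) (hH : IsMaximalIn (Sp) H) : OddCase H := by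
  classical
  haveI : Nonempty (Fin 2 ⊕ Fin 2) := ⟨Sum.inl 0⟩
  have hf := isRefl (m := 2) (F := F)
  have h2 := CfsgLib.MaxSub.two_ne_zero_of_odd hodd
  have hHS : H ≤ Sp := hH.1.le
  have hfix := fixes_of_le hHS
  have hcard : Fintype.card (Fin 2 ⊕ Fin 2) = 4 := by simp
  have htop : ∀ {W : Submodule F V}, IsTotallySingularFor (ω) W → W ≠ ⊤ := by
    rintro W hW rfl
    have h := hf.two_finrank_le hW
    rw [finrank_top, Module.finrank_fintype_fun_eq_card, hcard] at h
    omega
  have hdec : ∀ {t k : ℕ} {D : Fin t → Submodule F V}, IsNondegenerateMDecomposition (ω) k D →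
      H ≤ decompositionStabilizer D → OddCase H := fun {t k D} hD hle => by
    obtain ⟨rfl, rfl⟩ := decomposition_planes hD
    exact .planes D hD (eq_inf_of_maximal hH hle (not_le_decomposition hD.decomp le_rfl))
  by_cases hirr : ActsIrreducibly (matrixSet H)
  swap
  · rcases CfsgLib.MaxSub.reducible_subspace hf hfix hirr with ⟨W, h0, hts, hle⟩ | ⟨W, h0, h1, hnd, hle, hlep⟩
    · exact .singular W h0 hts (eq_inf_of_maximal hH hle (not_le_subspace h0 (htop hts)))
    have hdim := hf.finrank_perp W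
    rw [hcard] at hdim
    have hpos : 0 < Module.finrank F W := Nat.pos_of_ne_zero fun h => h0 (Submodule.finrank_eq_zero.1 h)
    have hlt : Module.finrank F W < 4 := by
      have := Submodule.finrank_lt h1
      rw [Module.finrank_fintype_fun_eq_card, hcard] at this
      exact this
    have hne1 : Module.finrank F W ≠ 1 := fun h => not_nondegenerate_of_one h hnd
    have hne3 : Module.finrank F W ≠ 3 := fun h => not_nondegenerate_of_three h hnd
    obtain ⟨D, hD, hle'⟩ := CfsgLib.MaxSub.exists_halves hf h0 hnd (by omega) hle hlep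
    exact hdec hD hle'
  rcases star_reduction_spanned (by omega) hf hfix hirr with
    ⟨t, k, D, hD, -, hle⟩ | ⟨k, D, hD, hk, hts, hle, -⟩ | ⟨r, K, hr, -, hK, hle, hadj⟩ |
    ⟨k, d, e, P, S, T, hk, hd, -, hS, hT, hle, hform⟩ | hab | hsp | ⟨P, hP⟩
  · exact hdec hD hle
  · obtain rfl : k = 2 := by omega
    exact pair_case hodd hH hD hts hle
  · have hr2 : r = 2 := (Nat.prime_dvd_prime_iff_eq hr Nat.prime_two).1
      (hr.dvd_of_dvd_pow (n := 2) (by simpa using fieldSubalgebra_finrank_dvd hK))
    subst hr2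
    by_cases hsa : ∀ x ∈ K, adj (RingEquiv.refl F) (ω) x = x
    · exact .fieldSelfAdjoint K hK (fun x hx u v => by rw [hf.adj_spec, hsa x hx])
        (selfAdjoint_alternating hK hsa) (eq_inf_of_maximal hH hle (not_le_field le_rfl le_rfl hK))
    · push Not at hsa
      exact unitary_case hodd hH hK hle hadj hsa
  · -- tensor decompositions have two factors of dimension two, one of them symmetric
    have hkd : k * d = 4 := by simpa using (Fintype.card_congr e).symm
    obtain rfl : k = 2 := by nlinarith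
    obtain rfl : d = 2 := by omega
    have hsym : ∀ {e : (Fin 2 ⊕ Fin 2) ≃ Fin 2 × Fin 2} {S T : Matrix (Fin 2) (Fin 2) F}, IsUnit S → IsUnit T →
        Sᵀ = S → H ≤ tensorProductSubgroup 2 2 e P →
        (∀ x y : Fin 2 × Fin 2 → F, ω (mat P *ᵥ (x ∘ e)) (mat P *ᵥ (y ∘ e)) =
          formOfGram (RingEquiv.refl F) (S ⊗ₖ T) x y) → OddCase H := by
      intro e S T hS hT hSs hle hform
      rcases binary_factor_dichotomy hf h2 hfix hirr hS hT hSs hle hform with
        ⟨m, D, hD, hm, hts, hle'⟩ | ⟨K, hK, hcl, hnsa, hle', -⟩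
      · obtain rfl : m = 2 := by omega
        exact pair_case hodd hH hD hts hle'
      · have hadj : ∀ x ∈ K, adj (RingEquiv.refl F) (ω) x ∈ K := fun x hx => by
          obtain ⟨x', hx', h⟩ := hcl x hx
          exact hf.adj_unique h ▸ hx'
        refine unitary_case hodd hH hK hle' hadj ?_
        by_contra hall
        push Not at hall
        exact hnsa fun x hx u v => by rw [hf.adj_spec, hall x hx]
    obtain ⟨a, b, -, hSa, hTb, hab⟩ := factors_reflexive hf hS.ne_zero hT.ne_zero hform
    have hmap : ∀ M : Matrix (Fin 2) (Fin 2) F, M.map (RingEquiv.refl F) = M :=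
      fun M => Matrix.ext fun _ _ => rfl
    rw [hmap] at hSa hTb
    obtain ⟨i, j, hij⟩ : ∃ i j, S i j ≠ 0 := by
      by_contra hn; push Not at hn; exact hS.ne_zero (Matrix.ext hn)
    have e1 : S j i = a * S i j := congrFun (congrFun hSa i) j
    have e2 : S i j = a * S j i := congrFun (congrFun hSa j) i
    have h3 : (a * a - 1) * S i j = 0 := by linear_combination -e2 - a * e1
    rcases mul_self_eq_one_iff.1 (sub_eq_zero.1 ((mul_eq_zero.1 h3).resolve_right hij)) with rfl | rfl
    · exact hsym hS hT (by rw [hSa, one_smul]) hle hform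
    · exact hsym hT hS (by rw [hTb, show b = 1 by linear_combination hab, one_smul])
        (hle.trans (tensorProductSubgroup_swap e P)) (formTensor_swap hform)
  · rcases CfsgLib.SympType57.socle_cases le_rfl hHS hab with ⟨F₁, s, P, c, hs, hc, hc0, hP, hle⟩ |
      ⟨R, k, hk, hp, -, hR, hle⟩
    · exact .subfield F₁ s P c hs hc hc0 hP
        (eq_inf_of_maximal hH hle (not_le_subfield (by norm_num) (subfield_ne_top hs hc) P))
    · obtain rfl : k = 2 := (Nat.pow_right_injective le_rfl (show 2 ^ 2 = 2 ^ k by rw [← hk])).symm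
      exact .extraspecial _ R hp rfl hR (eq_inf_of_maximal hH hle hR.proper)
  · -- tensor powers have an odd number of factors
    exfalso
    obtain ⟨d, t, e, P, B, hd, ht, hn, hB⟩ := CfsgLib.MaxSub.exists_slotPower hf hfix hsp
    obtain rfl : t = 2 := by
      have h1 : 2 ^ t ≤ d ^ t := Nat.pow_le_pow_left hd t
      have h3 : 2 ^ t ≤ 2 ^ 2 := by rw [hcard] at hn; omega
      have := (Nat.pow_le_pow_iff_right (by norm_num : 1 < 2)).1 h3
      omega
    obtain ⟨a, ha, har⟩ := hB.refl
    simp only [RingEquiv.refl_apply] at ha har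
    obtain ⟨c, hc, hform⟩ := hB.form
    obtain ⟨x₀, hx₀⟩ := (hB.nondegenerate (Pi.single ⟨0, by omega⟩ 1) (by simp)).1
    have e1 := hf.refl (CfsgLib.TensorNonmax.ptmul e P fun _ => x₀)
      (CfsgLib.TensorNonmax.ptmul e P fun _ => Pi.single ⟨0, by omega⟩ 1)
    rw [RingEquiv.refl_apply, hform, hform, Finset.prod_const, Finset.prod_const, Finset.card_fin, har x₀,
      mul_pow] at e1
    have hat : a ^ 2 = -1 := mul_right_cancel₀ (mul_ne_zero hc (pow_ne_zero 2 hx₀)) (by linear_combination e1)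
    rw [sq, ha] at hat
    exact h2 (by linear_combination hat)
  · have hPfix : FixesForm (matrixSet P) (ω) := fun s hs => hfix s (Set.image_mono hP.le hs)
    by_cases hreal : ∃ F₀ : Subfield F, F₀ ≠ ⊤ ∧ RealisableOver F₀ (matrixSet P)
    · obtain ⟨F₀, h0, hreal⟩ := hreal
      obtain ⟨F₁, r, C, ζ, hr, hc, hζ, hrat, hle⟩ :=
        AschbacherForms.exists_form_subfield hf h0 hP.normal hP.absIrred hPfix hreal
      exact .subfield F₁ r C ζ hr hc hζ hrat
        (eq_inf_of_maximal hH hle (not_le_subfield (by norm_num) (subfield_ne_top hr hc) C))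
    refine .residual ⟨P, hP.toResidualCore fun F₀ h0 hr => hreal ⟨F₀, h0, hr⟩, ?_, ?_⟩
    · rintro ⟨Q, hQ, hQP⟩
      have hpolfix : FixesForm (matrixSet P) (QuadraticMap.polar Q) := fun s hs u v => by
        simp only [QuadraticMap.polar, ← Matrix.mulVec_add, hQP s hs]
      obtain ⟨c, hc⟩ := fixesForm_smul_eq hf (isSesq_of_bilinear hQ.polar_bilinear) hP.absIrred hPfix hpolfix
      obtain ⟨x, hx⟩ := (hQ.nondegenerate (Pi.single (Sum.inl 0) 1) (by simp)).1
      have e1 := hc x (Pi.single (Sum.inl 0) 1)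
      have e2 := hc (Pi.single (Sum.inl 0) 1) x
      rw [QuadraticMap.polar_comm, hf.refl x, RingEquiv.refl_apply] at e2
      exact hx ((mul_eq_zero.1 (by linear_combination e1 + e2 :
        (2 : F) * QuadraticMap.polar Q x (Pi.single (Sum.inl 0) 1) = 0)).resolve_left h2)
    · rintro ⟨σ, f, hf', hfix'⟩
      exact hreal (AschbacherForms.realisable_of_two_forms hf hf' hP.absIrred hPfix hfix')

end CfsgLib.SympFour57
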