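import Cfsg.Agent.MaxSub.SympStructure

/-!
Normalisers of 2-groups of symplectic type in symplectic groups: the data of the sixth class, groups built from a
system of anticommuting isometries, and properness of the normalisers.
-/

set_option autoImplicit false
set_option linter.unusedSectionVars false
set_option linter.style.haveILetI false

namespace CfsgLib.SympType57

open Matrix Cfsg.Geo CfsgLib.Aschbacher CfsgLib.AschbacherForms CfsgLib.AschbacherSymplectic CfsgLib.MaxSub
open scoped commutatorElement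

attribute [-simp] RingEquiv.coe_refl

variable {m : ℕ} {F : Type*} [Field F] [Fintype F]

local notation "V" => (Fin m ⊕ Fin m → F)
local notation "ω" => Cfsg.sympForm m F
local notation "Sp" => Cfsg.spGL m F
local notation "GV" => GL (Fin m ⊕ Fin m) F

/-- The data of a member of the sixth symplectic class. -/
structure IsSympTypeData (k : ℕ) (R : Subgroup GV) : Prop where
  symplecticType : IsSymplecticTypeGroup 2 R
  absIrred : ActsAbsolutelyIrreducibly (matrixSet R)
  similar : R ≤ similarityGroup (ω)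
  card : Nat.card R = 2 ^ (1 + 2 * k)
  center : Nat.card (Subgroup.center R) = 2
  minus : IsOfMinusType k R
  proper : ¬ Sp ≤ subgroupNormalizer R

/-- A normaliser of a group of exponent four with a non-central involution does not contain the symplectic group. -/
theorem not_le_normalizer (h2 : (2 : F) ≠ 0) {R : Subgroup GV} (hR4 : ∀ z ∈ R, z ^ 4 = 1)
    (hinv : ∃ x ∈ R, x * x = 1 ∧ x ∈ Sp ∧ x ∉ scalars (Fin m ⊕ Fin m) F) :
    ¬ Sp ≤ subgroupNormalizer R := by
  intro hle
  obtain ⟨x, hx, hxx, hxS, hxs⟩ := hinv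
  have hf := isRefl (m := m) (F := F)
  have hxx' : ∀ y : V, mat x *ᵥ (mat x *ᵥ y) = y := fun y => by
    rw [Matrix.mulVec_mulVec, ← Units.val_mul, hxx, Units.val_one, Matrix.one_mulVec]
  obtain ⟨v, hli⟩ : ∃ v : V, LinearIndependent F ![v, mat x *ᵥ v] := by
    by_contra hall
    push Not at hall
    obtain ⟨d, hd⟩ := LinearMap.exists_eq_smul_id_of_forall_notLinearIndependent
      (f := Matrix.toLin' (mat x)) fun v => by simpa [Matrix.toLin'_apply] using hall v
    have hm0 : mat x = d • 1 := Matrix.toLin'.injective (by rw [hd, map_smul, Matrix.toLin'_one]; rfl)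
    by_cases hd0 : d = 0
    · rcases isEmpty_or_nonempty (Fin m ⊕ Fin m) with h | h
      · exact hxs ((mem_scalars_iff x).2 ⟨1, Subsingleton.elim _ _⟩)
      · exact x.isUnit.ne_zero (by show mat x = 0; rw [hm0, hd0, zero_smul])
    · exact hxs ((mem_scalars_iff x).2 ⟨Units.mk0 d hd0, hm0⟩)
  have hv0 : v ≠ 0 := by simpa using hli.ne_zero 0
  have hxv : ω (mat x *ᵥ v) v = 0 := by
    have h1 := CfsgLib.MaxSub.mem_spGL_iff.1 hxS (mat x *ᵥ v) v
    rw [show (x : Matrix (Fin m ⊕ Fin m) (Fin m ⊕ Fin m) F) = mat x from rfl, hxx'] at h1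
    have e := hf.refl v (mat x *ᵥ v)
    rw [RingEquiv.refl_apply] at e
    exact (mul_eq_zero.1 (by linear_combination e - h1 : (2 : F) * ω (mat x *ᵥ v) v = 0)).resolve_left h2
  set g : GV := spTv v 1 with hg
  have hga : ∀ y, mat g *ᵥ y = y + ω y v • v := fun y => by
    rw [hg, spTv_mulVec, one_mul]
  have hgi : ∀ y, mat g⁻¹ *ᵥ y = y - ω y v • v := fun y => by
    apply mulVec_injective g
    show mat g *ᵥ (mat g⁻¹ *ᵥ y) = mat g *ᵥ (y - ω y v • v)
    rw [mulVec_inv_mulVec, hga, hf.sub_left, hf.sesq.smul_left, omega_self, mul_zero, sub_zero,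
      sub_add_cancel]
  set z : GV := g * x * g⁻¹ * x with hz
  have hzR : z ∈ R := mul_mem (((Subgroup.mem_set_normalizer_iff).1 (hle (spTv_mem v 1)) x).1 hx) hx
  have hza : ∀ y, mat z *ᵥ y = y + (ω y v • v - ω (mat x *ᵥ y) v • (mat x *ᵥ v)) := fun y => by
    simp only [hz, mat, Units.val_mul, ← Matrix.mulVec_mulVec]
    change mat g *ᵥ (mat x *ᵥ (mat g⁻¹ *ᵥ (mat x *ᵥ y))) = _
    rw [hgi, Matrix.mulVec_sub, Matrix.mulVec_smul, hxx', hga, hf.sub_left, hf.sesq.smul_left, hxv,
      mul_zero, sub_zero]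
    abel
  have hzv : mat z *ᵥ v = v := by rw [hza, omega_self, hxv]; simp
  have hzxv : mat z *ᵥ (mat x *ᵥ v) = mat x *ᵥ v := by rw [hza, hxv, hxx', omega_self]; simp
  have hM : ∀ y, ω y v • v - ω (mat x *ᵥ y) v • (mat x *ᵥ v) = 0 := fun y => by
    set w := ω y v • v - ω (mat x *ᵥ y) v • (mat x *ᵥ v) with hw
    have hzw : mat z *ᵥ w = w := by
      rw [hw, Matrix.mulVec_sub, Matrix.mulVec_smul, Matrix.mulVec_smul, hzv, hzxv]
    have hzy : mat z *ᵥ y = y + w := hza y
    have h4 := congrArg (fun g : GV => mat g *ᵥ y) (hR4 z hzR)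
    simp only [pow_succ, pow_zero, one_mul, mat, Units.val_mul, Units.val_one, Matrix.one_mulVec,
      ← Matrix.mulVec_mulVec] at h4
    change mat z *ᵥ (mat z *ᵥ (mat z *ᵥ (mat z *ᵥ y))) = y at h4
    simp only [hzy, Matrix.mulVec_add, hzw] at h4
    have h5 : ((2 : F) * 2) • w = 0 := by
      have h6 : w + w + w + w = 0 := by
        have h7 : y + (w + w + w + w) = y + 0 := by
          rw [add_zero]
          refine Eq.trans ?_ h4
          abel
        exact add_left_cancel h7
      rw [← smul_smul, two_smul, two_smul, ← h6]; abel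
    exact (smul_eq_zero.1 h5).resolve_left (mul_ne_zero h2 h2)
  obtain ⟨y, hy⟩ := (hf.nondegenerate v hv0).1
  have h := (LinearIndependent.pair_iff.1 hli (ω y v) (-ω (mat x *ᵥ y) v)
    (by rw [neg_smul, ← sub_eq_add_neg]; exact hM y)).1
  exact hy h

/-- A large group with scalar squares and commutators has an involution that is not a scalar. -/
theorem exists_involution {R : Subgroup GV} [Nonempty (Fin m ⊕ Fin m)]
    (hsc : ∀ c : Fˣ, scHom (Fin m ⊕ Fin m) F c ∈ R ↔ c ^ 2 = 1)
    (hsq : ∀ x ∈ R, x * x ∈ scalars (Fin m ⊕ Fin m) F)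
    (hcomm : ∀ x ∈ R, ∀ y ∈ R, x * y * x⁻¹ * y⁻¹ ∈ scalars (Fin m ⊕ Fin m) F)
    (hbig : 8 < Nat.card R) : ∃ x ∈ R, x * x = 1 ∧ x ∉ scalars (Fin m ⊕ Fin m) F := by
  classical
  have hneg : scHom (Fin m ⊕ Fin m) F (-1) = -1 := Units.ext (by
    show mat (scHom (Fin m ⊕ Fin m) F (-1)) = _
    rw [mat_scHom]
    simp)
  have hscal : ∀ x ∈ R, x ∈ scalars (Fin m ⊕ Fin m) F → x = 1 ∨ x = -1 := by
    intro x hx hs
    obtain ⟨c, rfl⟩ := exists_scHom hs
    rcases sq_eq_one_iff.1 (show ((c : Fˣ) : F) ^ 2 = 1 by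
      rw [← Units.val_pow_eq_pow_val, (hsc c).1 hx, Units.val_one]) with h | h
    · left; rw [show c = 1 from Units.ext h, map_one]
    · right; rw [show c = -1 from Units.ext (by rw [h, Units.val_neg, Units.val_one]), hneg]
  by_contra hall
  push Not at hall
  obtain ⟨x, hx, hxs⟩ : ∃ x ∈ R, x ∉ scalars (Fin m ⊕ Fin m) F := by
    by_contra hno
    push Not at hno
    have hsub : (R : Set GV) ⊆ ↑({1, -1} : Finset GV) := fun y hy => by
      rcases hscal y hy (hno y hy) with h | h <;> simp [h]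
    have h1 := Nat.card_mono (Finset.finite_toSet _) hsub
    rw [Nat.card_coe_set_eq, Nat.card_coe_set_eq, Set.ncard_coe_finset, ← Nat.card_coe_set_eq] at h1
    have h3 : ({1, -1} : Finset GV).card ≤ 2 := Finset.card_le_two
    change Nat.card R ≤ _ at h1
    omega
  have hxx : ∀ y ∈ R, y ∉ scalars (Fin m ⊕ Fin m) F → y * y = -1 := fun y hy hys =>
    (hscal _ (mul_mem hy hy) (hsq y hy)).resolve_left fun h => hys (hall y hy h)
  have hxinv : x⁻¹ = -x := inv_eq_of_mul_eq_one_right (by rw [mul_neg, hxx x hx hxs, neg_neg])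
  have hfour : ∀ y ∈ R, x * y = y * x → y ∈ ({1, -1, x, -x} : Finset GV) := by
    intro y hy hxy
    by_cases hys : y ∈ scalars (Fin m ⊕ Fin m) F
    · rcases hscal y hy hys with h | h <;> simp [h]
    have h1 : x * y * (x * y) = 1 := by
      rw [mul_assoc, ← mul_assoc y, ← hxy, mul_assoc, ← mul_assoc x x, hxx x hx hxs, hxx y hy hys,
        neg_mul_neg, one_mul]
    have hy' : y = x⁻¹ * (x * y) := by group
    rcases hscal _ (mul_mem hx hy) (hall _ (mul_mem hx hy) h1) with h | h
    · rw [hy', h, mul_one, hxinv]; simp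
    · rw [hy', h, hxinv, neg_mul_neg, mul_one]; simp
  by_cases hcom : ∀ y ∈ R, x * y = y * x
  · have h1 := Nat.card_mono (Finset.finite_toSet ({1, -1, x, -x} : Finset GV))
      (fun y hy => hfour y hy (hcom y hy) : (R : Set GV) ⊆ _)
    rw [Nat.card_coe_set_eq, Nat.card_coe_set_eq, Set.ncard_coe_finset, ← Nat.card_coe_set_eq] at h1
    have h3 : ({1, -1, x, -x} : Finset GV).card ≤ 4 := Finset.card_le_four
    change Nat.card R ≤ _ at h1
    omega
  push Not at hcom
  obtain ⟨y₀, hy₀, hne⟩ := hcom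
  have hanti : ∀ y ∈ R, x * y ≠ y * x → x * y = -(y * x) := fun y hy h => by
    rcases hscal _ (mul_mem (mul_mem (mul_mem hx hy) (inv_mem hx)) (inv_mem hy)) (hcomm x hx y hy) with h' | h'
    · exact absurd (by calc x * y = x * y * x⁻¹ * y⁻¹ * (y * x) := by group
                          _ = y * x := by rw [h', one_mul]) h
    · calc x * y = x * y * x⁻¹ * y⁻¹ * (y * x) := by group
        _ = -(y * x) := by rw [h', neg_mul, one_mul]
  let S : Finset GV := {1, -1, x, -x}
  have hsub : (R : Set GV) ⊆ ↑(S ∪ S.image (fun s => y₀⁻¹ * s)) := fun y hy => by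
    rw [Finset.coe_union, Set.mem_union, Finset.mem_coe, Finset.mem_coe]
    by_cases hxy : x * y = y * x
    · exact Or.inl (hfour y hy hxy)
    refine Or.inr (Finset.mem_image.2 ⟨y₀ * y, hfour _ (mul_mem hy₀ hy) ?_, by group⟩)
    rw [← mul_assoc, hanti y₀ hy₀ hne, neg_mul, mul_assoc, hanti y hy hxy, mul_neg, neg_neg, mul_assoc]
  have h1 := Nat.card_mono (Finset.finite_toSet _) hsub
  rw [Nat.card_coe_set_eq, Nat.card_coe_set_eq, Set.ncard_coe_finset, ← Nat.card_coe_set_eq] at h1
  have h3 := Finset.card_union_le S (S.image fun s => y₀⁻¹ * s)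
  have h4 := Finset.card_image_le (s := S) (f := fun s => y₀⁻¹ * s)
  have h5 : S.card ≤ 4 := Finset.card_le_four
  change Nat.card R ≤ _ at h1
  omega

/-- The sixth class data of a section of an abelian socle. -/
theorem data_of_section (hm : 2 ≤ m) (h2 : (2 : F) ≠ 0) (hp : (Fintype.card F).Prime) {H E : Subgroup GV}
    (hS : SocleData H E 2) {k : ℕ} (hcard : 2 * m = 2 ^ k) {R : Subgroup GV} (hR : SocleSection E R 2)
    (hRS : R ≤ Sp) (hRn : Normalizes H R) : IsSympTypeData k R := by
  classical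
  haveI : Nonempty (Fin m ⊕ Fin m) := ⟨Sum.inl ⟨0, by omega⟩⟩
  have hn : Fintype.card (Fin m ⊕ Fin m) = 2 * m := by simp [two_mul]
  have hfix : FixesForm (matrixSet R) (ω) := fixes_of_le hRS
  have hζ : IsPrimitiveRoot (-1 : Fˣ) 2 := by
    haveI : Fact (Nat.Prime 2) := ⟨Nat.prime_two⟩
    rw [← orderOf_eq_prime (show (-1 : Fˣ) ^ 2 = 1 by simp) fun h => h2 (by
      have : (-1 : F) = 1 := by simpa using congrArg Units.val h
      linear_combination -this)]
    exact IsPrimitiveRoot.orderOf _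
  have hsq : ∀ x ∈ R, x ^ 2 ∈ scalars (Fin m ⊕ Fin m) F := fun x hx => hS.pow_mem x (hR.le hx)
  have hfour : ∀ x ∈ R, x ^ 4 = 1 := by
    intro x hx
    obtain ⟨c, hc⟩ := exists_scHom (hsq x hx)
    have hc2 : c ^ 2 = 1 := (hR.scalar_iff c).1 (hc ▸ pow_mem hx 2)
    rw [show 4 = 2 * 2 from rfl, pow_mul, hc, ← map_pow, hc2, map_one]
  have hexp : Monoid.exponent R = 4 := by
    have hd : Monoid.exponent R ∣ 4 := Monoid.exponent_dvd_of_forall_pow_eq_one fun x =>
      Subtype.ext (hfour x.1 x.2)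
    obtain ⟨i, hi, he⟩ := (Nat.dvd_prime_pow Nat.prime_two (m := 2)).1 hd
    by_contra hne
    obtain ⟨x, hx, y, hy, hxy⟩ := hR.exists_not_comm hS (by omega)
    have hd2 : Monoid.exponent R ∣ 2 := by
      rw [he]
      have : i ≤ 1 := by
        by_contra hlt
        exact hne (by rw [he, show i = 2 by omega]; norm_num)
      exact pow_dvd_pow 2 this |>.trans (by norm_num)
    have hinv : ∀ z : R, z⁻¹ = z := fun z => by
      refine inv_eq_of_mul_eq_one_right ?_
      rw [← sq]
      exact Monoid.exponent_dvd_iff_forall_pow_eq_one.1 hd2 z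
    refine hxy (congrArg Subtype.val (?_ : (⟨x, hx⟩ : R) * ⟨y, hy⟩ = ⟨y, hy⟩ * ⟨x, hx⟩))
    rw [← hinv (⟨x, hx⟩ * ⟨y, hy⟩), _root_.mul_inv_rev, hinv, hinv]
  have hRcard : Nat.card R = 2 ^ (1 + 2 * k) := by
    rw [hR.card hS two_pos hζ, hn, hcard, ← pow_mul, ← pow_succ']
    congr 1
    ring
  refine ⟨⟨Nat.prime_two, fun x => ⟨2, Subtype.ext (hfour x.1 x.2)⟩, hR.cyclic hS hRn, by rw [hexp]; rfl⟩,
    hR.absIrred hS,
    fun x hx => ⟨1, fun u v => by rw [Units.val_one, one_mul]; exact hfix _ (mem_matrixSet hx) u v⟩,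
    hRcard, hR.center_card hS two_pos hζ, ?_, ?_⟩
  · intro A hA hA2
    haveI := hA
    have hbound := card_le_of_involutions hS isSymplecticForm_sympForm h2 hp
      (by rw [hn, hcard, Nat.cast_pow]; exact pow_ne_zero _ (by exact_mod_cast h2)) (A := A.map R.subtype)
      (by rintro _ ⟨a, -, rfl⟩; exact hR.le a.2)
      (by
        rintro _ ⟨a, ha, rfl⟩ _ ⟨b, hb, rfl⟩
        exact congrArg (fun z : A => (z.1.1 : GV)) (mul_comm' ⟨a, ha⟩ ⟨b, hb⟩))
      (by rintro _ ⟨a, ha, rfl⟩; exact congrArg (fun z : R => z.1) (hA2 a ha))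
      (by rintro _ ⟨a, -, rfl⟩ u v; exact hfix _ (mem_matrixSet a.2) u v)
    rw [Subgroup.card_map_of_injective R.subtype_injective, hn, hcard] at hbound
    exact lt_of_le_of_lt hbound (Nat.pow_lt_pow_right (by norm_num) (by omega))
  · have hk : 2 ≤ k := by
      by_contra hk
      have : 2 ^ k ≤ 2 ^ 1 := Nat.pow_le_pow_right (by norm_num) (by omega)
      omega
    obtain ⟨x, hx, hxx, hxs⟩ := exists_involution hR.scalar_iff
      (fun x hx => by rw [← sq]; exact hsq x hx) (fun x hx y hy => hS.comm x (hR.le hx) y (hR.le hy))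
      (by
        rw [hRcard]
        calc 8 < 2 ^ 5 := by norm_num
          _ ≤ _ := Nat.pow_le_pow_right (by norm_num) (by omega))
    exact not_le_normalizer h2 hfour ⟨x, hx, hxx, hRS hx, hxs⟩

/-- An abelian socle gives a subfield group or the data of the sixth class, with its degree. -/
theorem socle_cases (hm : 2 ≤ m) {H : Subgroup GV} (hH : H ≤ Sp) (hab : HasAbelianSocle H) :
    (∃ (F₁ : Subfield F) (s : ℕ) (P : GV) (c : F), s.Prime ∧ Fintype.card F = Nat.card F₁ ^ s ∧ c ≠ 0 ∧
      IsFormRationalStructure (ω) F₁ c P ∧ H ≤ subfieldSubgroup F₁ P) ∨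
    ∃ (R : Subgroup GV) (k : ℕ), 2 * m = 2 ^ k ∧ (Fintype.card F).Prime ∧ Odd (Fintype.card F) ∧
      IsSympTypeData k R ∧ H ≤ subgroupNormalizer R := by
  classical
  haveI : Nonempty (Fin m ⊕ Fin m) := ⟨Sum.inl ⟨0, by omega⟩⟩
  have hf := isRefl (m := m) (F := F)
  have hn : Fintype.card (Fin m ⊕ Fin m) = 2 * m := by simp [two_mul]
  obtain ⟨E, r, j, hS, hcard, hEH⟩ := exists_socleData_le hab
  obtain rfl : r = 2 := ((Nat.prime_dvd_prime_iff_eq Nat.prime_two hS.prime).1
    (Nat.prime_two.dvd_of_dvd_pow (hcard ▸ hn.symm ▸ dvd_mul_right 2 m))).symm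
  obtain ⟨i₀⟩ : Nonempty (Fin m ⊕ Fin m) := inferInstance
  have hscal : ∀ c : Fˣ, scHom (Fin m ⊕ Fin m) F c ∈ Sp ↔ c ^ 2 = 1 := by
    intro c
    rw [CfsgLib.MaxSub.mem_spGL_iff]
    have key : ∀ u v, ω (mat (scHom (Fin m ⊕ Fin m) F c) *ᵥ u)
        (mat (scHom (Fin m ⊕ Fin m) F c) *ᵥ v) = (c : F) ^ 2 * ω u v := fun u v => by
      rw [mat_scHom, smul_mulVec, smul_mulVec, one_mulVec, one_mulVec, hf.sesq.smul_left,
        hf.sesq.smul_right, RingEquiv.refl_apply]
      ring
    constructor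
    · intro h
      obtain ⟨x, hx⟩ := (hf.nondegenerate (Pi.single i₀ 1) (by simp)).2
      refine Units.ext ((mul_eq_right₀ hx).1 ?_)
      rw [Units.val_pow_eq_pow_val, ← key]
      exact h _ _
    · intro h u v
      refine (key u v).trans ?_
      rw [← Units.val_pow_eq_pow_val, h, Units.val_one, one_mul]
  let R := E ⊓ Sp
  have hR : SocleSection E R 2 := ⟨inf_le_left, fun x hx => by
      obtain ⟨c, hc⟩ := hEH x hx
      exact ⟨c, mul_mem (hS.scalars_le (scHom_mem c)) hx, hH hc⟩,
    fun c => ⟨fun h => (hscal c).1 h.2, fun h => ⟨hS.scalars_le (scHom_mem c), (hscal c).2 h⟩⟩⟩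
  have hRn : Normalizes H R := fun g hg x hx =>
    Subgroup.mem_inf.2 ⟨hS.normal g hg x hx.1, mul_mem (mul_mem (hH hg) hx.2) (inv_mem (hH hg))⟩
  have habs := hR.absIrred hS
  have h2 : (2 : F) ≠ 0 := by
    intro h2
    haveI : CharP F 2 := CharTwo.of_one_ne_zero_of_two_eq_zero one_ne_zero h2
    obtain ⟨κ, hκ⟩ := hS.exists_kappa
    obtain ⟨x, hx, y, hy, hxy⟩ := exists_kappa_ne_one hS (by omega) hκ
    refine hxy (Units.ext (?_ : ((κ x y : Fˣ) : F) = 1))
    have h1 : ((κ x y : Fˣ) : F) ^ 2 = 1 := by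
      rw [← Units.val_pow_eq_pow_val, kappa_pow_eq_one hS hκ hx hy, Units.val_one]
    rcases sq_eq_one_iff.1 h1 with h | h
    · exact h
    · rw [h, CharTwo.neg_eq]
  by_cases hp : (Fintype.card F).Prime
  swap
  · left
    have h0 := AschbacherOrth.bot_subfield_ne_top hp
    have hreal : RealisableOver (⊥ : Subfield F) (matrixSet R) := hR.realisable hS fun c hc => by
      have h1 : (c : F) ^ 2 = 1 := by rw [← Units.val_pow_eq_pow_val, hc, Units.val_one]
      rcases sq_eq_one_iff.1 h1 with h | h <;> rw [h]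
      · exact Subfield.one_mem _
      · exact Subfield.neg_mem _ (Subfield.one_mem _)
    exact AschbacherForms.exists_form_subfield hf h0 hRn habs (fixes_of_le inf_le_right) hreal
  refine Or.inr ⟨R, j, by rw [← hn, hcard], hp, ?_, data_of_section hm h2 hp hS (by rw [← hn, hcard]) hR
    inf_le_right hRn, fun g hg => mem_subgroupNormalizer_of (hRn g hg)⟩
  refine hp.odd_of_ne_two fun h => h2 ?_
  have := FiniteField.cast_card_eq_zero F
  rw [h] at this
  exact_mod_cast this

/-- A group whose matrices span everything acts absolutely irreducibly. -/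
theorem absIrred_of_span {ι : Type} [Fintype ι] [DecidableEq ι] {S : Set (Matrix ι ι F)}
    (h : Submodule.span F S = ⊤) : ActsAbsolutelyIrreducibly S := by
  refine ⟨fun W hW => ?_, fun M hM => ?_⟩
  · have hall : ∀ A : Matrix ι ι F, ∀ w ∈ W, A *ᵥ w ∈ W := by
      intro A
      have hA : A ∈ Submodule.span F S := h ▸ Submodule.mem_top
      induction hA using Submodule.span_induction with
      | mem x hx => exact fun w hw => hW x hx ⟨w, hw, Matrix.toLin'_apply x w⟩
      | zero => exact fun w _ => by rw [Matrix.zero_mulVec]; exact W.zero_mem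
      | add x y _ _ ihx ihy => exact fun w hw => by rw [Matrix.add_mulVec]; exact W.add_mem (ihx w hw) (ihy w hw)
      | smul c x _ ih => exact fun w hw => by rw [Matrix.smul_mulVec]; exact W.smul_mem c (ih w hw)
    refine (eq_or_ne W ⊥).imp id fun h0 => eq_top_iff.2 fun v _ => ?_
    obtain ⟨w, hw, hw0⟩ := Submodule.exists_mem_ne_zero_of_ne_bot h0
    obtain ⟨φ, hφ, -⟩ := exists_dual_of_notMem (W := (⊥ : Submodule F (ι → F))) (u := w) (by simpa using hw0)
    have hv := hall (vecMulVec v φ) w hw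
    rwa [Matrix.vecMulVec_mulVec, op_smul_eq_smul, hφ, one_smul] at hv
  · have hall : ∀ A : Matrix ι ι F, Commute M A := by
      intro A
      have hA : A ∈ Submodule.span F S := h ▸ Submodule.mem_top
      induction hA using Submodule.span_induction with
      | mem x hx => exact hM x hx
      | zero => exact Commute.zero_right _
      | add x y _ _ ihx ihy => exact ihx.add_right ihy
      | smul c x _ ih => exact ih.smul_right c
    obtain ⟨c, hc⟩ := Matrix.mem_range_scalar_of_commute_single (M := M) fun i j _ => (hall _).symm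
    exact ⟨c, by rw [← hc, Matrix.scalar_apply, Matrix.smul_one_eq_diagonal]⟩

/-- Groups of symplectic type from a system of isometries closed up to sign. -/
theorem exists_of_system (hm : 2 ≤ m) (h2 : (2 : F) ≠ 0) (hp : (Fintype.card F).Prime) {k : ℕ}
    (hk : 2 * m = 2 ^ k) {κ : Type*} (u : κ → GV) (hu : ∀ i, u i ∈ Sp) (hone : ∃ i, u i = 1)
    (hmul : ∀ i j, ∃ l, u i * u j = u l ∨ u i * u j = -u l)
    (hcomm : ∀ i j, u i * u j = u j * u i ∨ u i * u j = -(u j * u i))
    (hsq : ∀ i, u i * u i = 1 ∨ u i * u i = -1)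
    (hspan : Submodule.span F (Set.range fun i => mat (u i)) = ⊤)
    (hanti : ∀ i, u i = 1 ∨ u i = -1 ∨ ∃ j, u j * u j = -1 ∧ u i * u j = -(u j * u i)) :
    ∃ R : Subgroup GV, IsSympTypeData k R ∧
      ∀ g : GV, (∀ i, ∃ l, g * u i * g⁻¹ = u l ∨ g * u i * g⁻¹ = -u l) → g ∈ subgroupNormalizer R := by
  classical
  haveI : Nonempty (Fin m ⊕ Fin m) := ⟨Sum.inl ⟨0, by omega⟩⟩
  have hf := isRefl (m := m) (F := F)
  obtain ⟨i₁, hi₁⟩ := hone
  let T : Submonoid GV :=
    { carrier := {x | ∃ i, x = u i ∨ x = -u i}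
      one_mem' := ⟨i₁, Or.inl hi₁.symm⟩
      mul_mem' := by
        rintro x y ⟨i, hi⟩ ⟨j, hj⟩
        obtain ⟨l, hl⟩ := hmul i j
        refine ⟨l, ?_⟩
        rcases hi with rfl | rfl <;> rcases hj with rfl | rfl <;> rcases hl with h | h <;>
          simp [h] }
  let R : Subgroup GV :=
    { T with
      inv_mem' := fun {x} hx => by
        have h : x⁻¹ = x ^ (orderOf x - 1) := by
          refine inv_eq_of_mul_eq_one_right ?_
          rw [← pow_succ', Nat.sub_add_cancel (orderOf_pos x), pow_orderOf_eq_one]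
        rw [h]
        exact T.pow_mem hx _ }
  have hmem : ∀ x, x ∈ R ↔ ∃ i, x = u i ∨ x = -u i := fun x => Iff.rfl
  have huR : ∀ i, u i ∈ R := fun i => ⟨i, Or.inl rfl⟩
  have hnR : ∀ i, -u i ∈ R := fun i => ⟨i, Or.inr rfl⟩
  have hneg : scHom (Fin m ⊕ Fin m) F (-1) = -1 := Units.ext (by
    show mat (scHom (Fin m ⊕ Fin m) F (-1)) = _
    rw [mat_scHom]
    simp)
  have hm1 : (-1 : GV) ∈ scalars (Fin m ⊕ Fin m) F := hneg ▸ scHom_mem _
  have hnegS : (-1 : GV) ∈ Sp := by
    rw [CfsgLib.MaxSub.mem_spGL_iff]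
    intro a b
    simp [Matrix.neg_mulVec, hf.neg_left, hf.neg_right]
  have hRS : R ≤ Sp := by
    rintro x ⟨i, rfl | rfl⟩
    · exact hu i
    · rw [← neg_one_mul]; exact mul_mem hnegS (hu i)
  have hsqR : ∀ x ∈ R, x * x ∈ scalars (Fin m ⊕ Fin m) F := by
    rintro x ⟨i, rfl | rfl⟩ <;> rcases hsq i with h | h <;>
      simp only [neg_mul_neg, h] <;> first | exact one_mem _ | exact hm1
  have hcommR : ∀ x ∈ R, ∀ y ∈ R, x * y = y * x ∨ x * y = -(y * x) := by
    rintro x ⟨i, rfl | rfl⟩ y ⟨j, rfl | rfl⟩ <;> rcases hcomm i j with h | h <;> simp [h]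
  have hnormR : ∀ g : GV, (∀ i, ∃ l, g * u i * g⁻¹ = u l ∨ g * u i * g⁻¹ = -u l) → g ∈ subgroupNormalizer R := by
    intro g hg
    refine mem_subgroupNormalizer_of ?_
    rintro x ⟨i, rfl | rfl⟩ <;> obtain ⟨l, hl⟩ := hg i
    · exact ⟨l, hl⟩
    · refine ⟨l, ?_⟩
      rw [mul_neg, neg_mul]
      rcases hl with h | h <;> simp [h]
  let N := subgroupNormalizer R
  have hRn : Normalizes N R := fun g hg x hx => ((Subgroup.mem_set_normalizer_iff).1 hg x).1 hx
  let E := R ⊔ scalars (Fin m ⊕ Fin m) F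
  have hspanR : Submodule.span F (matrixSet R) = ⊤ := top_le_iff.1 (hspan ▸ Submodule.span_mono
    (Set.range_subset_iff.2 fun i => mem_matrixSet (huR i)))
  have hS : SocleData N E 2 := by
    refine ⟨Nat.prime_two, le_sup_right, normalizes_sup_scalars hRn,
      absIrred_mono (Set.image_mono (le_sup_left : R ≤ E)) (absIrred_of_span hspanR), ?_, ?_, ?_⟩
    · intro x hx y hy
      obtain ⟨a, ha, s, hs, rfl⟩ := Subgroup.mem_sup_of_normal_right.1 hx
      obtain ⟨b, hb, t, ht, rfl⟩ := Subgroup.mem_sup_of_normal_right.1 hy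
      rw [← commutatorElement_def, commutatorElement_mul_scalar hs ht, commutatorElement_def]
      rcases hcommR a ha b hb with h | h <;> rw [h]
      · simp
      · rw [show -(b * a) * a⁻¹ * b⁻¹ = (-1 : GV) by simp [mul_assoc]]
        exact hm1
    · intro x hx
      obtain ⟨a, ha, s, hs, rfl⟩ := Subgroup.mem_sup_of_normal_right.1 hx
      rw [Commute.mul_pow (scalars_comm hs).symm, sq a]
      exact mul_mem (hsqR a ha) (pow_mem hs 2)
    · intro M hME hMn hMc w hw
      obtain ⟨a, ha, s, hs, rfl⟩ := Subgroup.mem_sup_of_normal_right.1 (hME hw)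
      obtain ⟨i, hi⟩ := ha
      rcases hanti i with h | h | ⟨j, hjj, hij⟩
      · rcases hi with rfl | rfl <;> rw [h]
        · rwa [one_mul]
        · exact mul_mem hm1 hs
      · rcases hi with rfl | rfl <;> rw [h]
        · exact mul_mem hm1 hs
        · rwa [neg_neg, one_mul]
      exfalso
      set y := u j with hy
      have hay : a * y = -(y * a) := by
        rcases hi with rfl | rfl <;> simp [hij]
      have hyM : mat y * mat y = -1 := by
        have := congrArg mat hjj
        simpa [mat] using this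
      have h22 : ((1 : Matrix (Fin m ⊕ Fin m) (Fin m ⊕ Fin m) F) + mat y) * (1 - mat y) = (2 : F) • 1 := by
        rw [two_smul, add_mul, one_mul, mul_sub, mul_one, hyM]; abel
      let gy : GV :=
        { val := 1 + mat y
          inv := (2 : F)⁻¹ • (1 - mat y)
          val_inv := by rw [Matrix.mul_smul, h22, smul_smul, inv_mul_cancel₀ h2, one_smul]
          inv_val := by
            rw [Matrix.smul_mul, sub_mul, one_mul, mul_add, mul_one, hyM,
              show (1 : Matrix (Fin m ⊕ Fin m) (Fin m ⊕ Fin m) F) + mat y - (mat y + -1) = (2 : F) • 1 by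
                rw [two_smul]; abel, smul_smul, inv_mul_cancel₀ h2, one_smul] }
      have hcase : ∀ z : GV, (z * y = -(y * z) → gy * z * gy⁻¹ = y * z) ∧
          (z * y = y * z → gy * z * gy⁻¹ = z) := by
        intro z
        constructor <;> intro hz <;> rw [mul_inv_eq_iff_eq_mul] <;> apply Units.ext <;>
          have hz' := congrArg mat hz <;> simp only [mat, Units.val_mul, Units.val_neg] at hz' ⊢
        · show ((1 : Matrix _ _ F) + mat y) * mat z = mat y * mat z * (1 + mat y)
          rw [add_mul, one_mul, mul_add, mul_one, mul_assoc, show mat z * mat y = -(mat y * mat z) from hz',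
            mul_neg, ← mul_assoc, hyM, neg_mul, one_mul, neg_neg, add_comm]
        · show ((1 : Matrix _ _ F) + mat y) * mat z = mat z * (1 + mat y)
          rw [add_mul, one_mul, mul_add, mul_one, show mat z * mat y = mat y * mat z from hz']
      have hgyN : gy ∈ N := mem_subgroupNormalizer_of fun z hz => by
        rcases hcommR z hz y (huR j) with h | h
        · rw [(hcase z).2 h]; exact hz
        · rw [(hcase z).1 h]; exact mul_mem (huR j) hz
      have hconj := hMn gy hgyN _ hw
      rw [conj_mul_scalar hs, (hcase a).1 hay] at hconj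
      have h1 := hMc _ hw _ hconj
      have h3 : a * (y * a) = y * a * a := by
        have e1 : a * s * (y * a * s) = a * (y * a) * (s * s) := by
          rw [mul_assoc a s, ← mul_assoc s, scalars_comm hs, mul_assoc, ← mul_assoc a]
        have e2 : y * a * s * (a * s) = y * a * a * (s * s) := by
          rw [mul_assoc (y * a) s, ← mul_assoc s a, scalars_comm hs, mul_assoc a s, ← mul_assoc (y * a)]
        rw [e1, e2] at h1
        exact mul_right_cancel h1
      rw [← mul_assoc, hay, neg_mul] at h3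
      have h4 := congrArg mat h3
      simp only [mat, Units.val_neg] at h4
      set A := ((y * a * a : GV) : Matrix (Fin m ⊕ Fin m) (Fin m ⊕ Fin m) F) with hA
      have h5 : (2 : F) • A = 0 := by rw [two_smul]; nth_rw 1 [← h4]; exact neg_add_cancel A
      exact (y * a * a).isUnit.ne_zero ((smul_eq_zero.1 h5).resolve_left h2)
  have hR : SocleSection E R 2 := by
    refine ⟨le_sup_left, fun x hx => ?_, fun c => ⟨fun h => ?_, fun h => ?_⟩⟩
    · obtain ⟨a, ha, s, hs, rfl⟩ := Subgroup.mem_sup_of_normal_right.1 hx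
      obtain ⟨c, rfl⟩ := exists_scHom hs
      refine ⟨c⁻¹, ?_⟩
      rw [scHom_comm, mul_assoc, ← map_mul, mul_inv_cancel, map_one, mul_one]
      exact ha
    · obtain ⟨x, hx⟩ := (hf.nondegenerate (Pi.single (Classical.arbitrary (Fin m ⊕ Fin m)) 1) (by simp)).1
      have h1 := CfsgLib.MaxSub.mem_spGL_iff.1 (hRS h) x (Pi.single (Classical.arbitrary _) 1)
      rw [show ((scHom (Fin m ⊕ Fin m) F c : GV) : Matrix (Fin m ⊕ Fin m) (Fin m ⊕ Fin m) F) =
          (c : F) • (1 : Matrix (Fin m ⊕ Fin m) (Fin m ⊕ Fin m) F) from mat_scHom c,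
        Matrix.smul_mulVec, Matrix.smul_mulVec, one_mulVec, one_mulVec, hf.sesq.smul_left, hf.sesq.smul_right,
        RingEquiv.refl_apply, ← mul_assoc, mul_eq_right₀ hx] at h1
      exact Units.ext (by rw [Units.val_pow_eq_pow_val, sq, h1, Units.val_one])
    · rcases sq_eq_one_iff.1 (show ((c : Fˣ) : F) ^ 2 = 1 by
        rw [← Units.val_pow_eq_pow_val, h, Units.val_one]) with h | h
      · rw [show c = 1 from Units.ext h, map_one]; exact R.one_mem
      · rw [show c = -1 from Units.ext (by rw [h, Units.val_neg, Units.val_one]), hneg]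
        exact ⟨i₁, Or.inr (by rw [hi₁])⟩
  exact ⟨R, data_of_section hm h2 hp hS hk hR hRS hRn, hnormR⟩

end CfsgLib.SympType57
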